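import Cfsg.Agent.Omega.NO3S.MidB.JDef

/-!
# TYPE N is impossible, K-free: (2) (DIST) (bb OMEGA #18317, TCARD 5 #19054, part B)

`h : TF S P V Z`.

* `TF.exists_jo_dist` : something is joined to `A` at `R`;
* `TF.exists_moved` : `1 ≠ α ∈ A` is moved by some `U_X`, `X ~ R`;
* `exists_conj_of_max` : a 2-subgroup of maximal order of `E` contains a conjugate of every 2-element of `E`;
* `TF.dist` : `JSym → JVal → JDist`.
-/

set_option autoImplicit false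
set_option linter.unusedSectionVars false

namespace Cfsg.Agent.Omega.NO3S.MidB

open Subgroup Cfsg.Agent.Omega.NO3S.PT Cfsg.Agent.Omega.NoFF.Basic Cfsg.Agent.ZN
open Cfsg.Agent.Omega.NO3S.MidQ (Adj Com Cr UU Jo le_UU isCj_iff UU_cj)
open scoped Pointwise

variable {G : Type*} [Group G] {V Z X Y R L A C : Subgroup G}

/-- a 2-subgroup `T` of maximal order of `E` contains a conjugate (in `E`) of every 2-element of `E` -/
theorem exists_conj_of_max [Finite G] {E T : Subgroup G} (hT : IsPGroup 2 T) (hTE : T ≤ E)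
    (hmax : ∀ D : Subgroup G, IsPGroup 2 D → D ≤ E → Nat.card D ≤ Nat.card T) {t : G} (ht : TwoEl t) (htE : t ∈ E) :
    ∃ e ∈ E, e⁻¹ * t * e ∈ T := by
  have : Fact (Nat.Prime 2) := ⟨Nat.prime_two⟩
  obtain ⟨Q, hQ⟩ := (hT.comap_subtype (K := E)).exists_le_sylow
  have hTQ : T = (Q : Subgroup E).map E.subtype := by
    refine Subgroup.eq_of_le_of_card_ge ?_ ?_
    · intro x hx
      exact ⟨⟨x, hTE hx⟩, hQ (show (⟨x, hTE hx⟩ : E) ∈ T.comap E.subtype from hx), rfl⟩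
    · exact hmax _ (Q.isPGroup'.map _) (map_subtype_le _)
  obtain ⟨Q', hQ'⟩ := (ht.isPGroup.comap_subtype (K := E)).exists_le_sylow
  obtain ⟨e, he⟩ := MulAction.exists_smul_eq E Q Q'
  refine ⟨e, e.2, ?_⟩
  have h1 : (⟨t, htE⟩ : E) ∈ Q' := hQ' (show (⟨t, htE⟩ : E) ∈ (zpowers t).comap E.subtype from mem_zpowers t)
  rw [← he] at h1
  have h2 : (⟨t, htE⟩ : E) ∈ ((e • Q : Sylow 2 E) : Subgroup E) := h1
  rw [Sylow.coe_subgroup_smul] at h2
  rw [Subgroup.mem_pointwise_smul_iff_inv_smul_mem] at h2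
  have h3 : e⁻¹ * (⟨t, htE⟩ : E) * e ∈ (Q : Subgroup E) := by
    have h4 : (MulAut.conj e)⁻¹ • (⟨t, htE⟩ : E) = e⁻¹ * (⟨t, htE⟩ : E) * e := by
      rw [← map_inv, MulAut.smul_def, MulAut.conj_apply, inv_inv]
    rwa [← h4]
  rw [hTQ]
  exact ⟨_, h3, rfl⟩

namespace TF

variable [Finite G] {S : Sylow 2 G} {P : Subgroup G} (h : TF S P V Z)
include h

/-- something is joined to `A` at `R` -/
theorem exists_jo_dist (hA : Adj V Z A R) : ∃ X, Jo V Z R A X := by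
  by_contra hcon
  push Not at hcon
  obtain ⟨B, hB⟩ := h.exists_crit hA.symm
  have h0 : R ≤ centralizer ((UU V Z A : Subgroup G) : Set G) :=
    le_centralizer_iff.1 (h.UU_le_cent_adj hA.symm)
  have h1 : ws V R ≤ centralizer ((UU V Z A : Subgroup G) : Set G) := by
    refine h.ws_le_of hA.right h0 fun X hX => ?_
    by_contra h2
    exact hcon X ⟨hA, hX, h2⟩
  exact hB.ne (h1.trans (centralizer_le (le_UU hB.r.symm)))

/-- `1 ≠ α ∈ A` is moved by some `U_X` -/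
theorem exists_moved (hs : JSym V Z) (hA : Adj V Z A R) {α : G} (hα : α ∈ A) (hα1 : α ≠ 1) :
    ∃ X, Adj V Z X R ∧ ∃ u ∈ UU V Z X, u * α ≠ α * u := by
  by_contra hcon
  push Not at hcon
  obtain ⟨X, hX⟩ := h.exists_jo_dist hA
  have h1 := hs _ _ _ hX
  refine h1.mv fun a ha => mem_centralizer_iff.2 fun u hu => ?_
  exact h.t3 hA.symm (h.twoEl_UU hu)
    (fun y hy => (mem_centralizer_iff.1 (h.UU_le_cent_adj h1.l.symm hu) y hy).symm) hα hα1 (hcon X h1.l u hu) a ha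

/-- **(2) (DIST)** -/
theorem dist (hs : JSym V Z) (hv : JVal V Z) : JDist V Z := by
  intro R A C hA hC α hα γ hγ hu
  have hR := hA.right
  have hαW : α ∈ ws V R := h.adj_le_ws hA.symm hα
  have hγW : γ ∈ ws V R := h.adj_le_ws hC.symm hγ
  by_cases hα1 : α = 1
  · subst hα1
    by_cases hγ1 : γ = 1
    · rw [hγ1, one_mul]; exact one_mem _
    · exfalso
      obtain ⟨X, hX, u, huX, hne⟩ := h.exists_moved hs hC hγ hγ1
      have := hu X hX u huX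
      rw [one_mul] at this
      exact hne this
  by_cases hγ1 : γ = 1
  · subst hγ1
    exfalso
    obtain ⟨X, hX, u, huX, hne⟩ := h.exists_moved hs hA hα hα1
    have := hu X hX u huX
    rw [mul_one] at this
    exact hne this
  -- (i)
  have hi : ∀ X, Adj V Z X R → ∀ g ∈ UU V Z X, g * γ = γ * g → g * α = α * g := by
    intro X hX g hg h1
    have h2 := hu X hX g hg
    have h3 : g * α * γ = α * g * γ := by
      rw [mul_assoc, h2, mul_assoc, mul_assoc, ← h1]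
    exact mul_right_cancel h3
  -- (ii)
  obtain ⟨X, hX⟩ := h.exists_jo_dist hA
  have hXA := hs _ _ _ hX
  have hXC : Jo V Z R X C := by
    refine ⟨hX.r, hC, fun hle => ?_⟩
    refine hXA.mv fun a ha => mem_centralizer_iff.2 fun u huX => ?_
    have h1 : u * γ = γ * u := mem_centralizer_iff.1 (hle hγ) u huX
    exact h.t3 hA.symm (h.twoEl_UU huX)
      (fun y hy => (mem_centralizer_iff.1 (h.UU_le_cent_adj hX.r.symm huX) y hy).symm) hα hα1
      (hi X hX.r u huX h1) a ha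
  have hCX := hs _ _ _ hXC
  obtain ⟨ξ, hξ, hξ1⟩ := h.pt_ne_bot hX.r.left
  have hξW : ξ ∈ ws V R := h.adj_le_ws hX.r.symm hξ
  obtain ⟨τ, hτ, hτξ⟩ := hv R A X hX ξ hξ hξ1 α hα
  obtain ⟨τ', hτ', hτξ'⟩ := hv R C X hCX ξ hξ hξ1 γ hγ
  have hτ'γ : τ' * γ = γ * τ' := (mem_centralizer_iff.1 (h.UU_le_cent_pt hC.left hτ') γ hγ).symm
  have hτ'α := hi C hC τ' hτ' hτ'γ
  -- `t = τ' τ`
  set u0 := α * γ with hu0
  have hαγ : α * γ = γ * α := h.ws_comm hR hαW hγW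
  have hu0W : u0 ∈ ws V R := mul_mem hαW hγW
  have hu0sq : u0 * u0 = 1 := h.ws_sq hR hu0W
  have ht1 : (τ' * τ) * ξ * (τ' * τ)⁻¹ = u0 * ξ := by
    have h1 : τ * ξ * τ⁻¹ = α * ξ := by rw [← hτξ]; group
    have h2 : τ' * ξ * τ'⁻¹ = γ * ξ := by rw [← hτξ']; group
    calc (τ' * τ) * ξ * (τ' * τ)⁻¹ = τ' * (τ * ξ * τ⁻¹) * τ'⁻¹ := by group
      _ = τ' * α * τ'⁻¹ * (τ' * ξ * τ'⁻¹) := by rw [h1]; group
      _ = α * (γ * ξ) := by rw [hτ'α, mul_inv_cancel_right, h2]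
      _ = u0 * ξ := by rw [hu0, mul_assoc]
  have htR : τ' * τ ∈ centralizer (R : Set G) :=
    mul_mem (h.UU_le_cent_adj hC.symm hτ') (h.UU_le_cent_adj hA.symm hτ)
  -- `R0`
  let R0 : Subgroup G :=
    { carrier := {w | w ∈ ws V R ∧ ∀ Y, Adj V Z Y R → ∀ u ∈ UU V Z Y, u * w = w * u}
      one_mem' := ⟨one_mem _, fun _ _ u _ => by rw [mul_one, one_mul]⟩
      mul_mem' := by
        rintro a b ⟨ha, ha'⟩ ⟨hb, hb'⟩
        exact ⟨mul_mem ha hb, fun Y hY u hu => by rw [← mul_assoc, ha' Y hY u hu, mul_assoc, hb' Y hY u hu, mul_assoc]⟩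
      inv_mem' := by
        rintro a ⟨ha, ha'⟩
        exact ⟨inv_mem ha, fun Y hY u hu => by
          rw [mul_inv_eq_iff_eq_mul, mul_assoc, ha' Y hY u hu, inv_mul_cancel_left]⟩ }
  have hR0W : R0 ≤ ws V R := fun w hw => hw.1
  have hR0N : ∀ g ∈ centralizer (R : Set G), ∀ w ∈ R0, g * w * g⁻¹ ∈ R0 := by
    intro g hg w hw
    have hgR : PT.cj g R = R := cj_eq_iff.2 (centralizer_le_normalizer _ hg)
    refine ⟨(mem_normalizer_iff.1 (normalizer_le_ws V R (centralizer_le_normalizer _ hg)) w).1 hw.1,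
      fun Y hY u hu => ?_⟩
    have h1 : Adj V Z (PT.cj g⁻¹ Y) R := by
      have h2 := hY.cj g⁻¹
      rwa [show PT.cj g⁻¹ R = R by rw [← hgR, cj_cj, inv_mul_cancel, cj_one, hgR]] at h2
    have h3 : g⁻¹ * u * g ∈ UU V Z (PT.cj g⁻¹ Y) := by
      rw [UU_cj]
      have := conj_mem_cj (g := g⁻¹) hu
      rwa [inv_inv] at this
    have h4 := hw.2 _ h1 _ h3
    calc u * (g * w * g⁻¹) = g * ((g⁻¹ * u * g) * w) * g⁻¹ := by group
      _ = g * w * g⁻¹ * u := by rw [h4]; group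
  have hu0R0 : u0 ∈ R0 := ⟨hu0W, hu⟩
  -- `E`
  let E : Subgroup G :=
    { carrier := {g | g ∈ centralizer (R : Set G) ∧ g * ξ * g⁻¹ * ξ⁻¹ ∈ R0}
      one_mem' := ⟨one_mem _, by simp only [one_mul, inv_one, mul_one, mul_inv_cancel]; exact one_mem _⟩
      mul_mem' := by
        rintro a b ⟨ha, ha'⟩ ⟨hb, hb'⟩
        refine ⟨mul_mem ha hb, ?_⟩
        have e : a * b * ξ * (a * b)⁻¹ * ξ⁻¹ = a * (b * ξ * b⁻¹ * ξ⁻¹) * a⁻¹ * (a * ξ * a⁻¹ * ξ⁻¹) := by group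
        rw [e]
        exact mul_mem (hR0N a ha _ hb') ha'
      inv_mem' := by
        rintro a ⟨ha, ha'⟩
        refine ⟨inv_mem ha, ?_⟩
        have e : a⁻¹ * ξ * a⁻¹⁻¹ * ξ⁻¹ = a⁻¹ * (a * ξ * a⁻¹ * ξ⁻¹)⁻¹ * a⁻¹⁻¹ := by group
        rw [e]
        exact hR0N a⁻¹ (inv_mem ha) _ (inv_mem ha') }
  -- an odd power
  obtain ⟨m, hm, ht2⟩ := exists_odd_pow (τ' * τ)
  set t := (τ' * τ) ^ m with ht
  have hcomm0 : ∀ w ∈ R0, (τ' * τ) * w = w * (τ' * τ) := fun w hw => by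
    rw [mul_assoc, hw.2 A hA τ hτ, ← mul_assoc, hw.2 C hC τ' hτ', mul_assoc]
  have hcomm : ∀ w ∈ R0, t * w = w * t := fun w hw =>
    (Commute.pow_left (hcomm0 w hw : Commute (τ' * τ) w) m).eq
  have hpow : ∀ n : ℕ, (τ' * τ) ^ n * ξ * ((τ' * τ) ^ n)⁻¹ = u0 ^ n * ξ := by
    intro n
    induction n with
    | zero => simp
    | succ n ih =>
      have h1 : (τ' * τ) * u0 ^ n = u0 ^ n * (τ' * τ) :=
        (Commute.pow_right (hcomm0 u0 hu0R0 : Commute (τ' * τ) u0) n).eq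
      calc (τ' * τ) ^ (n + 1) * ξ * ((τ' * τ) ^ (n + 1))⁻¹
          = (τ' * τ) * ((τ' * τ) ^ n * ξ * ((τ' * τ) ^ n)⁻¹) * (τ' * τ)⁻¹ := by
            rw [pow_succ' (τ' * τ) n, mul_inv_rev]
            simp only [mul_assoc]
        _ = (τ' * τ) * u0 ^ n * ξ * (τ' * τ)⁻¹ := by rw [ih]; simp only [mul_assoc]
        _ = u0 ^ n * ((τ' * τ) * ξ * (τ' * τ)⁻¹) := by rw [h1]; simp only [mul_assoc]
        _ = u0 ^ (n + 1) * ξ := by rw [ht1, pow_succ]; simp only [mul_assoc]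
  have htξ : t * ξ * t⁻¹ = u0 * ξ := by
    rw [ht, hpow m]
    obtain ⟨k, hk⟩ := hm
    rw [hk, pow_succ, pow_mul, pow_two, hu0sq, one_pow, one_mul]
  have htE : t ∈ E := by
    refine ⟨pow_mem htR m, ?_⟩
    rw [htξ, mul_inv_cancel_right]
    exact hu0R0
  -- the flag
  obtain ⟨L, hL, hXL, hRL⟩ := hX.r.line
  obtain ⟨T, Q, h'⟩ := h.flag hR hL hRL
  have hT0E : (T : Subgroup G) ⊓ centralizer (R : Set G) ≤ E := by
    intro s hs
    refine ⟨hs.2, ?_⟩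
    have h1 := h'.pl.act s hs ξ (hXL hξ)
    exact ⟨h.pt_le_ws hR h1, fun Y hY u hu => (mem_centralizer_iff.1 (h.UU_le_cent_adj hY.symm hu) _ h1).symm⟩
  obtain ⟨e, he, heT⟩ := exists_conj_of_max (T.isPGroup'.to_le inf_le_left) hT0E (fun D hD hDE => by
    obtain ⟨m, -, hm⟩ := h'.pl.exists_le_conjB (H := normalizer (R : Set G)) h'.pl.SN le_rfl hD
      (fun d hd => centralizer_le_normalizer _ (hDE hd).1) (fun d hd => (hDE hd).1)
    exact (Subgroup.card_le_of_le hm).trans (card_cj m _).le) ht2 htE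
  -- `w = [e, ξ]`
  set w := e * ξ * e⁻¹ * ξ⁻¹ with hw
  have hwR0 : w ∈ R0 := he.2
  have h1 := h'.pl.act _ heT ξ (hXL hξ)
  have h2 : e * ((e⁻¹ * t * e) * ξ * (e⁻¹ * t * e)⁻¹ * ξ⁻¹) * e⁻¹ ∈ R := by
    rw [← mem_centralizer_iff.1 he.1 _ h1, mul_inv_cancel_right]
    exact h1
  have h3 : e * ((e⁻¹ * t * e) * ξ * (e⁻¹ * t * e)⁻¹ * ξ⁻¹) * e⁻¹ = u0 := by
    have h4 : e * ξ * e⁻¹ = w * ξ := by rw [hw]; group
    have h5 : w * u0 = u0 * w := h.ws_comm hR (hR0W hwR0) hu0W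
    calc e * ((e⁻¹ * t * e) * ξ * (e⁻¹ * t * e)⁻¹ * ξ⁻¹) * e⁻¹
        = t * (e * ξ * e⁻¹) * t⁻¹ * (e * ξ * e⁻¹)⁻¹ := by group
      _ = t * w * ξ * t⁻¹ * (w * ξ)⁻¹ := by rw [h4]; group
      _ = w * (t * ξ * t⁻¹) * ξ⁻¹ * w⁻¹ := by rw [hcomm w hwR0]; group
      _ = w * u0 * w⁻¹ := by rw [htξ]; group
      _ = u0 := by rw [h5, mul_inv_cancel_right]
  rwa [h3] at h2

end TF

end Cfsg.Agent.Omega.NO3S.MidB
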