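import Cfsg.Agent.Omega.NO3S.MidB.NTwoBig

/-!
# NO-3S, natural lines, the `(R, B)`-frame, TYPE N, blocks `SL_m`, `m ≥ 3`: section (A2) (TEXT 426-2, THEOREM N2)

* `NT.mover`, `NT.full` : `[U_a, β] = a` for `β ∈ b#`, `Sb r a b`;
* `NT.jj` : (j') `|H| ≤ s^m |H ∩ W_b|` for `H ≤ W_a`;
* `NT.inf_line` : `W_a ∩ I_m = r`;  `NT.card_ws_le` : (k') `|W_a| ≤ s^(2m+1)`.
-/

set_option autoImplicit false
set_option linter.unusedSectionVars false

namespace Cfsg.Agent.Omega.NO3S.MidB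

open Subgroup Cfsg.Agent.Omega.NO3S.PT Cfsg.Agent.Omega.NoFF.Basic Cfsg.Agent.ZN
open Cfsg.Agent.Omega.NO3S.MidQ (Adj Com Cr UU ws_of kx_of isCj_iff adj_iff com_iff cr_iff UU_of isCj_symm isCj_trans
  com_cj UU_cj le_UU normalizer_le_UU isPGroup_sSup FlagCan PtCan ff mem_ff ff_cj TypN Sb SLB bk AOne ATwo Path NN cnz
  mem_cnz cnz_cj mem_cs cg mem_cg comm_act card_le_mul surj_of_inj card_mul_le mul_of_card card_dec comm_inj cj_of_cent
  card_mul_le')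
open scoped Pointwise

variable {G : Type*} [Group G] {V Z X Y L : Subgroup G} {Blk : Subgroup G → Set (Subgroup G)} {m : ℕ}

namespace NT

variable [Finite G] {S : Sylow 2 G} {P : Subgroup G} (h : NT S P V Z Blk m)
include h

/-- a point `e ~ c ~ a` moving `b` -/
theorem mover {r a b : Subgroup G} (hs : Sb V Z Blk r a b) {β : G} (hβ : β ∈ b) (hβ1 : β ≠ 1) :
    ∃ c e, Adj V Z c a ∧ Adj V Z e c ∧ e ≤ bk Blk c a ∧ ∀ x ∈ e, x * β = β * x → x = 1 := by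
  have h2 : ∃ c, Adj V Z c a ∧ ∃ w ∈ ws V c, w * β ≠ β * w := by
    by_contra hcon
    push Not at hcon
    have h3 : UU V Z a ≤ centralizer ({β} : Set G) := by
      refine sSup_le ?_
      rintro _ ⟨c, hc, rfl⟩ w hw
      exact mem_cs.2 (hcon c hc w hw)
    exact hβ1 (h.sb_mv hs hβ fun u hu => mem_cs.1 (h3 hu))
  obtain ⟨c, hca, w, hw, hwβ⟩ := h2
  have hβU : β ∈ UU V Z a := le_UU hs.l.symm (h.adj_le_ws' hs.r hβ)
  obtain ⟨ε, hε, d, hd, rfl, hd'⟩ := h.dec hca.symm hw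
  have hdβ := hd' a hca.symm (h.le_bk hca.symm) β hβU
  have hεβ : ε * β ≠ β * ε := by
    intro e
    apply hwβ
    calc ε * d * β = ε * (d * β) := by group
      _ = (ε * β) * d := by rw [← hdβ]; group
      _ = β * (ε * d) := by rw [e]; group
  obtain ⟨E, hE, hEc, hεE⟩ := h.exists_pt hca.symm hε (fun e => by
    -- `W_r` centralises `c`
    have h3 := mem_centralizer_iff.1 (h.ws_le_cent hs.l.symm hca.symm (h.adj_le_ws' hs.r hβ)) ε e
    exact hεβ h3)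
  refine ⟨c, E, hca, hE, hEc, fun x hx e => ?_⟩
  by_contra hx1
  exact hεβ (h.t3 hE.symm (h.two_ws hs.r.left (h.pt_le_ws hs.r.left hβ))
    (fun y hy => (mem_centralizer_iff.1 (h.ws_le_cent hs.l.symm hca.symm (h.adj_le_ws' hs.r hβ)) y hy).symm)
    hx hx1 e.symm ε hεE).symm

/-- `[U_a, β] = a` -/
theorem full {r a b : Subgroup G} (hs : Sb V Z Blk r a b) {β : G} (hβ : β ∈ b) (hβ1 : β ≠ 1) :
    ∀ α ∈ a, ∃ g ∈ UU V Z a, g * β * g⁻¹ * β⁻¹ = α := by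
  obtain ⟨c, e, hca, hec, hle, hmv⟩ := h.mover hs hβ hβ1
  have h2 := surj_of_inj (A := e) (B := a) (by rw [h.card_pt hec.left, h.card_pt hs.l.left])
    (fun y => y * β * y⁻¹ * β⁻¹)
    (fun y hy => h.mid_mem h.typ hca hs.l (h.adj_le_ws' hec hy) (h.adj_le_ws' hs.r hβ))
    (fun y hy y' hy' e' => inv_mul_eq_one.1 (hmv _ (mul_mem (inv_mem hy) hy') (comm_inj e')))
  intro α hα
  obtain ⟨g, hg, e'⟩ := h2 α hα
  exact ⟨g, le_UU hca (h.adj_le_ws' hec hg), e'⟩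

/-- `W_a ∩ W_{a^ε} ≤ W_b` if `[ε, α] ∈ b` -/
theorem inf_ws_cj {r a b : Subgroup G} (hs : Sb V Z Blk r a b) {ε α : G} (hα : α ∈ a)
    (hε : ε * α * ε⁻¹ * α⁻¹ ∈ b) (hε1 : ε * α * ε⁻¹ * α⁻¹ ≠ 1) {y : G} (hy : y ∈ ws V a)
    (hy' : y ∈ ws V (cj ε a)) : y ∈ ws V b := by
  obtain ⟨g, hg, e⟩ := h.full hs hε hε1 α hα
  have hcomm : α * (ε * α * ε⁻¹ * α⁻¹) = ε * α * ε⁻¹ * α⁻¹ * α :=
    h.ws_comm hs.l.right (h.adj_le_ws' hs.l hα) (h.adj_le_ws' hs.r hε)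
  have h2 : g * (ε * α * ε⁻¹ * α⁻¹) * g⁻¹ = ε * α * ε⁻¹ := by
    have e2 : g * (ε * α * ε⁻¹ * α⁻¹) * g⁻¹ = α * (ε * α * ε⁻¹ * α⁻¹) := by
      have e3 : g * (ε * α * ε⁻¹ * α⁻¹) * g⁻¹ =
        g * (ε * α * ε⁻¹ * α⁻¹) * g⁻¹ * (ε * α * ε⁻¹ * α⁻¹)⁻¹ * (ε * α * ε⁻¹ * α⁻¹) := by group
      rw [e3, e]
    rw [e2, hcomm]; group
  have h3 : cj g b = cj ε a := by
    refine h.pts_eq (hs.r.left.cj g) (hs.l.left.cj ε) (z := ε * α * ε⁻¹) ?_ (conj_mem_cj hα) ?_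
    · rw [← h2]; exact conj_mem_cj hε
    · intro e2
      apply hε1
      have h4 : α = 1 := conj_eq_one_iff.1 e2
      rw [h4]; group
  rw [← h3, ws_cj, mem_cj] at hy'
  have h4 : g * y = y * g := (mem_centralizer_iff.1 (h.UU_le_centralizer a hg) y hy).symm
  rwa [mul_assoc, ← h4, inv_mul_cancel_left] at hy'

variable (h2 : ATwo V Z Blk)
include h2

/-- **(j')** -/
theorem jj {r a b : Subgroup G} (hs : Sb V Z Blk r a b) {H : Subgroup G} (hH : H ≤ ws V a) :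
    Nat.card H ≤ Nat.card Z ^ m * Nat.card (H ⊓ ws V b : Subgroup G) := by
  obtain ⟨α, hα, hα1⟩ := h.pt_ne_bot hs.l.left
  obtain ⟨c, e, hcb, hec, hle, hmv⟩ := h.mover (NT.sb_sy hs) hα hα1
  obtain ⟨ε, hε, hε1⟩ := h.pt_ne_bot hec.left
  have hαr := h.adj_le_ws' hs.l hα
  have hεc := h.adj_le_ws' hec hε
  set T := bk Blk c b ⊓ centralizer ({α} : Set G) with hT
  have hTc : Nat.card T ≤ Nat.card Z ^ m := by
    have h3 : Nat.card e * Nat.card T ≤ Nat.card (bk Blk c b) :=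
      card_mul_le hle inf_le_left fun x hx hx' => hmv x hx (mem_cs.1 hx'.2)
    rw [h.card_pt hec.left, h.card_bk hcb.symm, pow_succ, mul_comm (Nat.card Z ^ m)] at h3
    exact Nat.le_of_mul_le_mul_left h3 Nat.card_pos
  have hcom := h2 r a b hs
  have h3 : Nat.card H ≤ Nat.card T * Nat.card (H ⊓ centralizer ({ε} : Set G) : Subgroup G) := by
    refine card_le_mul (fun y => ε⁻¹ * (y * ε * y⁻¹)) (fun y hy => ?_) fun y hy y' hy' e' => ?_
    · have hya := hH hy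
      have hyb : ∀ x ∈ b, y * x = x * y := fun x hx =>
        (mem_centralizer_iff.1 (hcom hya) x (h.pt_le_ws hs.r.left hx)).symm
      have hyc : ∀ x ∈ c, y * x = x * y := fun x hx =>
        (mem_centralizer_iff.1 (hcom hya) x (h.adj_le_ws' hcb hx)).symm
      have hblk : cj y (bk Blk c b) = bk Blk c b := by
        rw [← h.bk_cj hcb.symm, cj_of_cent hyb, cj_of_cent hyc]
      have h4 : y * ε * y⁻¹ ∈ bk Blk c b := by
        rw [← hblk]; exact conj_mem_cj (hle hε)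
      refine ⟨(bk Blk c b).mul_mem ((bk Blk c b).inv_mem (hle hε)) h4, mem_cs.2 (comm_inj ?_)⟩
      -- `[ε^y, α] = [ε, α]`
      have h5 : ε * α * ε⁻¹ * α⁻¹ ∈ b := h.mid_mem h.typ hcb hs.r hεc hαr
      have hyα : y * α = α * y := h.ws_comm hs.l.left hya (h.pt_le_ws hs.l.left hα)
      have hyα' : y * α * y⁻¹ = α := by rw [hyα, mul_inv_cancel_right]
      symm
      calc y * ε * y⁻¹ * α * (y * ε * y⁻¹)⁻¹ * α⁻¹
          = y * ε * y⁻¹ * (y * α * y⁻¹) * (y * ε * y⁻¹)⁻¹ * (y * α * y⁻¹)⁻¹ := by rw [hyα']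
        _ = y * (ε * α * ε⁻¹ * α⁻¹) * y⁻¹ := by group
        _ = ε * α * ε⁻¹ * α⁻¹ := by rw [hyb _ h5, mul_inv_cancel_right]
    · refine mem_cs.2 ?_
      have h4 : y * ε * y⁻¹ = y' * ε * y'⁻¹ := mul_left_cancel e'
      exact comm_inj (by rw [h4])
  refine h3.trans (Nat.mul_le_mul hTc (Subgroup.card_le_of_le ?_))
  rintro y ⟨hy, hyε⟩
  refine ⟨hy, h.inf_ws_cj hs hα (h.mid_mem h.typ hcb hs.r hεc hαr) (fun e' => hε1 (hmv ε hε (Mid.comm_eq e')))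
    (hH hy) ?_⟩
  rw [ws_cj, mem_cj, mul_assoc, mem_cs.1 hyε, inv_mul_cancel_left]
  exact hH hy

omit h2 in
theorem nn_cj (g : G) (X L : Subgroup G) (hX : IsCj Z X) : NN V Z Blk (cj g X) (cj g L) = cj g (NN V Z Blk X L) := by
  have key : ∀ (g : G) (X L : Subgroup G), IsCj Z X → cj g (NN V Z Blk X L) ≤ NN V Z Blk (cj g X) (cj g L) := by
    intro g X L hX
    rw [cj_le_iff]
    refine sSup_le ?_
    rintro _ ⟨C, hC, ⟨D, hD, hLD, hCD⟩, rfl⟩
    rw [le_cj_iff, inv_inv, ← UU_cj]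
    exact le_sSup ⟨cj g C, hC.cj g, ⟨cj g D, h.slb.can g X hX D hD, cj_le_cj.2 hLD, cj_le_cj.2 hCD⟩, rfl⟩
  refine le_antisymm ?_ (key g X L hX)
  have h3 := key g⁻¹ (cj g X) (cj g L) (hX.cj g)
  rw [cj_cj, cj_cj, inv_mul_cancel, cj_one, cj_one, cj_le_iff, inv_inv] at h3
  exact h3

omit h2 in
/-- `I_m ∩ W_a = r`, `m` a line on `r` joined to `a` -/
theorem inf_line {r a b b' : Subgroup G} (hs : Sb V Z Blk r a b) (hL : IsCj V L) (hrL : r ≤ L) (hbL : b ≤ L)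
    (hb' : Adj V Z b' r) (hbL' : b' ≤ L) (hne : b ≠ b') {u : G} (hu : u ∈ ws V a) (hub : u ∈ ws V b)
    (hub' : u ∈ ws V b') : u ∈ r := by
  have hr := hs.l.right
  have hbr := hs.r
  have hur : u ∈ ws V r := h.inf_le hL hbr.left hb'.left hr hbL hbL' hrL hne ⟨hub, hub'⟩
  obtain ⟨β, hβ, d, hd, e, hd'⟩ := h.dec hbr hur
  have hbb := h.le_bk (Blk := Blk) hbr
  -- `β ∈ L`
  have hβL : β ∈ L := by
    refine h.cent hbr hL hrL hbL hβ fun v hv => ?_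
    have h3 : v * u = u * v := (mem_centralizer_iff.1 (h.UU_le_centralizer b hv) u hub).symm
    have h4 := hd' b hbr hbb v hv
    have h5 : v * β * d = β * v * d := by
      calc v * β * d = v * (β * d) := by group
        _ = β * d * v := by rw [← e, h3]
        _ = β * (v * d) := by rw [h4]; group
        _ = β * v * d := by group
    exact mul_right_cancel h5
  have hdL : d ∈ ws V r ⊓ ws V b := by
    have e2 : d = β⁻¹ * u := by rw [e]; group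
    rw [e2]
    exact ⟨(ws V r).mul_mem ((ws V r).inv_mem (le_ws hL hrL hβL)) hur,
      (ws V b).mul_mem ((ws V b).inv_mem (le_ws hL hbL hβL)) hub⟩
  -- `d ∈ r`
  have hdr : d ∈ r := by
    refine h.lemF_flag (N := NN V Z Blk) (fun g X L hX _ _ => h.nn_cj g X L hX) (fun X L hX hL hXL => ?_)
      (fun X L hX hL hXL => ?_) hr hL hrL hbr.left hbL hbr.ne hdL.1 hdL.2 fun n hn => ?_
    · refine sSup_le ?_
      rintro _ ⟨C, hC, -, rfl⟩
      exact h.UU_le_cent_adj hC.symm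
    · obtain ⟨A, hA, hAL, hAX⟩ := h.exists_second hX hL hXL
      have hAX' : Adj V Z A X := ⟨hA, hX, hAX, L, hL, hAL, hXL⟩
      obtain ⟨C, hC⟩ := h.exists_sb hAX'
      obtain ⟨α, hα, hα1⟩ := h.pt_ne_bot hA
      have h3 : ∃ n ∈ UU V Z C, n * α ≠ α * n := by
        by_contra hcon
        push Not at hcon
        exact hα1 (h.sb_mv (NT.sb_sy hC) hα hcon)
      obtain ⟨n, hn, hnα⟩ := h3
      have h4 : UU V Z C ≤ NN V Z Blk X L :=
        le_sSup ⟨C, hC.r, ⟨bk Blk X A, h.bk_mem hAX', h.line_le_bk hAX' hL hXL hAL, h.sb_le hC⟩, rfl⟩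
      refine ⟨n, h4 hn, α, hAL hα, fun e2 => hnα (Mid.comm_eq ?_)⟩
      exact h.pt_inf hC.r.left hX hC.r.ne (h.UU_ws h.typ hC.r hn (h.adj_le_ws' hAX' hα)) e2
    · have h3 : n * d = d * n := by
        have h4 : NN V Z Blk r L ≤ centralizer ({d} : Set G) := by
          refine sSup_le ?_
          rintro _ ⟨C, hC, ⟨D, hD, hLD, hCD⟩, rfl⟩ v hv
          refine mem_cs.2 (hd' C hC ?_ v hv)
          rwa [h.bk_unique hbr hD (hbL.trans hLD)]
        exact mem_cs.1 (h4 hn)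
      rw [Mid.comm_one h3]
      exact one_mem _
  have huL : u ∈ L := by rw [e]; exact mul_mem hβL (hrL hdr)
  obtain ⟨ρ, hρ, β', hβ', e3⟩ := h.line_eq hr hbr.left hbr.ne.symm hL hrL hbL huL
  have h3 : β' ∈ ws V a := by
    have e4 : β' = ρ⁻¹ * u := by rw [e3]; group
    rw [e4]
    exact mul_mem (inv_mem (h.adj_le_ws hs.l hρ)) hu
  have h4 : β' = 1 := h.sb_mv hs hβ' fun v hv =>
    (mem_centralizer_iff.1 (h.UU_le_centralizer a hv) β' h3).symm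
  rw [e3, h4, mul_one]
  exact hρ

/-- **(k')** -/
theorem card_ws_le {a : Subgroup G} (ha : IsCj Z a) : Nat.card (ws V a) ≤ Nat.card Z ^ (2 * m + 1) := by
  obtain ⟨L, hL, haL⟩ := h.exists_line ha
  obtain ⟨r, hr, hrL, hra⟩ := h.exists_second ha hL haL
  have har : Adj V Z a r := ⟨ha, hr, hra.symm, L, hL, haL, hrL⟩
  obtain ⟨b, hs⟩ := h.exists_sb har
  obtain ⟨M, hM, hbM, hrM⟩ := hs.r.line
  obtain ⟨b', hb', hbM', hbr', hbb'⟩ := h.exists_third hr hs.r.left hM hrM hbM hs.r.ne.symm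
  have hbr2 : Adj V Z b' r := ⟨hb', hr, hbr', M, hM, hbM', hrM⟩
  have hs' : Sb V Z Blk r a b' := by
    refine NT.sb_sy (h.sb_mk' hbr2 har ?_ hM hrM hbM' ((NT.sb_sy hs).ne M hM hrM hbM))
    rw [h.bk_line hs.r hbr2 hM hrM hbM hbM']
    exact h.sb_le (NT.sb_sy hs)
  have h3 := h.jj h2 hs (H := ws V a) le_rfl
  have h4 := h.jj h2 hs' (H := ws V a ⊓ ws V b) inf_le_left
  have h5 : Nat.card (ws V a ⊓ ws V b ⊓ ws V b' : Subgroup G) ≤ Nat.card Z := by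
    rw [← h.card_pt hr]
    refine Subgroup.card_le_of_le ?_
    rintro u ⟨⟨hu, hub⟩, hub'⟩
    exact h.inf_line hs hM hrM hbM hbr2 hbM' hbb'.symm hu hub hub'
  calc Nat.card (ws V a) ≤ Nat.card Z ^ m * Nat.card (ws V a ⊓ ws V b : Subgroup G) := h3
    _ ≤ Nat.card Z ^ m * (Nat.card Z ^ m * Nat.card Z) :=
      Nat.mul_le_mul_left _ (h4.trans (Nat.mul_le_mul_left _ h5))
    _ = Nat.card Z ^ (2 * m + 1) := by ring

end NT

end Cfsg.Agent.Omega.NO3S.MidB
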