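import Cfsg.Agent.Omega.NO3S.MidB.SLBlk

/-!
# TYPE N, case (A2): the blocks satisfy `SLB` (bb OMEGA #18317, TCARD 5 D)

* `TF.two_x`, `TF.two` : the stabiliser of `R` is transitive on the pairs of joined points;
* `TF.slb` : `SLB V Z Blk m` from `JSym`, `JVal`, `JTrans`, `JDich`, `Bg`.
-/

set_option autoImplicit false
set_option linter.unusedSectionVars false

namespace Cfsg.Agent.Omega.NO3S.MidB

open Subgroup Cfsg.Agent.Omega.NO3S.PT Cfsg.Agent.Omega.NoFF.Basic Cfsg.Agent.ZN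
open Cfsg.Agent.Omega.NO3S.MidQ (Adj Com Cr UU ws_of kx_of isCj_iff adj_iff com_iff cr_iff UU_of isCj_symm isCj_trans
  com_cj UU_cj le_UU normalizer_le_UU isPGroup_sSup FlagCan PtCan ff mem_ff ff_cj TypN cw mem_cw cw_le cw_cj Jo jo_cj zu
  Sb SLB)
open scoped Pointwise

variable {G : Type*} [Group G] {V Z X Y R L A A' B B' C E F H : Subgroup G}

/-- the elements of the product of two commuting subgroups -/
theorem exists_mul_of_sup {H E : Subgroup G} (hc : ∀ a ∈ H, ∀ b ∈ E, a * b = b * a) {x : G} (hx : x ∈ H ⊔ E) :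
    ∃ a ∈ H, ∃ b ∈ E, x = a * b := by
  let K : Subgroup G :=
    { carrier := {x | ∃ a ∈ H, ∃ b ∈ E, x = a * b}
      one_mem' := ⟨1, one_mem _, 1, one_mem _, (mul_one 1).symm⟩
      inv_mem' := by
        rintro _ ⟨a, ha, b, hb, rfl⟩
        refine ⟨a⁻¹, inv_mem ha, b⁻¹, inv_mem hb, ?_⟩
        rw [mul_inv_rev, hc _ (inv_mem ha) _ (inv_mem hb)]
      mul_mem' := by
        rintro _ _ ⟨a, ha, b, hb, rfl⟩ ⟨c, hc', d, hd, rfl⟩
        refine ⟨a * c, mul_mem ha hc', b * d, mul_mem hb hd, ?_⟩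
        rw [mul_assoc, ← mul_assoc b c d, ← hc _ hc' _ hb]
        simp only [mul_assoc] }
  have hK : H ⊔ E ≤ K := sup_le (fun x hx => ⟨x, hx, 1, one_mem _, (mul_one x).symm⟩)
    (fun x hx => ⟨1, one_mem _, x, hx, (one_mul x).symm⟩)
  exact hK hx

namespace TF

variable [Finite G] {S : Sylow 2 G} {P : Subgroup G} (h : TF S P V Z)
include h

theorem jo_of_sb (hs : JSym V Z) (hv : JVal V Z) (ht : JTrans V Z) (h1 : Sb V Z (Bk V Z) R A B) : Jo V Z R A B := by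
  obtain ⟨hA, hB, ⟨_, ⟨C, hC, rfl⟩, hAD, hBD⟩, hne⟩ := h1
  obtain ⟨a, ha, ha1⟩ := h.pt_ne_bot hA.left
  obtain ⟨b, hb, hb1⟩ := h.pt_ne_bot hB.left
  have h1 := h.eqv_of_le hs hv ht hC hA ha ha1 (hAD ha)
  have h2 := h.eqv_of_le hs hv ht hC hB hb hb1 (hBD hb)
  rcases (h.eqv_trans ht (h.eqv_symm hs h1) h2).2.2 with ⟨L, hL, hRL, hAL, hBL⟩ | hj
  · exact absurd hBL (hne L hL hRL hAL)
  · exact hj

/-- joined points are not on a line with `R` -/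
theorem jo_ne_line (hj : Jo V Z R A B) (hL : IsCj V L) (hRL : R ≤ L) (hAL : A ≤ L) : ¬ B ≤ L := fun e =>
  (h.jo_iff hj.l hj.r).1 hj (e.trans (h.line_le_cw hL hRL hAL))

theorem jo_of_eqv (he : Eqv V Z R A B) (hne : ∀ L, IsCj V L → R ≤ L → A ≤ L → ¬ B ≤ L) : Jo V Z R A B := by
  rcases he.2.2 with ⟨L, hL, hRL, hAL, hBL⟩ | hj
  · exact absurd hBL (hne L hL hRL hAL)
  · exact hj

/-- a good subgroup containing a nontrivial element of a point contains the point -/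
theorem good_le (hH : Good V Z R H) (hE : Adj V Z E R) {x : G} (hx : x ∈ E) (hx1 : x ≠ 1) (hxH : x ∈ H) : E ≤ H := by
  obtain ⟨F, hF, hFH, hxF⟩ := hH.2 x hxH (h.not_mem_R hE hx hx1)
  rwa [h.pts_eq hE.left hF.left hx hxF hx1]

/-- **(x)** -/
theorem two_x (hs : JSym V Z) (hv : JVal V Z) (ht : JTrans V Z) (hd : JDich V Z) (hj : Jo V Z R A B)
    (hj' : Jo V Z R A B') (hne : ∀ L, IsCj V L → R ≤ L → B ≤ L → ¬ B' ≤ L) (hH : Good V Z R (R ⊔ B ⊔ B'))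
    (hA : ¬ A ≤ R ⊔ B ⊔ B') : ∃ g : G, cj g R = R ∧ cj g A = A ∧ cj g B = B' := by
  have hR := hj.l.right
  obtain ⟨β, hβ, hβ1⟩ := h.pt_ne_bot hj.r.left
  obtain ⟨β', hβ', hβ1'⟩ := h.pt_ne_bot hj'.r.left
  have hAB : Eqv V Z R A B := ⟨hj.l, hj.r, Or.inr hj⟩
  have hAB' : Eqv V Z R A B' := ⟨hj.l, hj'.r, Or.inr hj'⟩
  have hBB : Jo V Z R B B' := h.jo_of_eqv (h.eqv_trans ht (h.eqv_symm hs hAB) hAB') hne
  -- the third point `Y`
  obtain ⟨k, hk, hy, hYle, hY, hjBY⟩ := h.jo_mul hv hBB hβ hβ' hβ1'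
  set Y := PT.cj k B' with hYdef
  have hRH : R ≤ R ⊔ B ⊔ B' := le_sup_of_le_left le_sup_left
  have hBH : B ≤ R ⊔ B ⊔ B' := le_sup_of_le_left le_sup_right
  have hBH' : B' ≤ R ⊔ B ⊔ B' := le_sup_right
  have hYH : Y ≤ R ⊔ B ⊔ B' := hYle.trans (sup_le hBH hBH')
  have hjYB : Jo V Z R Y B := hs _ _ _ hjBY
  have hAY : Eqv V Z R A Y := h.eqv_trans ht hAB ⟨hj.r, hY, Or.inr hjBY⟩
  have hyc : β * β' = β' * β := h.ws_comm hR (h.adj_le_ws hj.r.symm hβ) (h.adj_le_ws hj'.r.symm hβ')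
  have hβ2 : β * β = 1 := h.ws_sq hR (h.adj_le_ws hj.r.symm hβ)
  rcases hd R Y A B hjYB hj.l with h1 | h2
  · obtain ⟨g, hg, hgb⟩ := hv R Y B hjYB β hβ hβ1 (β * β') hy
    obtain ⟨g', hg', h3, h4⟩ := h1 g hg
    refine ⟨g', h.cj_UU_adj hg' hY, ?_, ?_⟩
    · refine cj_eq_iff.2 (centralizer_le_normalizer _ ?_)
      exact mem_centralizer_iff.2 fun i hi => (h4 i hi).symm
    · have h5 : g' * β * g'⁻¹ = β' := by
        rw [h3 β hβ]
        have e : g * β * g⁻¹ = g * β * g⁻¹ * β⁻¹ * β := by group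
        rw [e, hgb, hyc, mul_assoc, hβ2, mul_one]
      have h6 := conj_mem_cj (g := g') hβ
      rw [h5] at h6
      exact h.pts_eq (hj.r.left.cj g') hj'.r.left h6 hβ' hβ1'
  · exfalso
    obtain ⟨α, hα, hα1⟩ := h.pt_ne_bot hj.l.left
    obtain ⟨γ, hγ, hc⟩ := h2 α hα
    obtain ⟨L, hL, hYL, hRL⟩ := hY.line
    -- `α γ` is on the line `R Y`
    have hb : α * γ ∈ blk V Z R A := mul_mem (eqv_le_blk (h.eqv_refl hj.l) hα) (eqv_le_blk hAB hγ)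
    have hL2 : α * γ ∈ R ⊔ B ⊔ B' := by
      rcases (h.mem_blk hs hv ht hj.l).1 hb with h3 | ⟨E, hE, hbE⟩
      · exact hRH h3
      rcases (h.eqv_trans ht (h.eqv_symm hs hAY) hE).2.2 with ⟨M, hM, hRM, hYM, hEM⟩ | hjE
      · exact (h.line_le' hR hY.left hY.ne hM hRM hYM hRH hYH) (hEM hbE)
      · have h3 := h.inf_cw hjE hbE (mem_cw.2 ⟨h.adj_le_ws hE.2.1.symm hbE, fun u hu => hc u hu⟩)
        rw [h3]
        exact one_mem _
    have h3 : α ∈ R ⊔ B ⊔ B' := by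
      have e : α = α * γ * γ⁻¹ := by group
      rw [e]
      exact mul_mem hL2 (inv_mem (hBH hγ))
    exact hA (h.good_le hH hj.l hα hα1 h3)

/-- **two** -/
theorem two (hs : JSym V Z) (hv : JVal V Z) (ht : JTrans V Z) (hd : JDich V Z) (hB : Bg V Z) (hj : Jo V Z R A B)
    (hj' : Jo V Z R A' B') : ∃ g : G, cj g R = R ∧ cj g A = A' ∧ cj g B = B' := by
  -- wlog `A = A'`
  obtain ⟨g₀, h1, h2⟩ := h.exists_adj hj.l hj'.l
  have hj2 : Jo V Z R A' (PT.cj g₀ B) := by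
    have := jo_cj (g := g₀).2 hj
    rwa [h1, h2] at this
  suffices hgen : ∀ B B' : Subgroup G, Jo V Z R A' B → Jo V Z R A' B' →
      ∃ g : G, cj g R = R ∧ cj g A' = A' ∧ cj g B = B' by
    obtain ⟨g, h3, h4, h5⟩ := hgen _ _ hj2 hj'
    exact ⟨g * g₀, by rw [← cj_cj, h1, h3], by rw [← cj_cj, h2, h4], by rw [← cj_cj, h5]⟩
  clear hj2 h1 h2 g₀ hj hj'
  intro B B' hj hj'
  have hR := hj.l.right
  have hA := hj.l
  obtain ⟨k, hk, hk2⟩ := h.card_blk_jo hs hv ht hB hj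
  have hZ := h.one_lt_card_pt
  -- the good subgroups `R A B`
  have hg : ∀ B, Jo V Z R A' B → Good V Z R (R ⊔ A' ⊔ B) ∧ Nat.card ↥(R ⊔ A' ⊔ B) = Nat.card Z ^ 3 ∧
      R ⊔ A' ⊔ B ≤ blk V Z R A' := by
    intro B hj
    obtain ⟨L, hL, hAL, hRL⟩ := hA.line
    have h0 : R ≤ blk V Z R A' := R_le_blk
    obtain ⟨g1, -, c1⟩ := h.good_sup hs hv ht h.good_R h0 hA (h.eqv_refl hA) (fun e => by
      obtain ⟨a, ha, ha1⟩ := h.pt_ne_bot hA.left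
      exact h.not_mem_R hA ha ha1 (e ha))
    have h1 : R ⊔ A' ≤ blk V Z R A' := sup_le h0 (eqv_le_blk (h.eqv_refl hA))
    obtain ⟨g2, -, c2⟩ := h.good_sup hs hv ht g1 h1 hA ⟨hA, hj.r, Or.inr hj⟩ (fun e =>
      h.jo_ne_line hj hL hRL hAL (e.trans (sup_le hRL hAL)))
    refine ⟨g2, ?_, sup_le h1 (eqv_le_blk ⟨hA, hj.r, Or.inr hj⟩)⟩
    rw [c2, c1, h.card_pt hR]
    ring
  obtain ⟨hg1, hc1, hl1⟩ := hg B hj
  obtain ⟨hg2, hc2, hl2⟩ := hg B' hj'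
  -- the point `E`
  obtain ⟨E, hE, hE1, hE2⟩ : ∃ E, Eqv V Z R A' E ∧ ¬ E ≤ R ⊔ A' ⊔ B ∧ ¬ E ≤ R ⊔ A' ⊔ B' := by
    by_contra hcon
    have h3 : ∀ x ∈ blk V Z R A', x ∈ R ⊔ A' ⊔ B ∨ x ∈ R ⊔ A' ⊔ B' := by
      intro x hx
      rcases (h.mem_blk hs hv ht hA).1 hx with h4 | ⟨E, hE, hxE⟩
      · exact Or.inl (hg1.1 h4)
      · by_cases h5 : E ≤ R ⊔ A' ⊔ B
        · exact Or.inl (h5 hxE)
        · by_cases h6 : E ≤ R ⊔ A' ⊔ B'
          · exact Or.inr (h6 hxE)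
          · exact absurd ⟨E, hE, h5, h6⟩ hcon
    -- a group is not the union of two proper subgroups
    have h6 : ∀ K : Subgroup G, Nat.card K = Nat.card Z ^ 3 → ¬ blk V Z R A' ≤ K := by
      intro K hK hle
      have h7 := Subgroup.card_le_of_le hle
      rw [hk2, hK] at h7
      have h8 := (Nat.pow_le_pow_iff_right hZ).1 h7
      omega
    obtain ⟨x, hx, hx1⟩ := Set.not_subset.1 (h6 _ hc1)
    obtain ⟨y, hy, hy1⟩ := Set.not_subset.1 (h6 _ hc2)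
    have hx2 := (h3 x hx).resolve_left hx1
    have hy2 := (h3 y hy).resolve_right hy1
    rcases h3 (x * y) (mul_mem hx hy) with h7 | h7
    · exact hx1 ((Subgroup.mul_mem_cancel_right _ hy2).1 h7)
    · exact hy1 ((Subgroup.mul_mem_cancel_left _ hx2).1 h7)
  -- `E` is joined to `A`, `B`, `B'`
  obtain ⟨L, hL, hAL, hRL⟩ := hA.line
  have hLle : ∀ B, L ≤ R ⊔ A' ⊔ B := fun B =>
    (h.line_le' hR hA.left hA.ne hL hRL hAL le_sup_left le_sup_right).trans le_sup_left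
  have hjE : Jo V Z R A' E := h.jo_of_eqv hE fun M hM hRM hAM hEM => by
    have e := h.line_unique hA.left hA.right hA.ne hM hL hAM hRM hAL hRL
    exact hE1 ((e ▸ hEM : E ≤ L).trans (hLle B))
  -- the exchange
  have hex : ∀ B, Jo V Z R A' B → Good V Z R (R ⊔ A' ⊔ B) → ¬ E ≤ R ⊔ A' ⊔ B →
      (∀ M, IsCj V M → R ≤ M → B ≤ M → ¬ E ≤ M) ∧ Good V Z R (R ⊔ B ⊔ E) ∧ ¬ A' ≤ R ⊔ B ⊔ E := by
    intro B hj hgd hn
    have hBA : Eqv V Z R A' B := ⟨hA, hj.r, Or.inr hj⟩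
    have hne : ∀ M, IsCj V M → R ≤ M → B ≤ M → ¬ E ≤ M := by
      intro M hM hRM hBM hEM
      exact hn (hEM.trans (h.line_le' hR hj.r.left hj.r.ne hM hRM hBM hgd.1 le_sup_right))
    have h0 : R ≤ blk V Z R A' := R_le_blk
    obtain ⟨g1, -, c1⟩ := h.good_sup hs hv ht h.good_R h0 hA hBA (fun e => by
      obtain ⟨a, ha, ha1⟩ := h.pt_ne_bot hj.r.left
      exact h.not_mem_R hj.r ha ha1 (e ha))
    have h1 : R ⊔ B ≤ blk V Z R A' := sup_le h0 (eqv_le_blk hBA)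
    obtain ⟨M, hM, hBM, hRM⟩ := hj.r.line
    obtain ⟨g2, -, c2⟩ := h.good_sup hs hv ht g1 h1 hA hE (fun e => hne M hM hRM hBM (e.trans (sup_le hRM hBM)))
    refine ⟨hne, g2, fun hAle => ?_⟩
    obtain ⟨α, hα, hα1⟩ := h.pt_ne_bot hA.left
    -- `α = w e`
    have h3 : α ∈ R ⊔ B ⊔ E := hAle hα
    have hcomm : ∀ x ∈ R ⊔ B, ∀ y ∈ E, x * y = y * x := fun x hx y hy =>
      h.ws_comm hR (h.blk_le_ws hA (h1 hx)) (h.adj_le_ws hE.2.1.symm hy)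
    obtain ⟨w, hw, e, he, rfl⟩ := exists_mul_of_sup hcomm h3
    by_cases he1 : e = 1
    · rw [he1, mul_one] at hα hα1
      have h4 := h.good_le g1 hA hα hα1 hw
      exact h.jo_ne_line (hs _ _ _ hj) hM hRM hBM (h4.trans (sup_le hRM hBM))
    · have h5 : e ∈ R ⊔ A' ⊔ B := by
        have e1 : e = w⁻¹ * (w * e) := by group
        rw [e1]
        have h6 : A' ≤ R ⊔ A' ⊔ B := le_sup_of_le_left le_sup_right
        have h7 : R ⊔ B ≤ R ⊔ A' ⊔ B := sup_le (le_sup_of_le_left le_sup_left) le_sup_right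
        exact mul_mem (inv_mem (h7 hw)) (h6 hα)
      exact hn (h.good_le hgd hE.2.1 he he1 h5)
  obtain ⟨n1, q1, a1⟩ := hex B hj hg1 hE1
  obtain ⟨n2, q2, a2⟩ := hex B' hj' hg2 hE2
  have hsw : R ⊔ B' ⊔ E = R ⊔ E ⊔ B' := by rw [sup_assoc, sup_comm B' E, ← sup_assoc]
  obtain ⟨g, h1, h2, h3⟩ := h.two_x hs hv ht hd hj hjE n1 q1 a1
  obtain ⟨g', h4, h5, h6⟩ := h.two_x hs hv ht hd hjE hj' (fun M hM hRM hEM hBM => n2 M hM hRM hBM hEM)
    (hsw ▸ q2) (hsw ▸ a2)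
  exact ⟨g' * g, by rw [← cj_cj, h1, h4], by rw [← cj_cj, h2, h5], by rw [← cj_cj, h3, h6]⟩

/-- **D of TCARD 5** -/
theorem slb (hs : JSym V Z) (hv : JVal V Z) (ht : JTrans V Z) (hd : JDich V Z) (hB : Bg V Z) :
    ∃ Blk m, SLB V Z Blk m :=
  h.slb_of hs hv ht hB fun _ _ _ _ _ h1 h2 =>
    h.two hs hv ht hd hB (h.jo_of_sb hs hv ht h1) (h.jo_of_sb hs hv ht h2)

end TF

end Cfsg.Agent.Omega.NO3S.MidB
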