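import Cfsg.Agent.Omega.NO3S.MidB.Inst

/-!
# TYPE N, K-free: the consequences of McLaughlin's theorem for `Jo`

* `TF.jsym` : **`JSym V Z`**;
* `TF.sml_or_bg` : **`Sml V Z ∨ Bg V Z`**;
* `TF.jtrans` : **`Bg V Z → JDist V Z → JTrans V Z`**;
* `TF.jdich` : **`Bg V Z → JDich V Z`**.
-/

set_option autoImplicit false
set_option linter.unusedSectionVars false

namespace Cfsg.Agent.Omega.NO3S.MidQ.McL

variable {M ι : Type*} [AddCommGroup M] {lam : ι → AddSubgroup M} {Φ : ι → AddSubgroup (AddMonoid.End M)}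

theorem big_of (h : McL lam Φ) {i j : ι} (hj : JJ lam Φ i j) {φ : AddMonoid.End M} (hφ : φ ∈ Φ i)
    (hk : Kl lam φ j) (h0 : φ ≠ 0) : Big lam Φ := by
  intro i' j' hj'
  by_contra hcon
  push Not at hcon
  have hfin := h.fin
  have hΦ := h.finΦ i
  have hΦ' := h.finΦ i'
  obtain ⟨β, hβ, hβ0⟩ := h.lne j
  obtain ⟨β', hβ', hβ0'⟩ := h.lne j'
  have h1 : Nat.card (Φ i') ≤ Nat.card (lam i') := by
    let f' : Φ i' → lam i' := fun ψ => ⟨ψ.1 β', h.val i' ψ.1 ψ.2 β'⟩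
    refine Nat.card_le_card_of_injective f' fun ψ χ e => ?_
    have h2 : ψ.1 β' = χ.1 β' := congrArg Subtype.val e
    have h3 : (ψ.1 - χ.1) β' = 0 := by
      show ψ.1 β' - χ.1 β' = 0
      rw [h2, sub_self]
    have h4 : ψ.1 - χ.1 ∈ Φ i' := sub_mem ψ.2 χ.2
    exact Subtype.ext (sub_eq_zero.1 (hcon _ h4 (h.kl_of h4 hβ' hβ0' h3)))
  let f : Φ i → lam i := fun ψ => ⟨ψ.1 β, h.val i ψ.1 ψ.2 β⟩
  have hs : Function.Surjective f := by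
    rintro ⟨a, ha⟩
    obtain ⟨ψ, hψ, e⟩ := h.surj i j β hβ (h.moves hj hβ hβ0) a ha
    exact ⟨⟨ψ, hψ⟩, Subtype.ext e⟩
  have hb : Function.Bijective f := hs.bijective_of_nat_card_le (by rw [h.cardΦ i i', h.card i i']; exact h1)
  have h2 : f ⟨φ, hφ⟩ = f ⟨0, zero_mem _⟩ := Subtype.ext (by
    show φ β = (0 : AddMonoid.End M) β
    rw [hk β hβ]
    rfl)
  exact h0 (congrArg Subtype.val (hb.1 h2))

end Cfsg.Agent.Omega.NO3S.MidQ.McL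

namespace Cfsg.Agent.Omega.NO3S.MidB

open Subgroup Cfsg.Agent.Omega.NO3S.PT Cfsg.Agent.Omega.NoFF.Basic Cfsg.Agent.ZN
open Cfsg.Agent.Omega.NO3S.MidQ (Adj Com Cr UU ws_of kx_of isCj_iff adj_iff com_iff cr_iff UU_of isCj_symm isCj_trans
  com_cj UU_cj le_UU normalizer_le_UU isPGroup_sSup FlagCan PtCan ff mem_ff ff_cj TypN cw mem_cw cw_le cw_cj Jo jo_cj zu
  McL JJ Kl Dist surj_of_inj comm_inj)
open scoped Pointwise

universe u

variable {G : Type u} [Group G] {V Z X Y R L A A' B B' C : Subgroup G}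

namespace TF

variable [Finite G] {S : Sylow 2 G} {P : Subgroup G} (h : TF S P V Z)
include h

section

variable {M : Type*} [AddCommGroup M] {π : G → M} (hM : Md V R π)
include hM

theorem line_of (hA : Adj V Z A R) (hC : Adj V Z C R) {m : M} (hm : m ∈ lamR π A) (hm' : m ∈ lamR π C)
    (h0 : m ≠ 0) : ∃ L, IsCj V L ∧ R ≤ L ∧ A ≤ L ∧ C ≤ L := by
  obtain ⟨α, hα, rfl⟩ := (h.mem_lam hM hA).1 hm
  obtain ⟨β, hβ, e⟩ := (h.mem_lam hM hC).1 hm'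
  have h1 : α * β⁻¹ ∈ R := hM.mem_of (h.adj_ws hA hα) (h.adj_ws hC hβ) e.symm
  obtain ⟨L, hL, hjL, hRL⟩ := hC.line
  have hα1 : α ≠ 1 := fun e => h0 (by rw [e, hM.map_one])
  have hαL : α ∈ L := by
    have e1 : α = α * β⁻¹ * β := by group
    rw [e1]
    exact mul_mem (hRL h1) (hjL hβ)
  obtain ⟨T, hT, hTL, hαT⟩ := h.exists_point hL hαL hα1
  exact ⟨L, hL, hRL, (h.pts_eq hA.left hT hα hαT hα1) ▸ hTL, hjL⟩

theorem big_of_bg (hB : Bg V Z) :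
    McL.Big (fun i : {A // Adj V Z A R} => lamR π i.1) (fun i => PhiR V Z R π i.1) := by
  rintro ⟨A, hA⟩ ⟨B, hB'⟩ hj
  obtain ⟨g, hg, hgB, w, hw, hgw⟩ := hB R A B ((h.jj_iff hM hA hB').1 hj)
  obtain ⟨φ, hφ, e⟩ := h.exists_phi hM hA hg
  refine ⟨φ, hφ, (h.kl_iff hM hA hB' hg e).2 hgB, fun e1 => hgw ?_⟩
  refine (h.phi_zero_iff hM hA hg e hw).1 ?_
  rw [e1]
  rfl

theorem dist_of (hd : JDist V Z) : Dist (fun i : {A // Adj V Z A R} => lamR π i.1) (fun i => PhiR V Z R π i.1) := by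
  rintro ⟨A, hA⟩ ⟨B, hB⟩ a ha b hb hk
  obtain ⟨α, hα, rfl⟩ := (h.mem_lam hM hA).1 ha
  obtain ⟨β, hβ, rfl⟩ := (h.mem_lam hM hB).1 hb
  have h1 := h.adj_ws hA hα
  have h2 := h.adj_ws hB hβ
  rw [← hM.mul _ h1 _ h2, hM.ker _ (mul_mem h1 h2)]
  refine hd R A B hA hB α hα β hβ fun X hX u hu => ?_
  obtain ⟨φ, hφ, e⟩ := h.exists_phi hM hX hu
  have h3 := hk ⟨X, hX⟩ φ hφ
  rw [← hM.mul _ h1 _ h2] at h3
  exact (h.phi_zero_iff hM hX hu e (mul_mem h1 h2)).1 h3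

end

/-- **(1)** -/
theorem jsym : JSym V Z := by
  intro R A B hj
  obtain ⟨M, _, π, hM⟩ := exists_md h.toMid hj.l.right
  exact (h.jj_iff hM hj.r hj.l).1 ((h.mcl hM hj.l.right).symm ((h.jj_iff hM hj.l hj.r).2 hj))

/-- **(3) / (4)** -/
theorem sml_or_bg : Sml V Z ∨ Bg V Z := by
  by_cases hS : Sml V Z
  · exact Or.inl hS
  right
  unfold Sml at hS
  push Not at hS
  obtain ⟨R, A, B, hj, g, hg, hgB, w, hw, hgw⟩ := hS
  obtain ⟨M, _, π, hM⟩ := exists_md h.toMid hj.l.right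
  have hR := hj.l.right
  obtain ⟨φ, hφ, e⟩ := h.exists_phi hM hj.l hg
  have hbig : McL.Big (fun i : {A // Adj V Z A R} => lamR π i.1) (fun i => PhiR V Z R π i.1) := by
    refine (h.mcl hM hR).big_of ((h.jj_iff hM hj.l hj.r).2 hj) hφ ((h.kl_iff hM hj.l hj.r hg e).2 hgB) fun e1 => hgw ?_
    refine (h.phi_zero_iff hM hj.l hg e hw).1 ?_
    rw [e1]
    rfl
  intro R' A' B' hj'
  obtain ⟨x, hx⟩ : ∃ x : G, PT.cj x R' = R := by
    obtain ⟨a, ha⟩ := hR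
    obtain ⟨b, hb⟩ := hj'.l.right
    exact ⟨a * b⁻¹, by rw [ha, hb, cj_cj, inv_mul_cancel_right]⟩
  have hj2 := hj'.cj x
  rw [hx] at hj2
  obtain ⟨ψ, hψ, hk, h0⟩ := hbig ⟨_, hj2.l⟩ ⟨_, hj2.r⟩ ((h.jj_iff hM hj2.l hj2.r).2 hj2)
  obtain ⟨g', hg', e'⟩ := (h.mem_phi hM hj2.l).1 hψ
  have h1 := (h.kl_iff hM hj2.l hj2.r hg' e').1 hk
  obtain ⟨w', hw', hgw'⟩ : ∃ w' ∈ ws V R, g' * w' ≠ w' * g' := by
    by_contra hcon
    push Not at hcon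
    exact h0 (hM.end_ext fun w hw => (h.phi_zero_iff hM hj2.l hg' e' hw).2 (hcon w hw))
  refine ⟨x⁻¹ * g' * x, ?_, fun b hb => ?_, x⁻¹ * w' * x, ?_, fun e2 => hgw' ?_⟩
  · rw [UU_cj, mem_cj] at hg'
    exact hg'
  · have h2 := h1 (x * b * x⁻¹) (conj_mem_cj hb)
    have h3 := congrArg (fun t => x⁻¹ * t * x) h2
    simpa [mul_assoc] using h3
  · rw [← hx, ws_cj, mem_cj] at hw'
    exact hw'
  · have h3 := congrArg (fun t => x * t * x⁻¹) e2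
    simpa [mul_assoc] using h3

/-- **(5)** -/
theorem jtrans (hB : Bg V Z) (hd : JDist V Z) : JTrans V Z := by
  intro R A B C hab hbc hne
  obtain ⟨M, _, π, hM⟩ := exists_md h.toMid hab.l.right
  refine (h.jj_iff hM hab.l hbc.r).1 ((h.mcl hM hab.l.right).trans (h.big_of_bg hM hB) (h.dist_of hM hd)
    ((h.jj_iff hM hab.l hab.r).2 hab) ((h.jj_iff hM hab.r hbc.r).2 hbc) fun e => ?_)
  obtain ⟨α, hα, hα1⟩ := h.pt_ne_bot hab.l.left
  have h1 : π α ∈ lamR π C := by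
    have h2 := h.pi_mem hM hab.l hα
    have e' : lamR π A = lamR π C := e
    rwa [e'] at h2
  obtain ⟨L, hL, hRL, hAL, hCL⟩ := h.line_of hM hab.l hbc.r (h.pi_mem hM hab.l hα) h1 (h.pi_ne hM hab.l hα hα1)
  exact hne L hL hRL hAL hCL

/-- **(5')** -/
theorem jdich (hB : Bg V Z) : JDich V Z := by
  intro R Y I J hj hI
  obtain ⟨M, _, π, hM⟩ := exists_md h.toMid hj.l.right
  rcases (h.mcl hM hj.l.right).dich (h.big_of_bg hM hB) (y := ⟨Y, hj.l⟩) (i := ⟨I, hI⟩) (j := ⟨J, hj.r⟩)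
    ((h.jj_iff hM hj.l hj.r).2 hj) with h1 | h1
  · left
    intro g hg
    obtain ⟨φ, hφ, e⟩ := h.exists_phi hM hj.l hg
    obtain ⟨φ', hφ', h2, h3⟩ := h1 φ hφ
    obtain ⟨g', hg', e'⟩ := (h.mem_phi hM hj.l).1 hφ'
    refine ⟨g', hg', fun b hb => ?_, (h.kl_iff hM hj.l hI hg' e').1 h3⟩
    have hbW := h.adj_ws hj.r hb
    have h4 : φ' (π b) = φ (π b) := h2 (π b) (h.pi_mem hM hj.r hb)
    rw [e' b hbW, e b hbW] at h4
    exact mul_right_cancel (h.pi_inj hM hj.l (h.comm_adj hj.l hg' hbW) (h.comm_adj hj.l hg hbW) h4)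
  · right
    intro α hα
    obtain ⟨m, hm, h2⟩ := h1 (π α) (h.pi_mem hM hI hα)
    obtain ⟨γ, hγ, rfl⟩ := (h.mem_lam hM hj.r).1 hm
    refine ⟨γ, hγ, fun g hg => ?_⟩
    obtain ⟨φ, hφ, e⟩ := h.exists_phi hM hj.l hg
    have h3 := h2 φ hφ
    have h4 := h.adj_ws hI hα
    have h5 := h.adj_ws hj.r hγ
    rw [← hM.mul _ h4 _ h5] at h3
    exact (h.phi_zero_iff hM hj.l hg e (mul_mem h4 h5)).1 h3

end TF

end Cfsg.Agent.Omega.NO3S.MidB
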