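import Cfsg.Agent.Omega.NO3S.MidB.TGOne
import Cfsg.Agent.Omega.NO3S.MidB.ToSLB
import Cfsg.Agent.Omega.NO3S.MidB.NTwo
import Cfsg.Agent.Omega.NO3S.MidB.Trans
import Cfsg.Agent.Omega.NO3S.MidB.Dist

/-!
# NO-3S, the `(R, B)`-frame, `n = 2`: TYPE N is impossible (K-free; bb OMEGA #18317, TCARD 5)
-/

set_option autoImplicit false

namespace Cfsg.Agent.Omega.NO3S.MidB

open Subgroup
open Cfsg.Agent.Omega.NO3S.MidQ (Adj Com Cr UU TypN)

variable {G : Type*} [Group G] [Finite G] {S : Sylow 2 G} {P V Z : Subgroup G}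

/-- TYPE N with a critical triple is impossible -/
theorem TF.false (h : TF S P V Z) : False := by
  have hv := h.jval
  have hs := h.jsym
  have hd := h.dist hs hv
  rcases h.sml_or_bg with hS | hB
  · exact h.false_of_sml hs hd hS
  · obtain ⟨Blk, m, hb⟩ := h.slb hs hv (h.jtrans hB hd) (h.jdich hB) hB
    exact h.toMid.no_SLB h.comm h.ex hb

/-- TYPE N is impossible over `Mid` -/
theorem Mid.no_typN (h : Mid S P V Z) (hN : TypN V Z) (hex : ∃ A R B, Cr V Z A R B) : False :=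
  TF.false (S := S) (P := P) ⟨h, hN, hex⟩

end Cfsg.Agent.Omega.NO3S.MidB
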