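import Cfsg.Agent.Omega.NO3S.MidQ.Base
import Cfsg.Agent.Omega.NO3S.PB.FTwo
import Cfsg.Agent.Omega.NO3S.PB.Geom

/-!
# NO-3S, natural lines, critical distance 2, the `(R, B)`-frame (field automorphisms allowed): the basic facts

`MidQ/Base.lean` with `PL S P V Z` replaced by `PB S (S ∩ C(Z)) P V Z`, `OmQ S V` by `OmB (S ∩ C(Z)) V`.  The definitions
`Adj`, `Com`, `Cr`, `UU` are those of `MidQ/Base.lean`.

* `Mid.t3` : (T3') a 2-element which centralises the point `Y ~ X` and commutes with `1 ≠ x ∈ X`, centralises `X`;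
* `Mid.t3n` : a 2-element which centralises the point `Y ~ X` and normalises `X`, centralises `X`.
-/

set_option autoImplicit false
set_option linter.unusedSectionVars false

namespace Cfsg.Agent.Omega.NO3S.MidB

open Subgroup Cfsg.Agent.Omega.NO3S.PT Cfsg.Agent.Omega.NoFF.Basic Cfsg.Agent.ZN
open Cfsg.Agent.Omega.NO3S.MidQ (Adj Com Cr UU ws_of kx_of isCj_iff adj_iff com_iff cr_iff UU_of isCj_symm isCj_trans
  com_cj UU_cj le_UU normalizer_le_UU isPGroup_sSup)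
open Cfsg.Agent.MinSimple.VModule (le_o2)
open scoped Pointwise

variable {G : Type*} [Group G] {V Z X Y R L : Subgroup G}

/-- a 2-element normalising a nontrivial 2-group commutes with a nontrivial element of it -/
theorem exists_fix [Finite G] {D : Subgroup G} (hD : IsPGroup 2 D) (hne : ∃ x ∈ D, x ≠ 1) {b : G} (hb : TwoEl b)
    (hbD : cj b D = D) : ∃ d ∈ D, d ≠ 1 ∧ b * d = d * b := by
  have : Fact (Nat.Prime 2) := ⟨Nat.prime_two⟩
  have hN : zpowers b ≤ normalizer (D : Set G) := zpowers_le.2 (cj_eq_iff.1 hbD)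
  let _ : MulAction (zpowers b) D :=
    { smul := fun s d => ⟨(s : G) * d * (s : G)⁻¹, (mem_normalizer_iff.1 (hN s.2) d).1 d.2⟩
      one_smul := fun d => Subtype.ext (by
        show (1 : G) * d * (1 : G)⁻¹ = d
        group)
      mul_smul := fun s t d => Subtype.ext (by
        show (s : G) * t * d * ((s : G) * t)⁻¹ = (s : G) * ((t : G) * d * (t : G)⁻¹) * (s : G)⁻¹
        group) }
  have h2 : 2 ∣ Nat.card D := by
    obtain ⟨n, hn⟩ := IsPGroup.iff_card.1 hD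
    rw [hn]
    have : n ≠ 0 := by
      rintro rfl
      rw [pow_zero] at hn
      obtain ⟨x, hx, hx1⟩ := hne
      have := Subgroup.card_eq_one.1 hn
      rw [this] at hx
      exact hx1 (mem_bot.1 hx)
    exact dvd_pow_self 2 this
  obtain ⟨d, hd, hd1⟩ := hb.isPGroup.exists_fixed_point_of_prime_dvd_card_of_fixed_point D h2 (a := 1) (by
    intro s
    apply Subtype.ext
    show (s : G) * (1 : G) * (s : G)⁻¹ = 1
    group)
  refine ⟨d, d.2, fun e => hd1 (Subtype.ext e.symm), ?_⟩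
  have h3 : (⟨b, mem_zpowers b⟩ : zpowers b) • d = d := hd _
  have h4 : b * (d : G) * b⁻¹ = d := congrArg Subtype.val h3
  rwa [mul_inv_eq_iff_eq_mul] at h4

/-! ### The hypotheses -/

/-- **The hypotheses**: natural lines, the `(R, B)`-frame, (F1), `Ω₁(Z(C_B(V))) ≤ V`, critical distance at least 2. -/
structure Mid [Finite G] (S : Sylow 2 G) (P V Z : Subgroup G) : Prop where
  pl : PB S ((S : Subgroup G) ⊓ centralizer (Z : Set G)) P V Z
  hf : ¬ kx V Z ≤ centralizer (V : Set G)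
  hO : OmB ((S : Subgroup G) ⊓ centralizer (Z : Set G)) V
  com : ∀ X Y, Adj V Z X Y → Com V X Y

namespace Mid

variable [Finite G] {S : Sylow 2 G} {P : Subgroup G}

theorem BZ_conj (g : G) : cj g ((S : Subgroup G) ⊓ centralizer (Z : Set G)) =
    ((g • S : Sylow 2 G) : Subgroup G) ⊓ centralizer ((cj g Z : Subgroup G) : Set G) := by
  rw [cj_inf, cj_centralizer]
  rfl

theorem conj (h : Mid S P V Z) (g : G) : Mid (g • S) (cj g P) (cj g V) (cj g Z) where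
  pl := by
    have h1 := h.pl.conj g
    rwa [BZ_conj] at h1
  hf := by
    rw [kx_cj_left, kx_cj, ← cj_centralizer, cj_le_cj]
    exact h.hf
  hO := by
    have h1 := PB.Geom.omB_conj h.hO g
    rwa [BZ_conj] at h1
  com X Y hXY := by
    have h1 : Adj V Z X Y := (adj_iff (V := V) (Z := Z) ⟨g, rfl⟩ ⟨g, rfl⟩).1 hXY
    exact (com_iff (V := V) ⟨g, rfl⟩).2 (h.com X Y h1)

variable (h : Mid S P V Z)
include h

/-- **every flag is as good as `(Z, V)`** -/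
theorem exists_conj {X L : Subgroup G} (hX : IsCj Z X) (hL : IsCj V L) (hXL : X ≤ L) :
    ∃ g : G, X = cj g Z ∧ L = cj g V := by
  obtain ⟨g, rfl⟩ := hL
  have h1 : cj g⁻¹ X ≤ V := by rwa [cj_le_iff, inv_inv]
  obtain ⟨p, hp, hpX⟩ := h.pl.exists_pt (hX.cj g⁻¹) h1
  refine ⟨g * p, ?_, ?_⟩
  · rw [← cj_cj, ← hpX, cj_cj, mul_inv_cancel, cj_one]
  · rw [← cj_cj, cj_eq_iff.2 (h.pl.PN hp)]

/-- **every flag is as good as `(Z, V)`** -/
theorem flag {X L : Subgroup G} (hX : IsCj Z X) (hL : IsCj V L) (hXL : X ≤ L) :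
    ∃ (T : Sylow 2 G) (Q : Subgroup G), Mid T Q L X := by
  obtain ⟨g, rfl, rfl⟩ := h.exists_conj hX hL hXL
  exact ⟨g • S, cj g P, h.conj g⟩

/-- two flags are conjugate -/
theorem exists_conj₂ {X L X' L' : Subgroup G} (hX : IsCj Z X) (hL : IsCj V L) (hXL : X ≤ L) (hX' : IsCj Z X')
    (hL' : IsCj V L') (hXL' : X' ≤ L') : ∃ g : G, X' = cj g X ∧ L' = cj g L := by
  obtain ⟨g, rfl, rfl⟩ := h.exists_conj hX hL hXL
  obtain ⟨g', rfl, rfl⟩ := h.exists_conj hX' hL' hXL'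
  exact ⟨g' * g⁻¹, by rw [cj_cj, inv_mul_cancel_right], by rw [cj_cj, inv_mul_cancel_right]⟩

/-- every point is on a line -/
theorem exists_line (hX : IsCj Z X) : ∃ L, IsCj V L ∧ X ≤ L := by
  obtain ⟨g, rfl⟩ := hX
  exact ⟨cj g V, ⟨g, rfl⟩, cj_le_cj.2 h.pl.ZV⟩

theorem card_line (hL : IsCj V L) : Nat.card L = Nat.card V := by
  obtain ⟨g, rfl⟩ := hL
  exact card_cj g V

/-- two points are on at most one line -/
theorem line_unique {M : Subgroup G} (hX : IsCj Z X) (hY : IsCj Z Y) (hne : X ≠ Y) (hL : IsCj V L) (hM : IsCj V M)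
    (h1 : X ≤ L) (h2 : Y ≤ L) (h3 : X ≤ M) (h4 : Y ≤ M) : L = M := by
  obtain ⟨T, Q, h'⟩ := h.flag hX hL h1
  have hle : L ≤ M := by
    intro v hv
    obtain ⟨x, hx, y, hy, rfl⟩ := h'.pl.exists_mul h'.pl.isCj_self h1 ((isCj_iff hX).2 hY) h2 hne hv
    exact mul_mem (h3 hx) (h4 hy)
  exact Subgroup.eq_of_le_of_card_ge hle (by rw [h.card_line hL, h.card_line hM])

/-- a second point on a line -/
theorem exists_second (hX : IsCj Z X) (hL : IsCj V L) (hXL : X ≤ L) : ∃ Y, IsCj Z Y ∧ Y ≤ L ∧ Y ≠ X := by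
  obtain ⟨T, Q, h'⟩ := h.flag hX hL hXL
  obtain ⟨Y, h1, h2, h3⟩ := h'.pl.exists_second h'.pl.isCj_self hXL
  exact ⟨Y, (isCj_iff hX).1 h1, h2, h3⟩

/-- a third point on a line -/
theorem exists_third (hX : IsCj Z X) (hY : IsCj Z Y) (hL : IsCj V L) (hXL : X ≤ L) (hYL : Y ≤ L) (hne : X ≠ Y) :
    ∃ T, IsCj Z T ∧ T ≤ L ∧ T ≠ X ∧ T ≠ Y := by
  obtain ⟨_, Q, h'⟩ := h.flag hX hL hXL
  obtain ⟨T, h1, h2, h3⟩ := h'.pl.exists_third h'.pl.isCj_self hXL ((isCj_iff hX).2 hY) hYL hne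
  exact ⟨T, (isCj_iff hX).1 h1, h2, h3⟩

/-- every nontrivial element of a line is in a point -/
theorem exists_point (hL : IsCj V L) {v : G} (hv : v ∈ L) (hv1 : v ≠ 1) : ∃ X, IsCj Z X ∧ X ≤ L ∧ v ∈ X := by
  obtain ⟨g, rfl⟩ := hL
  obtain ⟨X, h1, h2, h3⟩ := (h.conj g).pl.exists_point hv hv1
  exact ⟨X, isCj_cj.1 h1, h2, h3⟩

theorem line_le (hL : IsCj V L) (hXL : X ≤ L) : L ≤ ws V X := le_ws hL hXL

theorem pt_ne_bot (hX : IsCj Z X) : ∃ x ∈ X, x ≠ 1 := h.pl.pt_ne_bot hX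

theorem pts_eq (hX : IsCj Z X) (hY : IsCj Z Y) {z : G} (hz : z ∈ X) (hz' : z ∈ Y) (hz1 : z ≠ 1) : X = Y :=
  h.pl.pts_eq hX hY hz hz' hz1

theorem com_self (hX : IsCj Z X) : Com V X X := h.pl.ws_comm hX

theorem ws_sq (hX : IsCj Z X) {w : G} (hw : w ∈ ws V X) : w * w = 1 := by
  obtain ⟨g, rfl⟩ := hX
  have h1 := (h.conj g).pl.ws_sq
  rw [ws_cj_left] at h1
  exact h1 w hw

theorem ws_comm (hX : IsCj Z X) {a b : G} (ha : a ∈ ws V X) (hb : b ∈ ws V X) : a * b = b * a :=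
  (mem_centralizer_iff.1 (h.com_self hX ha) b hb).symm

theorem isPGroup_ws (hX : IsCj Z X) : IsPGroup 2 (ws V X) := fun w => ⟨1, by
  rw [pow_one, pow_two]; exact Subtype.ext (h.ws_sq hX w.2)⟩

theorem pt_le_ws (hX : IsCj Z X) : X ≤ ws V X := by
  obtain ⟨L, hL, hXL⟩ := h.exists_line hX
  exact hXL.trans (le_ws hL hXL)

theorem adj_le_ws (hXY : Adj V Z X Y) : Y ≤ ws V X := by
  obtain ⟨h1, h2, h3, M, h4, h5, h6⟩ := hXY
  exact h6.trans (le_ws h4 h5)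

/-- `W_X` commutes with `B` if `X ~ R ~ B` or `B = R` .. -/
theorem ws_le_cent (hXR : Adj V Z X R) (hRY : Adj V Z R Y) : ws V X ≤ centralizer (Y : Set G) :=
  (h.com X R hXR).trans (centralizer_le (h.adj_le_ws hRY))

theorem ws_le_cent' (hXR : Adj V Z X R) : ws V X ≤ centralizer (R : Set G) :=
  (h.com X R hXR).trans (centralizer_le (h.pt_le_ws hXR.right))

theorem ws_norm (hXR : Adj V Z X R) (hRY : Adj V Z R Y) : ws V X ≤ normalizer ((ws V Y : Subgroup G) : Set G) :=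
  (h.ws_le_cent hXR hRY).trans ((centralizer_le_normalizer _).trans (normalizer_le_ws V Y))

/-- **(T3')** a 2-element which centralises the point `Y ~ X` and commutes with `1 ≠ x ∈ X`, centralises `X` -/
theorem t3 (hY : Adj V Z Y X) {b x : G} (hb : TwoEl b) (hbY : ∀ y ∈ Y, b * y = y * b) (hx : x ∈ X) (hx1 : x ≠ 1)
    (hbx : b * x = x * b) : ∀ y ∈ X, b * y = y * b := by
  obtain ⟨h1, h2, h3, L, h4, h5, h6⟩ := hY
  have h7 := h.pl.two_col' h4 h1 h5 h2 h6 h3 hb (mem_centralizer_iff.2 fun y hy => (hbY y hy).symm) hx hx1 hbx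
  exact fun y hy => (mem_centralizer_iff.1 h7 y (h6 hy)).symm

/-- **(T3')**, normaliser form -/
theorem t3n (hY : Adj V Z Y X) {b : G} (hb : TwoEl b) (hbY : ∀ y ∈ Y, b * y = y * b) (hbX : PT.cj b X = X) :
    ∀ y ∈ X, b * y = y * b := by
  obtain ⟨x, hx, hx1, hbx⟩ := exists_fix ((h.isPGroup_ws hY.right).to_le (h.pt_le_ws hY.right))
    (h.pt_ne_bot hY.right) hb hbX
  exact h.t3 hY hb hbY hx hx1 hbx

/-! ### (0.1) -/

/-- the `W_A`, `A ~ R`, normalise each other -/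
theorem ws_norm_ws {A B : Subgroup G} (hA : Adj V Z A R) (hB : Adj V Z B R) :
    ws V A ≤ normalizer ((ws V B : Subgroup G) : Set G) := h.ws_norm hA hB.symm

theorem isPGroup_UU (R : Subgroup G) : IsPGroup 2 (UU V Z R) := by
  refine isPGroup_sSup _ ?_ ?_
  · rintro _ ⟨A, hA, rfl⟩
    exact h.isPGroup_ws hA.left
  · rintro _ ⟨A, hA, rfl⟩ _ ⟨B, hB, rfl⟩
    exact h.ws_norm_ws hA hB

/-- **(0.1)** `U_R` centralises `W_R` -/
theorem UU_le_centralizer (R : Subgroup G) : UU V Z R ≤ centralizer ((ws V R : Subgroup G) : Set G) := by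
  refine sSup_le ?_
  rintro _ ⟨A, hA, rfl⟩
  exact h.com A R hA

theorem UU_le_cent_pt (hR : IsCj Z R) : UU V Z R ≤ centralizer (R : Set G) :=
  (h.UU_le_centralizer R).trans (centralizer_le (h.pt_le_ws hR))

/-- `U_R` normalises every `W_B`, `B ~ R` -/
theorem UU_norm {B : Subgroup G} (hB : Adj V Z B R) : UU V Z R ≤ normalizer ((ws V B : Subgroup G) : Set G) := by
  refine sSup_le ?_
  rintro _ ⟨A, hA, rfl⟩
  exact h.ws_norm_ws hA hB

/-- `U_R` centralises every point `B ~ R` -/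
theorem UU_le_cent_adj {B : Subgroup G} (hB : Adj V Z B R) : UU V Z R ≤ centralizer (B : Set G) :=
  (h.UU_le_centralizer R).trans (centralizer_le (h.adj_le_ws hB.symm))

/-- **(0.1)** `U_R ≤ O₂(N_G(R))` -/
theorem UU_le_o2 (hR : IsCj Z R) : UU V Z R ≤ o2 (normalizer (R : Set G)) :=
  le_o2 ((h.UU_le_cent_pt hR).trans (centralizer_le_normalizer _)) (h.isPGroup_UU R)
    (normalizer_le_UU V Z R)

/-- `W_R ≤ U_R` -/
theorem ws_le_UU (hR : IsCj Z R) : ws V R ≤ UU V Z R := by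
  refine ws_le fun L hL hRL => ?_
  obtain ⟨Y, hY, hYL, hYR⟩ := h.exists_second hR hL hRL
  exact (le_ws hL hYL).trans (le_UU ⟨hY, hR, hYR, L, hL, hYL, hRL⟩)

/-! ### Stabilisers of lines modulo a point -/

/-- `K_X` is transitive on the points `≠ X` of a line on `X` -/
theorem K_trans {A B : Subgroup G} (hX : IsCj Z X) (hL : IsCj V L) (hXL : X ≤ L) (hA : IsCj Z A) (hAL : A ≤ L)
    (hB : IsCj Z B) (hBL : B ≤ L) (hAX : A ≠ X) (hBX : B ≠ X) : ∃ k ∈ kx V X, cj k A = B := by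
  obtain ⟨T, Q, h'⟩ := h.flag hX hL hXL
  obtain ⟨k, hk, -, hkA⟩ := h'.pl.K_trans h'.hf ((isCj_iff hX).2 hA) hAL ((isCj_iff hX).2 hB) hBL hAX hBX
  rw [kx_of hL] at hk
  exact ⟨k, hk, hkA⟩

/-- `K_X` maps `v ∈ L - X` to every element of `X v` -/
theorem K_act (hX : IsCj Z X) (hL : IsCj V L) (hXL : X ≤ L) {v x : G} (hv : v ∈ L) (hvX : v ∉ X) (hx : x ∈ X) :
    ∃ k ∈ kx V X, k * v * k⁻¹ * v⁻¹ = x := by
  obtain ⟨T, Q, h'⟩ := h.flag hX hL hXL
  obtain ⟨k, hk, -, hkv⟩ := h'.pl.K_act h'.hf hv hvX hx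
  rw [kx_of hL] at hk
  exact ⟨k, hk, hkv⟩

/-- an element of `N_G(X)` fixing `v ∈ L - X` modulo `X` fixes the line `L` -/
theorem stab (hX : IsCj Z X) (hL : IsCj V L) (hXL : X ≤ L) {g v : G} (hg : g ∈ normalizer (X : Set G)) (hv : v ∈ L)
    (hvX : v ∉ X) (hgv : g * v * g⁻¹ ∈ L) : cj g L = L := by
  have hv1 : v ≠ 1 := fun e => hvX (e ▸ one_mem _)
  obtain ⟨T, hT, hTL, hvT⟩ := h.exists_point hL hv hv1
  obtain ⟨T', hT', hTL', hvT'⟩ := h.exists_point hL hgv (by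
    intro e
    exact hv1 (conj_eq_one_iff.1 e))
  have h1 : cj g T = T' := h.pts_eq (hT.cj g) hT' (conj_mem_cj hvT) hvT' (fun e => hv1 (conj_eq_one_iff.1 e))
  have h2 : cj g X = X := cj_eq_iff.2 hg
  have hne : X ≠ T' := by
    intro e
    rw [← h1, ← h2] at e
    exact hvX ((cj_inj.1 e) ▸ hvT)
  exact h.line_unique hX hT' hne (hL.cj g) hL (by rw [← h2]; exact cj_le_cj.2 hXL) (by rw [← h1]; exact cj_le_cj.2 hTL)
    hXL hTL'

/-- **(0.1), (F4)** an element of `N_G(X)` fixing `v ∈ L - X` modulo `X` is a product of an element of `K_X` and an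
element of `N_G(X)` which fixes the line `L` and the point `Y` of `L`. -/
theorem stab_pt (hX : IsCj Z X) (hL : IsCj V L) (hXL : X ≤ L) (hY : IsCj Z Y) (hYL : Y ≤ L) (hYX : Y ≠ X) {g v : G}
    (hg : g ∈ normalizer (X : Set G)) (hv : v ∈ L) (hvX : v ∉ X) (hgv : g * v * g⁻¹ ∈ L) :
    ∃ k ∈ kx V X, cj (k * g) L = L ∧ cj (k * g) Y = Y := by
  have h1 := h.stab hX hL hXL hg hv hvX hgv
  have h2 : cj g Y ≤ L := by rw [← h1]; exact cj_le_cj.2 hYL
  obtain ⟨k, hk, hkY⟩ := h.K_trans hX hL hXL (hY.cj g) h2 hY hYL (by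
    intro e
    rw [← cj_eq_iff.2 hg] at e
    exact hYX (cj_inj.1 e)) hYX
  refine ⟨k, hk, ?_, ?_⟩
  · rw [← cj_cj, h1, cj_eq_iff]
    exact kx_normalizes hXL (le_ws hL hXL) hk
  · rw [← cj_cj, hkY]

/-! ### Critical pairs -/

theorem cr_ne (hc : Cr V Z X R Y) : X ≠ Y := by
  rintro rfl
  exact hc.ne (h.com_self hc.l.left)

theorem cr_not_adj (hc : Cr V Z X R Y) : ¬ Adj V Z X Y := fun e => hc.ne (h.com X Y e)

/-- the line `RY` does not contain `X` -/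
theorem cr_not_le (hc : Cr V Z X R Y) (hL : IsCj V L) (hYL : Y ≤ L) : ¬ X ≤ L := fun e =>
  h.cr_not_adj hc ⟨hc.l.left, hc.r.right, h.cr_ne hc, L, hL, e, hYL⟩

theorem cr_norm (hc : Cr V Z X R Y) : ws V X ≤ normalizer ((ws V Y : Subgroup G) : Set G) := h.ws_norm hc.l hc.r

/-- `I_L` for the line `L` on the points `A ≠ B` -/
theorem inf_ws {A B A' B' : Subgroup G} (hL : IsCj V L) (hA : IsCj Z A) (hB : IsCj Z B) (hA' : IsCj Z A')
    (hB' : IsCj Z B') (hAL : A ≤ L) (hBL : B ≤ L) (hAL' : A' ≤ L) (hBL' : B' ≤ L) (hne : A ≠ B) (hne' : A' ≠ B') :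
    ws V A ⊓ ws V B = ws V A' ⊓ ws V B' := by
  obtain ⟨T, Q, h'⟩ := h.flag hA hL hAL
  have h1 := h'.pl.IV_eq h'.hf h'.pl.isCj_self hAL ((isCj_iff hA).2 hB) hBL hne
  have h2 := h'.pl.IV_eq h'.hf ((isCj_iff hA).2 hA') hAL' ((isCj_iff hA).2 hB') hBL' hne'
  rw [ws_of hL, ws_of hL] at h1 h2
  rw [h1, h2]

/-- `W_A ∩ W_B ≤ W_C` for three points of a line, `A ≠ B` -/
theorem inf_le {A B C : Subgroup G} (hL : IsCj V L) (hA : IsCj Z A) (hB : IsCj Z B) (hC : IsCj Z C)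
    (hAL : A ≤ L) (hBL : B ≤ L) (hCL : C ≤ L) (hne : A ≠ B) : ws V A ⊓ ws V B ≤ ws V C := by
  by_cases h1 : A = C
  · rw [← h1]; exact inf_le_left
  · rw [h.inf_ws hL hA hB hA hC hAL hBL hAL hCL hne h1]
    exact inf_le_right

/-- **(F2)**: `u ∈ I_L - L`; any two points of `L` are interchanged by a 2-element centralising `u` which fixes `L`
and lies in `⟨K_X : X ≤ L⟩`. -/
theorem F2_swap {A B C D : Subgroup G} (hL : IsCj V L) (hA : IsCj Z A) (hB : IsCj Z B) (hAL : A ≤ L) (hBL : B ≤ L)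
    (hne : A ≠ B) (hC : IsCj Z C) (hD : IsCj Z D) (hCL : C ≤ L) (hDL : D ≤ L) {u : G} (hu : u ∈ ws V A)
    (hu' : u ∈ ws V B) (huL : u ∉ L) :
    ∃ x : G, TwoEl x ∧ x * u = u * x ∧ cj x C = D ∧ cj x D = C ∧ cj x L = L ∧
      ∀ w ∈ ws V A ⊓ ws V B, x * w * x⁻¹ * w⁻¹ ∈ L := by
  obtain ⟨T, Q, h'⟩ := h.flag hA hL hAL
  have h1 := h'.pl.IV_eq h'.hf h'.pl.isCj_self hAL ((isCj_iff hA).2 hB) hBL hne
  rw [ws_of hL, ws_of hL] at h1
  obtain ⟨x, hx, hx2, hxu, hxC, hxD⟩ := h'.pl.F2_swap h'.hf h'.hO (by rw [← h1]; exact ⟨hu, hu'⟩) huL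
    ((isCj_iff hA).2 hC) hCL ((isCj_iff hA).2 hD) hDL
  refine ⟨x, hx2, hxu, hxC, hxD, cj_eq_iff.2 (h'.pl.XV_le_N hx), fun w hw => ?_⟩
  rw [h1] at hw
  exact h'.pl.XV_act hx hw

/-- **(STAR)**, (0.2): `X ∩ W_Y = 1` for a critical pair. -/
theorem star (hc : Cr V Z X R Y) {u : G} (hu : u ∈ X) (hu' : u ∈ ws V Y) : u = 1 := by
  by_contra hu1
  obtain ⟨M, hM, hRM, hYM⟩ := hc.r.line
  have hXM : ¬ X ≤ M := h.cr_not_le hc hM hYM
  obtain ⟨T, Q, h'⟩ := h.flag hc.r.left hM hRM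
  have hR := hc.r.left
  have h1 := h'.pl.IV_eq h'.hf h'.pl.isCj_self hRM ((isCj_iff hR).2 hc.r.right) hYM hc.r.ne
  rw [ws_of hM, ws_of hM] at h1
  have h2 := h'.pl.star h'.hf h'.hO ((isCj_iff hR).2 hc.l.left) hXM ((isCj_iff hR).2 hR) hRM
    ((isCj_iff hR).2 hc.r.right) hYM hu hu1 (by
      rw [← h1]
      exact ⟨h.adj_le_ws hc.l.symm hu, hu'⟩) (by
      rw [ws_of hM, ws_of hM]
      exact h.com X R hc.l)
  rw [ws_of hM, ws_of hM] at h2
  exact hc.ne h2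

theorem star' (hc : Cr V Z X R Y) {u : G} (hu : u ∈ Y) (hu' : u ∈ ws V X) : u = 1 := h.star hc.symm hu hu'

/-- `[a, b] ∈ W_X ∩ W_Y` for `a ∈ W_X`, `b ∈ W_Y` -/
theorem comm_mem (hc : Cr V Z X R Y) {a b : G} (ha : a ∈ ws V X) (hb : b ∈ ws V Y) :
    a * b * a⁻¹ * b⁻¹ ∈ ws V X ⊓ ws V Y := by
  have h1 := (mem_normalizer_iff.1 (h.cr_norm hc ha) b).1 hb
  have h2 := (mem_normalizer_iff.1 (h.cr_norm hc.symm hb) a⁻¹).1 (inv_mem ha)
  refine ⟨?_, (ws V Y).mul_mem h1 ((ws V Y).inv_mem hb)⟩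
  have e : a * b * a⁻¹ * b⁻¹ = a * (b * a⁻¹ * b⁻¹) := by group
  rw [e]
  exact (ws V X).mul_mem ha h2

/-- **(0.3)** an element of `W_Y` which centralises `W_X` modulo `X` centralises `W_X` -/
theorem cent_of_mod (hc : Cr V Z X R Y) {w : G} (hw : w ∈ ws V Y)
    (hwX : ∀ x ∈ ws V X, w * x * w⁻¹ * x⁻¹ ∈ X) : ∀ x ∈ ws V X, w * x = x * w := by
  intro x hx
  have h1 := (h.comm_mem hc.symm hw hx).1
  have h2 := h.star hc (hwX x hx) h1
  rwa [mul_inv_eq_one, mul_inv_eq_iff_eq_mul] at h2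

/-- **(0.3)** an element of `W_X` which is centralised modulo `X` by `W_Y` is centralised by `W_Y` -/
theorem cent_of_mod' (hc : Cr V Z X R Y) {x : G} (hx : x ∈ ws V X)
    (hxX : ∀ w ∈ ws V Y, w * x * w⁻¹ * x⁻¹ ∈ X) : ∀ w ∈ ws V Y, w * x = x * w := by
  intro w hw
  have h1 := (h.comm_mem hc.symm hw hx).1
  have h2 := h.star hc (hxX w hw) h1
  rwa [mul_inv_eq_one, mul_inv_eq_iff_eq_mul] at h2

/-- `W_Y ∩ K_X = C_{W_Y}(W_X)` -/
theorem inf_kx (hc : Cr V Z X R Y) :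
    ws V Y ⊓ kx V X = ws V Y ⊓ centralizer ((ws V X : Subgroup G) : Set G) := by
  apply le_antisymm
  · rintro w ⟨hw, hwK⟩
    refine ⟨hw, mem_centralizer_iff.2 fun x hx => ?_⟩
    exact (h.cent_of_mod hc hw (mem_kx.1 hwK).2 x hx).symm
  · rintro w ⟨hw, hwC⟩
    refine ⟨hw, mem_kx.2 ⟨fun x hx => ?_, fun x hx => ?_⟩⟩
    · exact (mem_centralizer_iff.1 hwC x (h.pt_le_ws hc.l.left hx)).symm
    · have h1 := mem_centralizer_iff.1 hwC x hx
      have e : w * x * w⁻¹ * x⁻¹ = 1 := by rw [← h1]; group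
      rw [e]
      exact one_mem _

/-- the commutator group `R(X, Y) = [W_X, W_Y]` -/
theorem comm_le (hc : Cr V Z X R Y) : ⁅ws V X, ws V Y⁆ ≤ ws V X ⊓ ws V Y := by
  rw [commutator_le]
  intro a ha b hb
  exact h.comm_mem hc ha hb

theorem comm_inf_left (hc : Cr V Z X R Y) : ⁅ws V X, ws V Y⁆ ⊓ X = ⊥ := by
  rw [eq_bot_iff]
  rintro u ⟨hu, hu'⟩
  exact mem_bot.2 (h.star hc hu' (h.comm_le hc hu).2)

theorem comm_inf_right (hc : Cr V Z X R Y) : ⁅ws V X, ws V Y⁆ ⊓ Y = ⊥ := by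
  rw [eq_bot_iff]
  rintro u ⟨hu, hu'⟩
  exact mem_bot.2 (h.star' hc hu' (h.comm_le hc hu).1)

end Mid

end Cfsg.Agent.Omega.NO3S.MidB
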