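import Cfsg.Agent.Omega.NO3S.MidB.Mod

/-!
# TYPE N, K-free: the instance of `McL` on `W_R / R`

* `TF.mcl` : **the instance**;
* `TF.jj_iff`, `TF.kl_iff` : translation.
-/

set_option autoImplicit false
set_option linter.unusedSectionVars false

namespace Cfsg.Agent.Omega.NO3S.MidB

open Subgroup Cfsg.Agent.Omega.NO3S.PT Cfsg.Agent.Omega.NoFF.Basic Cfsg.Agent.ZN
open Cfsg.Agent.Omega.NO3S.MidQ (Adj Com Cr UU ws_of kx_of isCj_iff adj_iff com_iff cr_iff UU_of isCj_symm isCj_trans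
  com_cj UU_cj le_UU normalizer_le_UU isPGroup_sSup FlagCan PtCan ff mem_ff ff_cj TypN cw mem_cw cw_le cw_cj Jo jo_cj zu
  McL JJ Kl Dist surj_of_inj comm_inj)
open scoped Pointwise

universe u

variable {G : Type u} [Group G] {V Z X Y R L A A' B B' C : Subgroup G}
variable {M : Type*} [AddCommGroup M] {π : G → M}

namespace TF

variable [Finite G] {S : Sylow 2 G} {P : Subgroup G} (h : TF S P V Z)
include h

/-! ### `U_A` on `W_R` -/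

theorem u_R (hA : Adj V Z A R) {g : G} (hg : g ∈ UU V Z A) {r : G} (hr : r ∈ R) : g * r = r * g :=
  (mem_centralizer_iff.1 (h.UU_le_cent_adj hA.symm hg) r hr).symm

theorem u_A (hA : Adj V Z A R) {g : G} (hg : g ∈ UU V Z A) {a : G} (ha : a ∈ A) : g * a = a * g :=
  (mem_centralizer_iff.1 (h.UU_le_cent_pt hA.left hg) a ha).symm

theorem u_ws (hA : Adj V Z A R) {g : G} (hg : g ∈ UU V Z A) {w : G} (hw : w ∈ ws V R) : g * w * g⁻¹ ∈ ws V R :=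
  (mem_normalizer_iff.1 (h.UU_norm hA.symm hg) w).1 hw

theorem adj_ws (hA : Adj V Z A R) : A ≤ ws V R := h.adj_le_ws hA.symm

theorem c_ws (hA : Adj V Z A R) {g : G} (hg : g ∈ UU V Z A) {w : G} (hw : w ∈ ws V R) :
    g * w * g⁻¹ * w⁻¹ ∈ ws V R := h.adj_ws hA (h.comm_adj hA hg hw)

theorem c_mul (hA : Adj V Z A R) {g : G} (hg : g ∈ UU V Z A) {w w' : G} (hw : w ∈ ws V R) (hw' : w' ∈ ws V R) :
    g * (w * w') * g⁻¹ * (w * w')⁻¹ = g * w * g⁻¹ * w⁻¹ * (g * w' * g⁻¹ * w'⁻¹) := by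
  have h1 := h.ws_comm hA.right hw (h.c_ws hA hg hw')
  calc g * (w * w') * g⁻¹ * (w * w')⁻¹ = g * w * g⁻¹ * w⁻¹ * (w * (g * w' * g⁻¹ * w'⁻¹)) * w⁻¹ := by group
    _ = g * w * g⁻¹ * w⁻¹ * (g * w' * g⁻¹ * w'⁻¹) := by rw [h1]; group

theorem c_mul' (hA : Adj V Z A R) {g g' : G} (hg : g ∈ UU V Z A) (hg' : g' ∈ UU V Z A) {w : G} (hw : w ∈ ws V R) :
    g * g' * w * (g * g')⁻¹ * w⁻¹ = g * w * g⁻¹ * w⁻¹ * (g' * w * g'⁻¹ * w⁻¹) := by
  have h1 := h.u_A hA hg (h.comm_adj hA hg' hw)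
  have h2 := h.ws_comm hA.right (h.c_ws hA hg hw) (h.c_ws hA hg' hw)
  calc g * g' * w * (g * g')⁻¹ * w⁻¹ = g * (g' * w * g'⁻¹ * w⁻¹) * (w * g⁻¹ * w⁻¹) := by group
    _ = g' * w * g'⁻¹ * w⁻¹ * (g * w * g⁻¹ * w⁻¹) := by rw [h1]; group
    _ = _ := h2.symm

theorem c_inv (hA : Adj V Z A R) {g : G} (hg : g ∈ UU V Z A) {w : G} (hw : w ∈ ws V R) :
    g⁻¹ * w * g⁻¹⁻¹ * w⁻¹ = (g * w * g⁻¹ * w⁻¹)⁻¹ := by
  have h1 := h.u_A hA (inv_mem hg) (inv_mem (h.comm_adj hA hg hw))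
  calc g⁻¹ * w * g⁻¹⁻¹ * w⁻¹ = g⁻¹ * (g * w * g⁻¹ * w⁻¹)⁻¹ * g := by group
    _ = _ := by rw [h1]; group

theorem inf_R (hA : Adj V Z A R) {a : G} (ha : a ∈ A) (hR : a ∈ R) : a = 1 := h.pt_inf hA.left hA.right hA.ne ha hR

theorem not_comm_iff (hA : Adj V Z A R) {g w : G} (hg : g ∈ UU V Z A) (hw : w ∈ ws V R) :
    g * w * g⁻¹ * w⁻¹ ∈ R ↔ g * w = w * g := by
  constructor
  · intro e
    exact Mid.comm_eq (h.inf_R hA (h.comm_adj hA hg hw) e)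
  · intro e
    rw [Mid.comm_one e]
    exact one_mem _

/-! ### Translation -/

variable (hM : Md V R π)
include hM

theorem exists_phi (hA : Adj V Z A R) {g : G} (hg : g ∈ UU V Z A) :
    ∃ φ ∈ PhiR V Z R π A, ∀ w ∈ ws V R, φ (π w) = π (g * w * g⁻¹ * w⁻¹) := by
  obtain ⟨φ, hφ⟩ := hM.exists_lift (fun w => g * w * g⁻¹ * w⁻¹) (fun w hw => h.c_ws hA hg hw)
    (fun a ha b hb => h.c_mul hA hg ha hb) (fun r _ hr => by
      show g * r * g⁻¹ * r⁻¹ ∈ R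
      rw [h.u_R hA hg hr, mul_inv_cancel_right, mul_inv_cancel]
      exact one_mem _)
  exact ⟨φ, AddSubgroup.subset_closure ⟨g, hg, hφ⟩, hφ⟩

theorem mem_phi (hA : Adj V Z A R) {φ : AddMonoid.End M} :
    φ ∈ PhiR V Z R π A ↔ ∃ g ∈ UU V Z A, ∀ w ∈ ws V R, φ (π w) = π (g * w * g⁻¹ * w⁻¹) := by
  constructor
  · intro hφ
    let K : AddSubgroup (AddMonoid.End M) :=
      { carrier := {φ | ∃ g ∈ UU V Z A, ∀ w ∈ ws V R, φ (π w) = π (g * w * g⁻¹ * w⁻¹)}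
        zero_mem' := ⟨1, one_mem _, fun w _ => by
          have e : (1 : G) * w * 1⁻¹ * w⁻¹ = 1 := by group
          rw [e, hM.map_one]
          rfl⟩
        add_mem' := by
          rintro φ ψ ⟨g, hg, e⟩ ⟨g', hg', e'⟩
          refine ⟨g * g', mul_mem hg hg', fun w hw => ?_⟩
          rw [h.c_mul' hA hg hg' hw, hM.mul _ (h.c_ws hA hg hw) _ (h.c_ws hA hg' hw), ← e w hw, ← e' w hw]
          rfl
        neg_mem' := by
          rintro φ ⟨g, hg, e⟩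
          refine ⟨g⁻¹, inv_mem hg, fun w hw => ?_⟩
          rw [h.c_inv hA hg hw, hM.map_inv (h.c_ws hA hg hw), ← e w hw]
          rfl }
    have h1 : PhiR V Z R π A ≤ K := by
      rw [PhiR, AddSubgroup.closure_le]
      intro φ hφ
      exact hφ
    exact h1 hφ
  · intro hφ
    exact AddSubgroup.subset_closure hφ

theorem mem_lam (hA : Adj V Z A R) {m : M} : m ∈ lamR π A ↔ ∃ a ∈ A, π a = m := mem_lamR hM (h.adj_ws hA)

theorem pi_mem (hA : Adj V Z A R) {a : G} (ha : a ∈ A) : π a ∈ lamR π A := (h.mem_lam hM hA).2 ⟨a, ha, rfl⟩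

theorem pi_ne (hA : Adj V Z A R) {a : G} (ha : a ∈ A) (ha1 : a ≠ 1) : π a ≠ 0 := fun e =>
  ha1 (h.inf_R hA ha ((hM.ker a (h.adj_ws hA ha)).1 e))

theorem pi_inj (hA : Adj V Z A R) {a a' : G} (ha : a ∈ A) (ha' : a' ∈ A) (e : π a = π a') : a = a' := by
  have h1 := hM.mem_of (h.adj_ws hA ha) (h.adj_ws hA ha') e
  exact mul_inv_eq_one.1 (h.inf_R hA (mul_mem ha (inv_mem ha')) h1)

/-- `φ (π w) = 0` iff `g` commutes with `w` -/
theorem phi_zero_iff (hA : Adj V Z A R) {g : G} (hg : g ∈ UU V Z A) {φ : AddMonoid.End M}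
    (hφ : ∀ w ∈ ws V R, φ (π w) = π (g * w * g⁻¹ * w⁻¹)) {w : G} (hw : w ∈ ws V R) :
    φ (π w) = 0 ↔ g * w = w * g := by
  rw [hφ w hw, hM.ker _ (h.c_ws hA hg hw), h.not_comm_iff hA hg hw]

theorem kl_iff (hA : Adj V Z A R) (hB : Adj V Z B R) {g : G} (hg : g ∈ UU V Z A) {φ : AddMonoid.End M}
    (hφ : ∀ w ∈ ws V R, φ (π w) = π (g * w * g⁻¹ * w⁻¹)) :
    (∀ b ∈ lamR π B, φ b = 0) ↔ ∀ b ∈ B, g * b = b * g := by
  constructor
  · intro e b hb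
    exact (h.phi_zero_iff hM hA hg hφ (h.adj_ws hB hb)).1 (e _ (h.pi_mem hM hB hb))
  · intro e m hm
    obtain ⟨b, hb, rfl⟩ := (h.mem_lam hM hB).1 hm
    exact (h.phi_zero_iff hM hA hg hφ (h.adj_ws hB hb)).2 (e b hb)

theorem card_lam (hA : Adj V Z A R) : Nat.card (lamR π A) = Nat.card Z := by
  rw [← h.card_pt hA.left]
  let f : A → lamR π A := fun a => ⟨π a, h.pi_mem hM hA a.2⟩
  refine (Nat.card_congr (Equiv.ofBijective f ⟨fun a b e => ?_, ?_⟩)).symm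
  · exact Subtype.ext (h.pi_inj hM hA a.2 b.2 (congrArg Subtype.val e))
  · rintro ⟨m, hm⟩
    obtain ⟨a, ha, rfl⟩ := (h.mem_lam hM hA).1 hm
    exact ⟨⟨a, ha⟩, rfl⟩

/-! ### Conjugation -/

theorem card_phi_le (hA : Adj V Z A R) (hB : Adj V Z B R) :
    Nat.card (PhiR V Z R π A) ≤ Nat.card (PhiR V Z R π B) := by
  have hfin := hM.fin
  have : Finite (AddMonoid.End M) := DFunLike.finite _
  obtain ⟨n, hnR, hnA⟩ := h.exists_adj hA hB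
  have hnR' : PT.cj n⁻¹ R = R := by
    nth_rewrite 1 [← hnR]
    rw [cj_cj, inv_mul_cancel, cj_one]
  have hW : ∀ n : G, PT.cj n R = R → ∀ w ∈ ws V R, n * w * n⁻¹ ∈ ws V R := by
    intro n hn w hw
    have h1 : n * w * n⁻¹ ∈ PT.cj n (ws V R) := conj_mem_cj hw
    rwa [← ws_cj, hn] at h1
  have hRR : ∀ n : G, PT.cj n R = R → ∀ w ∈ R, n * w * n⁻¹ ∈ R := by
    intro n hn w hw
    have h1 : n * w * n⁻¹ ∈ PT.cj n R := conj_mem_cj hw
    rwa [hn] at h1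
  have hl : ∀ n : G, PT.cj n R = R → ∃ ν : AddMonoid.End M, ∀ w ∈ ws V R, ν (π w) = π (n * w * n⁻¹) := fun n hn =>
    hM.exists_lift (fun w => n * w * n⁻¹) (hW n hn) (fun a _ b _ => by group) (fun a _ ha => hRR n hn a ha)
  obtain ⟨ν, hν⟩ := hl n hnR
  obtain ⟨ν', hν'⟩ := hl n⁻¹ hnR'
  have e1 : ν' * ν = 1 := by
    refine hM.end_ext fun w hw => ?_
    show ν' (ν (π w)) = π w
    rw [hν w hw, hν' _ (hW n hnR w hw)]
    congr 1
    group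
  have key : ∀ φ ∈ PhiR V Z R π A, ν * φ * ν' ∈ PhiR V Z R π B := by
    intro φ hφ
    obtain ⟨g, hg, e⟩ := (h.mem_phi hM hA).1 hφ
    refine (h.mem_phi hM hB).2 ⟨n * g * n⁻¹, ?_, fun w hw => ?_⟩
    · rw [← hnA, UU_cj]
      exact conj_mem_cj hg
    · show ν (φ (ν' (π w))) = _
      have hw' := hW _ hnR' w hw
      rw [hν' w hw, e _ hw', hν _ (h.c_ws hA hg hw')]
      congr 1
      group
  let f : PhiR V Z R π A → PhiR V Z R π B := fun φ => ⟨ν * φ.1 * ν', key φ.1 φ.2⟩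
  have e2 : ν * ν' = 1 := by
    refine hM.end_ext fun w hw => ?_
    show ν (ν' (π w)) = π w
    rw [hν' w hw, hν _ (hW _ hnR' w hw)]
    congr 1
    group
  refine Nat.card_le_card_of_injective f fun φ ψ e => ?_
  have h1 : ν * φ.1 * ν' = ν * ψ.1 * ν' := congrArg Subtype.val e
  have h2 : ν' * (ν * φ.1 * ν') * ν = ν' * (ν * ψ.1 * ν') * ν := by rw [h1]
  have e3 : ∀ φ : AddMonoid.End M, ν' * (ν * φ * ν') * ν = φ := by
    intro φ
    calc ν' * (ν * φ * ν') * ν = ν' * ν * φ * (ν' * ν) := by simp only [mul_assoc]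
      _ = φ := by rw [e1, one_mul, mul_one]
  rw [e3, e3] at h2
  exact Subtype.ext h2

/-- points on one line through `R` -/
theorem same_line (hA : Adj V Z A R) (hB : Adj V Z B R) (hL : IsCj V L) (hRL : R ≤ L) (hAL : A ≤ L) (hBL : B ≤ L) :
    lamR π A ≤ lamR π B ∧ PhiR V Z R π A ≤ PhiR V Z R π B := by
  obtain ⟨k, hk, rfl⟩ := h.K_trans hA.right hL hRL hA.left hAL hB.left hBL hA.ne hB.ne
  have hkW : ∀ w ∈ ws V R, k * w * k⁻¹ * w⁻¹ ∈ R := (mem_kx.1 hk).2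
  have hk' := inv_mem hk
  have hkW' : ∀ w ∈ ws V R, k⁻¹ * w * k⁻¹⁻¹ * w⁻¹ ∈ R := (mem_kx.1 hk').2
  have hRW := h.pt_le_ws hA.right
  have hkw : ∀ w ∈ ws V R, k * w * k⁻¹ ∈ ws V R := fun w hw => by
    have e : k * w * k⁻¹ = k * w * k⁻¹ * w⁻¹ * w := by group
    rw [e]
    exact mul_mem (hRW (hkW w hw)) hw
  have hkw' : ∀ w ∈ ws V R, k⁻¹ * w * k⁻¹⁻¹ ∈ ws V R := fun w hw => by
    have e : k⁻¹ * w * k⁻¹⁻¹ = k⁻¹ * w * k⁻¹⁻¹ * w⁻¹ * w := by group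
    rw [e]
    exact mul_mem (hRW (hkW' w hw)) hw
  constructor
  · intro m hm
    obtain ⟨a, ha, rfl⟩ := (h.mem_lam hM hA).1 hm
    refine (h.mem_lam hM hB).2 ⟨k * a * k⁻¹, conj_mem_cj ha, ?_⟩
    exact hM.eq_of (hkw a (h.adj_ws hA ha)) (h.adj_ws hA ha) (hkW a (h.adj_ws hA ha))
  · intro φ hφ
    obtain ⟨g, hg, e⟩ := (h.mem_phi hM hA).1 hφ
    refine (h.mem_phi hM hB).2 ⟨k * g * k⁻¹, ?_, fun w hw => ?_⟩
    · rw [UU_cj]
      exact conj_mem_cj hg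
    · have h1 := hkw' w hw
      have h2 : π w = π (k⁻¹ * w * k⁻¹⁻¹) := (hM.eq_of h1 hw (hkW' w hw)).symm
      rw [h2, e _ h1]
      have h3 := h.c_ws hA hg h1
      have h4 : k * (g * (k⁻¹ * w * k⁻¹⁻¹) * g⁻¹ * (k⁻¹ * w * k⁻¹⁻¹)⁻¹) * k⁻¹ =
          k * g * k⁻¹ * w * (k * g * k⁻¹)⁻¹ * w⁻¹ := by group
      rw [← h4]
      exact (hM.eq_of (hkw _ h3) h3 (hkW _ h3)).symm

/-- **the instance of `McL`** -/
theorem mcl (hR : IsCj Z R) : McL (fun i : {A // Adj V Z A R} => lamR π i.1) (fun i => PhiR V Z R π i.1) where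
  fin := hM.fin
  two m := by
    obtain ⟨w, hw, rfl⟩ := hM.surj m
    rw [← hM.mul w hw w hw, h.ws_sq hR hw, hM.map_one]
  val i φ hφ m := by
    obtain ⟨g, hg, e⟩ := (h.mem_phi hM i.2).1 hφ
    obtain ⟨w, hw, rfl⟩ := hM.surj m
    rw [e w hw]
    exact h.pi_mem hM i.2 (h.comm_adj i.2 hg hw)
  ker i φ hφ a ha := by
    obtain ⟨g, hg, e⟩ := (h.mem_phi hM i.2).1 hφ
    exact (h.kl_iff hM i.2 i.2 hg e).2 (fun a ha => h.u_A i.2 hg ha) a ha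
  ti i j φ hφ b hb hb0 hφb := by
    obtain ⟨g, hg, e⟩ := (h.mem_phi hM i.2).1 hφ
    refine (h.kl_iff hM i.2 j.2 hg e).2 ?_
    obtain ⟨β, hβ, rfl⟩ := (h.mem_lam hM j.2).1 hb
    have hβ1 : β ≠ 1 := fun e => hb0 (by rw [e, hM.map_one])
    have h1 := (h.phi_zero_iff hM i.2 hg e (h.adj_ws j.2 hβ)).1 hφb
    exact h.t3 j.2.symm (h.twoEl_UU hg) (fun r hr => h.u_R i.2 hg hr) hβ hβ1 h1
  card i j := by rw [h.card_lam hM i.2, h.card_lam hM j.2]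
  surj i j b hb := by
    rintro ⟨φ, hφ, hφb⟩ a ha
    obtain ⟨g, hg, e⟩ := (h.mem_phi hM i.2).1 hφ
    obtain ⟨β, hβ, rfl⟩ := (h.mem_lam hM j.2).1 hb
    obtain ⟨α, hα, rfl⟩ := (h.mem_lam hM i.2).1 ha
    have h1 : g * β ≠ β * g := fun e1 => hφb ((h.phi_zero_iff hM i.2 hg e (h.adj_ws j.2 hβ)).2 e1)
    have hβ1 : β ≠ 1 := fun e1 => h1 (by rw [e1, mul_one, one_mul])
    have hj : Jo V Z R i.1 j.1 := ⟨i.2, j.2, fun e1 => h1 (mem_centralizer_iff.1 (e1 hβ) g hg)⟩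
    obtain ⟨g', hg', e'⟩ := h.jval R i.1 j.1 hj β hβ hβ1 α hα
    obtain ⟨ψ, hψ, e2⟩ := h.exists_phi hM i.2 hg'
    exact ⟨ψ, hψ, by rw [e2 β (h.adj_ws j.2 hβ), e']⟩
  cardΦ i j := le_antisymm (h.card_phi_le hM i.2 j.2) (h.card_phi_le hM j.2 i.2)
  mv i j φ hφ := by
    obtain ⟨g, hg, e⟩ := (h.mem_phi hM i.2).1 hφ
    have hk : Adj V Z (PT.cj g j.1) R := h.adj_cj_UU i.2 j.2 hg
    have hg' := inv_mem hg
    -- the action of `1 + φ`
    have e1 : ∀ w ∈ ws V R, (1 + φ) (π w) = π (g * w * g⁻¹) := by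
      intro w hw
      show π w + φ (π w) = _
      rw [e w hw, ← hM.mul w hw _ (h.c_ws i.2 hg hw), h.ws_comm hR hw (h.c_ws i.2 hg hw)]
      congr 1
      group
    have e2 : ∀ w ∈ ws V R, (1 + φ) (π w) = π (g⁻¹ * w * g) := by
      intro w hw
      show π w + φ (π w) = _
      have h1 := h.c_ws i.2 hg hw
      have h2 : φ (π w) = π (g⁻¹ * w * g⁻¹⁻¹ * w⁻¹) := by
        rw [h.c_inv i.2 hg hw, e w hw, h.ws_inv hR h1]
      rw [h2, ← hM.mul w hw _ (h.c_ws i.2 hg' hw), h.ws_comm hR hw (h.c_ws i.2 hg' hw)]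
      congr 1
      group
    refine ⟨⟨PT.cj g j.1, hk⟩, fun m hm => ?_, fun ψ hψ => ?_⟩
    · obtain ⟨b, hb, rfl⟩ := (h.mem_lam hM j.2).1 hm
      have h1 := e1 b (h.adj_ws j.2 hb)
      have h2 : π b + φ (π b) = π (g * b * g⁻¹) := h1
      rw [h2]
      exact h.pi_mem hM hk (conj_mem_cj hb)
    · obtain ⟨k, hk', e3⟩ := (h.mem_phi hM j.2).1 hψ
      refine (h.mem_phi hM hk).2 ⟨g * k * g⁻¹, ?_, fun w hw => ?_⟩
      · rw [UU_cj]
        exact conj_mem_cj hk'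
      · show (1 + φ) (ψ ((1 + φ) (π w))) = _
        have hw1 : g⁻¹ * w * g ∈ ws V R := by
          have := h.u_ws i.2 hg' hw
          rwa [inv_inv] at this
        rw [e2 w hw, e3 _ hw1, e1 _ (h.c_ws j.2 hk' hw1)]
        congr 1
        group
  lne i := by
    obtain ⟨a, ha, ha1⟩ := h.pt_ne_bot i.2.left
    exact ⟨π a, h.pi_mem hM i.2 ha, h.pi_ne hM i.2 ha ha1⟩
  ne i := by
    obtain ⟨B, hc⟩ := h.exists_crit i.2.symm
    obtain ⟨g, hg, w, hw, hgw⟩ : ∃ g ∈ ws V B, ∃ w ∈ ws V R, g * w ≠ w * g := by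
      by_contra hcon
      push Not at hcon
      exact hc.ne fun w hw => mem_centralizer_iff.2 fun g hg => hcon g hg w hw
    have hgU : g ∈ UU V Z i.1 := le_UU hc.r.symm hg
    obtain ⟨φ, hφ, e⟩ := h.exists_phi hM i.2 hgU
    refine ⟨φ, hφ, fun e1 => hgw ?_⟩
    refine (h.phi_zero_iff hM i.2 hgU e hw).1 ?_
    rw [e1]
    rfl
  gen φ hφ := by
    refine hM.end_ext fun w hw => ?_
    show φ (π w) = 0
    let K : Subgroup G :=
      { carrier := {w | w ∈ ws V R ∧ φ (π w) = 0}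
        one_mem' := ⟨one_mem _, by rw [hM.map_one, map_zero]⟩
        mul_mem' := by
          rintro a b ⟨ha, ha'⟩ ⟨hb, hb'⟩
          exact ⟨mul_mem ha hb, by rw [hM.mul a ha b hb, map_add, ha', hb', add_zero]⟩
        inv_mem' := by
          rintro a ⟨ha, ha'⟩
          exact ⟨inv_mem ha, by rw [hM.map_inv ha, map_neg, ha', neg_zero]⟩ }
    have hK : ws V R ≤ K := by
      refine h.ws_le_of hR (fun r hr => ⟨h.pt_le_ws hR hr, ?_⟩) (fun B hB b hb => ⟨h.adj_ws hB hb, ?_⟩)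
      · rw [(hM.ker r (h.pt_le_ws hR hr)).2 hr, map_zero]
      · exact hφ ⟨B, hB⟩ _ (h.pi_mem hM hB hb)
    exact (hK hw).2
  same i j a ha ha' ha0 := by
    obtain ⟨α, hα, rfl⟩ := (h.mem_lam hM i.2).1 ha
    obtain ⟨β, hβ, e⟩ := (h.mem_lam hM j.2).1 ha'
    have h1 : α * β⁻¹ ∈ R := hM.mem_of (h.adj_ws i.2 hα) (h.adj_ws j.2 hβ) e.symm
    obtain ⟨L, hL, hjL, hRL⟩ := j.2.line
    have hα1 : α ≠ 1 := fun e => ha0 (by rw [e, hM.map_one])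
    have hαL : α ∈ L := by
      have e1 : α = α * β⁻¹ * β := by group
      rw [e1]
      exact mul_mem (hRL h1) (hjL hβ)
    obtain ⟨T, hT, hTL, hαT⟩ := h.exists_point hL hαL hα1
    have hiL : i.1 ≤ L := (h.pts_eq i.2.left hT hα hαT hα1) ▸ hTL
    have h2 := h.same_line hM i.2 j.2 hL hRL hiL hjL
    have h3 := h.same_line hM j.2 i.2 hL hRL hjL hiL
    exact ⟨le_antisymm h2.1 h3.1, le_antisymm h2.2 h3.2⟩

/-- `JJ` is `Jo` -/
theorem jj_iff (hA : Adj V Z A R) (hB : Adj V Z B R) :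
    JJ (fun i : {A // Adj V Z A R} => lamR π i.1) (fun i => PhiR V Z R π i.1) ⟨A, hA⟩ ⟨B, hB⟩ ↔ Jo V Z R A B := by
  constructor
  · rintro ⟨φ, hφ, b, hb, hne⟩
    obtain ⟨g, hg, e⟩ := (h.mem_phi hM hA).1 hφ
    refine ⟨hA, hB, fun e1 => hne ?_⟩
    exact (h.kl_iff hM hA hB hg e).2 (fun b hb => mem_centralizer_iff.1 (e1 hb) g hg) b hb
  · rintro hj
    obtain ⟨g, hg, b, hb, hgb⟩ : ∃ g ∈ UU V Z A, ∃ b ∈ B, g * b ≠ b * g := by
      by_contra hcon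
      push Not at hcon
      exact hj.mv fun b hb => mem_centralizer_iff.2 fun g hg => hcon g hg b hb
    obtain ⟨φ, hφ, e⟩ := h.exists_phi hM hA hg
    exact ⟨φ, hφ, π b, h.pi_mem hM hB hb, fun e1 => hgb ((h.phi_zero_iff hM hA hg e (h.adj_ws hB hb)).1 e1)⟩

end TF

end Cfsg.Agent.Omega.NO3S.MidB
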