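import Cfsg.Agent.Omega.NO3S.MidB.TF

/-!
# TYPE N is impossible, K-free: the interfaces (bb OMEGA #18317)

`h : TF S P V Z`.  The pieces, as hypotheses of the others:

* `JVal V Z` : (0) if `A → B` at `R` (`U_A` moves `B`), `1 ≠ β ∈ B`, then `[U_A, β] = A` elementwise;
* `JSym V Z` : (1) `Jo` is symmetric;
* `JDist V Z` : (2) for `A, C ~ R`, `α ∈ A`, `γ ∈ C`: `α γ` centralised by all `U_X`, `X ~ R`, is in `R`;
* `JTrans V Z` : (5) (in case (A2)) `Jo` is transitive (different lines);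
* `JDich V Z` : (5') (in case (A2)) the dichotomy.
-/

set_option autoImplicit false

namespace Cfsg.Agent.Omega.NO3S.MidB

open Subgroup Cfsg.Agent.Omega.NO3S.PT
open Cfsg.Agent.Omega.NO3S.MidQ (Adj Com Cr UU Jo)

variable {G : Type*} [Group G]

/-- (1) -/
def JSym (V Z : Subgroup G) : Prop := ∀ R A B, Jo V Z R A B → Jo V Z R B A

/-- (0) -/
def JVal (V Z : Subgroup G) : Prop :=
  ∀ R A B, Jo V Z R A B → ∀ β ∈ B, β ≠ 1 → ∀ α ∈ A, ∃ g ∈ UU V Z A, g * β * g⁻¹ * β⁻¹ = α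

/-- (2) -/
def JDist (V Z : Subgroup G) : Prop :=
  ∀ R A C, Adj V Z A R → Adj V Z C R → ∀ α ∈ A, ∀ γ ∈ C,
    (∀ X, Adj V Z X R → ∀ u ∈ UU V Z X, u * (α * γ) = α * γ * u) → α * γ ∈ R

/-- (5) -/
def JTrans (V Z : Subgroup G) : Prop :=
  ∀ R A B C, Jo V Z R A B → Jo V Z R B C → (∀ L, IsCj V L → R ≤ L → A ≤ L → ¬ C ≤ L) → Jo V Z R A C

/-- (5') -/
def JDich (V Z : Subgroup G) : Prop :=
  ∀ R Y I J, Jo V Z R Y J → Adj V Z I R →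
    (∀ g ∈ UU V Z Y, ∃ g' ∈ UU V Z Y, (∀ b ∈ J, g' * b * g'⁻¹ = g * b * g⁻¹) ∧ ∀ i ∈ I, g' * i = i * g') ∨
    ∀ α ∈ I, ∃ γ ∈ J, ∀ g ∈ UU V Z Y, g * (α * γ) = α * γ * g

end Cfsg.Agent.Omega.NO3S.MidB
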