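import Cfsg.Agent.Omega.NO3S.MidB.Base
import Cfsg.Agent.Omega.NO3S.MidQ.LemF

/-!
# NO-3S, natural lines, critical distance 2, the `(R, B)`-frame: LEMMA F

Copy of `MidQ/LemF.lean` over `MidB.Mid`; `pb_lin` is (LIN) for `PB`.
-/

set_option autoImplicit false
set_option linter.unusedSectionVars false

namespace Cfsg.Agent.Omega.NO3S.MidB

open Subgroup Cfsg.Agent.Omega.NO3S.PT Cfsg.Agent.Omega.NoFF.Basic Cfsg.Agent.ZN
open Cfsg.Agent.Omega.NO3S.MidQ (Adj Com Cr UU ws_of kx_of isCj_iff adj_iff com_iff cr_iff UU_of isCj_symm isCj_trans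
  com_cj UU_cj le_UU normalizer_le_UU isPGroup_sSup FlagCan PtCan ff mem_ff ff_cj)
open scoped Pointwise

variable {G : Type*} [Group G]

section Lin

variable [Finite G] {S : Sylow 2 G} {B P V Z : Subgroup G} (h : PB S B P V Z)
include h

/-- an element centralising `Z` and one element of `V - Z` centralises `V` -/
theorem pb_fix {k v : G} (hk : ∀ z ∈ Z, k * z = z * k) (hv : v ∈ V) (hvZ : v ∉ Z)
    (hkv : k * v = v * k) : k ∈ centralizer (V : Set G) := by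
  -- `k` normalises every point `X ≠ Z` of `V`
  have hpt : ∀ X, IsCj Z X → X ≤ V → X ≠ Z → k ∈ normalizer (X : Set G) := by
    intro X hX hXV hXZ
    obtain ⟨z, hz, x, hx, hzx⟩ := h.exists_mul h.isCj_self h.ZV hX hXV hXZ.symm hv
    have hx1 : x ≠ 1 := by
      rintro rfl
      exact hvZ (by rw [hzx, mul_one]; exact hz)
    obtain ⟨g, rfl⟩ := hX
    refine (h.conj g).ti x hx hx1 k ?_
    have e : x = z⁻¹ * v := by rw [hzx]; group
    rw [e, ← mul_assoc, hk _ (Z.inv_mem hz), mul_assoc, hkv, mul_assoc]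
  have key : ∀ u ∈ V, u ∉ Z → k * u = u * k := by
    intro u hu huZ
    have hu1 : u ≠ 1 := fun e => huZ (by rw [e]; exact one_mem _)
    obtain ⟨X, hX, hXV, huX⟩ := h.exists_point hu hu1
    have hXZ : X ≠ Z := fun e => huZ (e ▸ huX)
    obtain ⟨z, hz, hz1⟩ := h.pt_ne_bot h.isCj_self
    have hzu : z * u ∉ Z := fun e => huZ ((Z.mul_mem_cancel_left hz).1 e)
    have hzu1 : z * u ≠ 1 := fun e => hzu (by rw [e]; exact one_mem _)
    obtain ⟨Y, hY, hYV, huY⟩ := h.exists_point (V.mul_mem (h.ZV hz) hu) hzu1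
    have hYZ : Y ≠ Z := fun e => hzu (e ▸ huY)
    have hYX : Y ≠ X := by
      rintro rfl
      have hzY : z ∈ Y := (Y.mul_mem_cancel_right huX).1 huY
      exact hYZ (h.pts_eq hY h.isCj_self hzY hz hz1)
    have h1 : k * u * k⁻¹ * u⁻¹ ∈ X :=
      X.mul_mem ((mem_normalizer_iff.1 (hpt X hX hXV hXZ) u).1 huX) (X.inv_mem huX)
    have h2 : k * (z * u) * k⁻¹ * (z * u)⁻¹ ∈ Y :=
      Y.mul_mem ((mem_normalizer_iff.1 (hpt Y hY hYV hYZ) _).1 huY) (Y.inv_mem huY)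
    have h3 : k * (z * u) * k⁻¹ * (z * u)⁻¹ = k * u * k⁻¹ * u⁻¹ := by
      have hkuV : k * u * k⁻¹ * u⁻¹ ∈ V := hXV h1
      calc k * (z * u) * k⁻¹ * (z * u)⁻¹ = (k * z) * u * k⁻¹ * (u⁻¹ * z⁻¹) := by group
        _ = z * (k * u * k⁻¹ * u⁻¹) * z⁻¹ := by rw [hk z hz]; group
        _ = k * u * k⁻¹ * u⁻¹ := by rw [h.Vcomm (h.ZV hz) hkuV, mul_inv_cancel_right]
    rw [h3] at h2
    have h4 : k * u * k⁻¹ * u⁻¹ ∈ Y ⊓ X := ⟨h2, h1⟩
    rw [h.pts_inf hY hX hYX, mem_bot, mul_inv_eq_one, mul_inv_eq_iff_eq_mul] at h4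
    exact h4
  rw [mem_centralizer_iff]
  intro u hu
  by_cases huZ : u ∈ Z
  · exact (hk u huZ).symm
  · exact (key u hu huZ).symm

/-- **(LIN)** -/
theorem pb_lin' {g v : G} (hg : ∀ z ∈ Z, g * z = z * g) (hv : v ∈ V) (hvZ : v ∉ Z)
    (hgv : g * v * g⁻¹ * v⁻¹ ∈ Z) : ∃ s ∈ B, s * g ∈ centralizer (V : Set G) := by
  set z := g * v * g⁻¹ * v⁻¹ with hz
  obtain ⟨s, hs, hsv⟩ := h.full v hv hvZ z⁻¹ (Z.inv_mem hgv)
  refine ⟨s, hs, pb_fix h (v := v) ?_ hv hvZ ?_⟩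
  · intro w hw
    rw [mul_assoc, hg w hw, ← mul_assoc, h.cen w hw s hs, mul_assoc]
  · have e1 : g * v * g⁻¹ = z * v := by rw [hz]; group
    have e2 : s * v * s⁻¹ = z⁻¹ * v := by rw [← hsv]; group
    have e3 : s * g * v * (s * g)⁻¹ = v := by
      calc s * g * v * (s * g)⁻¹ = s * (g * v * g⁻¹) * s⁻¹ := by group
        _ = (s * z) * v * s⁻¹ := by rw [e1]; group
        _ = z * (s * v * s⁻¹) := by rw [h.cen z hgv s hs]; group
        _ = v := by rw [e2]; group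
    rwa [mul_inv_eq_iff_eq_mul] at e3

/-- **(LIN)** -/
theorem pb_lin {g v : G} (hg : ∀ z ∈ Z, g * z = z * g) (hv : v ∈ V) (hvZ : v ∉ Z)
    (hgv : g * v * g⁻¹ * v⁻¹ ∈ Z) : ∀ u ∈ V, g * u * g⁻¹ * u⁻¹ ∈ Z := by
  obtain ⟨s, hs, hc⟩ := pb_lin' h hg hv hvZ hgv
  intro u hu
  have h1 : s * g * u * (s * g)⁻¹ = u := by
    rw [mul_inv_eq_iff_eq_mul]; exact (mem_centralizer_iff.1 hc u hu).symm
  have h2 : g * u * g⁻¹ = s⁻¹ * u * s := by
    calc g * u * g⁻¹ = s⁻¹ * (s * g * u * (s * g)⁻¹) * s := by group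
      _ = s⁻¹ * u * s := by rw [h1]
  rw [h2]
  have h3 := h.act s⁻¹ (inv_mem hs) u hu
  rwa [inv_inv] at h3

end Lin

variable [Finite G] {S : Sylow 2 G} {P V Z X Y L : Subgroup G}

namespace Mid

variable (h : Mid S P V Z)
include h

/-- **LEMMA F** -/
theorem lemF {E : Subgroup G → Subgroup G → Subgroup G} (hE : FlagCan V Z E)
    (h1 : ∀ X L, IsCj Z X → IsCj V L → X ≤ L → X ≤ E X L ∧ ∀ Y, IsCj Z Y → Y ≤ L → E X L ≤ ws V Y)
    (h2 : ∀ X L, IsCj Z X → IsCj V L → X ≤ L → ∀ Y, IsCj Z Y → Y ≤ L → Y ≠ X → E X L ⊓ Y = ⊥)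
    (hX : IsCj Z X) (hL : IsCj V L) (hXL : X ≤ L) : E X L = X := by
  refine le_antisymm ?_ (h1 X L hX hL hXL).1
  intro u hu
  by_contra huX
  have huL : ∀ v ∈ E X L, v ∉ X → v ∉ L := by
    intro v hv hvX hvL
    have hv1 : v ≠ 1 := fun e => hvX (e ▸ one_mem _)
    obtain ⟨Y, hY, hYL, hvY⟩ := h.exists_point hL hvL hv1
    have hYX : Y ≠ X := fun e => hvX (e ▸ hvY)
    have h3 : v ∈ E X L ⊓ Y := ⟨hv, hvY⟩
    rw [h2 X L hX hL hXL Y hY hYL hYX, mem_bot] at h3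
    exact hv1 h3
  obtain ⟨Y, hY, hYL, hYX⟩ := h.exists_second hX hL hXL
  -- `u` is in `E Y L`
  have key : ∀ v ∈ E X L, v ∉ X → v ∈ E Y L := by
    intro v hv hvX
    have hvW := (h1 X L hX hL hXL).2
    obtain ⟨g, -, hgv, hgX, -, hgL, -⟩ := h.F2_swap hL hX hY hXL hYL hYX.symm hX hY hXL hYL
      (hvW X hX hXL hv) (hvW Y hY hYL hv) (huL v hv hvX)
    rw [← hgX, ← hgL, hE g X L hX hL hXL, mem_cj, mul_assoc, ← hgv, inv_mul_cancel_left]
    exact hv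
  obtain ⟨c, hc, hc1⟩ := h.pt_ne_bot hX
  have h3 : u * c ∈ E X L := (E X L).mul_mem hu ((h1 X L hX hL hXL).1 hc)
  have h4 : u * c ∉ X := fun e => huX ((X.mul_mem_cancel_right hc).1 e)
  have h5 : c ∈ E Y L := ((E Y L).mul_mem_cancel_left (key u hu huX)).1 (key _ h3 h4)
  have h6 : c ∈ E Y L ⊓ X := ⟨h5, hc⟩
  rw [h2 Y L hY hL hYL X hX hXL hYX.symm, mem_bot] at h6
  exact hc1 h6

/-- (LIN) for an arbitrary flag -/
theorem lin (hX : IsCj Z X) (hL : IsCj V L) (hXL : X ≤ L) {g v : G} (hg : g ∈ centralizer (X : Set G))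
    (hv : v ∈ L) (hvX : v ∉ X) (hgv : g * v * g⁻¹ * v⁻¹ ∈ X) : ∀ u ∈ L, g * u * g⁻¹ * u⁻¹ ∈ X := by
  obtain ⟨T, Q, h'⟩ := h.flag hX hL hXL
  exact pb_lin h'.pl (fun z hz => (mem_centralizer_iff.1 hg z hz).symm) hv hvX hgv

/-- **LEMMA F**, the form for centralisers: `u ∈ I_L` centralised by `N X L` modulo `X` is in `X`. -/
theorem lemF_flag {N : Subgroup G → Subgroup G → Subgroup G} (hN : FlagCan V Z N)
    (hc : ∀ X L, IsCj Z X → IsCj V L → X ≤ L → N X L ≤ centralizer (X : Set G))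
    (hn : ∀ X L, IsCj Z X → IsCj V L → X ≤ L → ∃ n ∈ N X L, ∃ v ∈ L, n * v * n⁻¹ * v⁻¹ ∉ X)
    (hX : IsCj Z X) (hL : IsCj V L) (hXL : X ≤ L) (hY : IsCj Z Y) (hYL : Y ≤ L) (hYX : Y ≠ X) {u : G}
    (hu : u ∈ ws V X) (hu' : u ∈ ws V Y) (huN : ∀ n ∈ N X L, n * u * n⁻¹ * u⁻¹ ∈ X) : u ∈ X := by
  have hE : FlagCan V Z fun X L => ff V Z X L (N X L) := by
    intro g X L hX hL hXL
    show ff V Z (cj g X) (cj g L) (N (cj g X) (cj g L)) = cj g (ff V Z X L (N X L))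
    rw [hN g X L hX hL hXL]
    exact ff_cj V Z X L (N X L) g
  have key := h.lemF hE (X := X) (L := L) ?_ ?_ hX hL hXL
  · rw [← key]
    refine ⟨?_, fun T hT hTL => ?_, huN⟩
    · rw [mem_centralizer_iff]
      exact fun x hx => (h.ws_comm hX hu (h.pt_le_ws hX hx)).symm
    · exact h.inf_le hL hX hY hT hXL hYL hTL hYX.symm ⟨hu, hu'⟩
  · intro X L hX hL hXL
    refine ⟨fun x hx => ⟨?_, fun Y hY hYL => ?_, fun n hn => ?_⟩, fun Y hY hYL u hu => hu.2.1 Y hY hYL⟩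
    · rw [mem_centralizer_iff]
      exact fun y hy => h.ws_comm hX (h.pt_le_ws hX hy) (h.pt_le_ws hX hx)
    · exact (hXL.trans (le_ws hL hYL)) hx
    · have h1 := mem_centralizer_iff.1 (hc X L hX hL hXL hn) x hx
      rw [← h1, mul_inv_cancel_right, mul_inv_cancel]
      exact one_mem _
  · intro X L hX hL hXL Y hY hYL hYX
    rw [eq_bot_iff]
    intro y hy
    by_contra hy1
    rw [mem_bot] at hy1
    obtain ⟨n, hnN, v, hvL, hnv⟩ := hn X L hX hL hXL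
    exact hnv (h.lin hX hL hXL (hc X L hX hL hXL hnN) (hYL hy.2)
      (fun e => hYX (h.pts_eq hY hX hy.2 e hy1)) (hy.1.2.2 n hnN) v hvL)

/-- a canonical subgroup `N X ≤ C_G(X)` centralising `L / X` for one line `L` is in `K_X` -/
theorem le_kx_of_line {N : Subgroup G → Subgroup G} (hN : PtCan Z N) (hX : IsCj Z X) (hL : IsCj V L) (hXL : X ≤ L)
    (hc : N X ≤ centralizer (X : Set G)) (hn : ∀ n ∈ N X, ∀ v ∈ L, n * v * n⁻¹ * v⁻¹ ∈ X) : N X ≤ kx V X := by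
  intro n hnN
  have hnX := mem_centralizer_iff.1 (hc hnN)
  refine mem_kx.2 ⟨fun x hx => (hnX x hx).symm, ?_⟩
  -- the subgroup of `ws V X` centralised modulo `X`
  have key : ∀ M, IsCj V M → X ≤ M → ∀ v ∈ M, n * v * n⁻¹ * v⁻¹ ∈ X := by
    intro M hM hXM v hv
    obtain ⟨g, hg1, rfl⟩ := h.exists_conj₂ hX hL hXL hX hM hXM
    have h1 : g⁻¹ * n * g ∈ N X := by
      rw [← mem_cj, ← hN g X hX, ← hg1]
      exact hnN
    have h2 := hn _ h1 _ (mem_cj.1 hv)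
    rw [hg1, mem_cj]
    have e : g⁻¹ * (n * v * n⁻¹ * v⁻¹) * g =
      g⁻¹ * n * g * (g⁻¹ * v * g) * (g⁻¹ * n * g)⁻¹ * (g⁻¹ * v * g)⁻¹ := by group
    rwa [e]
  let E : Subgroup G :=
    { carrier := {w | w ∈ centralizer (X : Set G) ∧ n * w * n⁻¹ * w⁻¹ ∈ X}
      one_mem' := ⟨one_mem _, by simp⟩
      mul_mem' := by
        rintro a b ⟨ha1, ha3⟩ ⟨hb1, hb3⟩
        refine ⟨mul_mem ha1 hb1, ?_⟩
        have e : n * (a * b) * n⁻¹ * (a * b)⁻¹ = n * a * n⁻¹ * a⁻¹ * (a * (n * b * n⁻¹ * b⁻¹) * a⁻¹) := by group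
        have e2 : a * (n * b * n⁻¹ * b⁻¹) * a⁻¹ = n * b * n⁻¹ * b⁻¹ := by
          rw [← mem_centralizer_iff.1 ha1 _ hb3, mul_inv_cancel_right]
        rw [e, e2]
        exact X.mul_mem ha3 hb3
      inv_mem' := by
        rintro a ⟨ha1, ha3⟩
        refine ⟨inv_mem ha1, ?_⟩
        have e : n * a⁻¹ * n⁻¹ * a⁻¹⁻¹ = a⁻¹ * (n * a * n⁻¹ * a⁻¹)⁻¹ * a := by group
        have h1 := X.inv_mem ha3
        rw [e, mul_assoc, mem_centralizer_iff.1 ha1 _ h1, inv_mul_cancel_left]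
        exact h1 }
  have hE : ws V X ≤ E := by
    refine ws_le fun M hM hXM v hv => ⟨?_, key M hM hXM v hv⟩
    rw [mem_centralizer_iff]
    exact fun x hx => h.ws_comm hX (h.pt_le_ws hX hx) (h.line_le hM hXM hv)
  exact fun w hw => (hE hw).2

/-- **COROLLARY of LEMMA F**: `u ∈ I_L` centralised by `N X` modulo `X` is in `X`, if `N X ≤ C_G(X)` is canonical and
not contained in `K_X`. -/
theorem lemF_pt {N : Subgroup G → Subgroup G} (hN : PtCan Z N)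
    (hc : ∀ X, IsCj Z X → N X ≤ centralizer (X : Set G)) (hn : ∀ X, IsCj Z X → ¬ N X ≤ kx V X)
    (hX : IsCj Z X) (hL : IsCj V L) (hXL : X ≤ L) (hY : IsCj Z Y) (hYL : Y ≤ L) (hYX : Y ≠ X) {u : G}
    (hu : u ∈ ws V X) (hu' : u ∈ ws V Y) (huN : ∀ n ∈ N X, n * u * n⁻¹ * u⁻¹ ∈ X) : u ∈ X := by
  refine h.lemF_flag (hN.flag V) (fun X L hX _ _ => hc X hX) (fun X L hX hL hXL => ?_) hX hL hXL hY hYL hYX hu hu' huN
  by_contra hcon
  push Not at hcon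
  exact hn X hX (h.le_kx_of_line hN hX hL hXL (hc X hX) hcon)

end Mid

end Cfsg.Agent.Omega.NO3S.MidB
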