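import Cfsg.Agent.Omega.NO3S.MidB.JDef
import Cfsg.Agent.Omega.NO3S.MidQ.McL
import Cfsg.Agent.Omega.NO3S.MidQ.NTwoBase

/-!
# TYPE N, K-free: `W_R / R` is an instance of `McL`

* `exists_md` : the module `M = W_R / R`;
* `lamR π A = π (A)`, `PhiR V Z R π A` : the endomorphisms `π w ↦ π [g, w]`, `g ∈ U_A`;
* `TF.jval` : (0) **`JVal V Z`**;
* `TF.mcl` : **the instance of `McL`**.
-/

set_option autoImplicit false
set_option linter.unusedSectionVars false

namespace Cfsg.Agent.Omega.NO3S.MidB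

open Subgroup Cfsg.Agent.Omega.NO3S.PT Cfsg.Agent.Omega.NoFF.Basic Cfsg.Agent.ZN
open Cfsg.Agent.Omega.NO3S.MidQ (Adj Com Cr UU ws_of kx_of isCj_iff adj_iff com_iff cr_iff UU_of isCj_symm isCj_trans
  com_cj UU_cj le_UU normalizer_le_UU isPGroup_sSup FlagCan PtCan ff mem_ff ff_cj TypN cw mem_cw cw_le cw_cj Jo jo_cj zu
  McL JJ Kl Dist surj_of_inj comm_inj)
open scoped Pointwise

universe u

variable {G : Type u} [Group G] {V Z X Y R L A A' B B' C : Subgroup G}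

/-! ### The module -/

theorem exists_md [Finite G] {S : Sylow 2 G} {P : Subgroup G} (h : Mid S P V Z) (hR : IsCj Z R) :
    ∃ (M : Type u) (_ : AddCommGroup M) (π : G → M), Md V R π := by
  classical
  let _ : CommGroup (ws V R) :=
    { (inferInstance : Group (ws V R)) with mul_comm := fun a b => Subtype.ext (h.ws_comm hR a.2 b.2) }
  let R' : Subgroup (ws V R) := R.subgroupOf (ws V R)
  let π : G → Additive (ws V R ⧸ R') := fun w => if hw : w ∈ ws V R then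
    Additive.ofMul (QuotientGroup.mk ⟨w, hw⟩) else 0
  have hπ : ∀ w (hw : w ∈ ws V R), π w = Additive.ofMul (QuotientGroup.mk ⟨w, hw⟩) := fun w hw => dif_pos hw
  refine ⟨Additive (ws V R ⧸ R'), inferInstance, π, ?_, ?_, ?_, ?_⟩
  · exact (inferInstance : Finite (ws V R ⧸ R'))
  · intro a ha b hb
    rw [hπ a ha, hπ b hb, hπ _ (mul_mem ha hb)]
    rfl
  · intro a ha
    rw [hπ a ha]
    constructor
    · intro e
      have e1 : (QuotientGroup.mk ⟨a, ha⟩ : ws V R ⧸ R') = 1 := e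
      rw [QuotientGroup.eq_one_iff] at e1
      exact mem_subgroupOf.1 e1
    · intro e
      have e1 : (QuotientGroup.mk ⟨a, ha⟩ : ws V R ⧸ R') = 1 := by
        rw [QuotientGroup.eq_one_iff]
        exact mem_subgroupOf.2 e
      exact e1
  · intro m
    obtain ⟨⟨w, hw⟩, e⟩ := QuotientGroup.mk_surjective (Additive.toMul m)
    exact ⟨w, hw, by rw [hπ w hw, e]; rfl⟩

section

variable {M : Type*} [AddCommGroup M] {π : G → M}

namespace Md

variable (hM : Md V R π)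
include hM

theorem map_one : π 1 = 0 := (hM.ker 1 (one_mem _)).2 (one_mem _)

theorem map_inv {a : G} (ha : a ∈ ws V R) : π a⁻¹ = - π a := by
  have h1 := hM.mul a ha a⁻¹ (inv_mem ha)
  rw [mul_inv_cancel, hM.map_one] at h1
  exact (neg_eq_of_add_eq_zero_right h1.symm).symm

theorem mem_of {a b : G} (ha : a ∈ ws V R) (hb : b ∈ ws V R) (e : π a = π b) : a * b⁻¹ ∈ R := by
  rw [← hM.ker _ (mul_mem ha (inv_mem hb)), hM.mul a ha _ (inv_mem hb), hM.map_inv hb, e, add_neg_cancel]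

theorem eq_of {a b : G} (ha : a ∈ ws V R) (hb : b ∈ ws V R) (e : a * b⁻¹ ∈ R) : π a = π b := by
  rw [← hM.ker _ (mul_mem ha (inv_mem hb)), hM.mul a ha _ (inv_mem hb), hM.map_inv hb, add_neg_eq_zero] at e
  exact e

theorem exists_lift (f : G → G) (hf : ∀ w ∈ ws V R, f w ∈ ws V R)
    (hmul : ∀ a ∈ ws V R, ∀ b ∈ ws V R, f (a * b) = f a * f b) (hfR : ∀ a ∈ ws V R, a ∈ R → f a ∈ R) :
    ∃ φ : AddMonoid.End M, ∀ w ∈ ws V R, φ (π w) = π (f w) := by
  choose s hs hsm using hM.surj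
  have key : ∀ w ∈ ws V R, π (f (s (π w))) = π (f w) := by
    intro w hw
    have h1 := hM.mem_of (hs (π w)) hw (hsm (π w))
    have hr : s (π w) * w⁻¹ ∈ ws V R := mul_mem (hs _) (inv_mem hw)
    have e : s (π w) = s (π w) * w⁻¹ * w := by group
    rw [e, hmul _ hr _ hw, hM.mul _ (hf _ hr) _ (hf _ hw), (hM.ker _ (hf _ hr)).2 (hfR _ hr h1), zero_add]
  refine ⟨{ toFun := fun m => π (f (s m)), map_zero' := ?_, map_add' := ?_ }, fun w hw => key w hw⟩
  · have h1 := key 1 (one_mem _)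
    rw [hM.map_one] at h1
    rw [h1, hM.ker _ (hf _ (one_mem _))]
    exact hfR 1 (one_mem _) (one_mem _)
  · intro m n
    have h1 := key (s m * s n) (mul_mem (hs m) (hs n))
    rw [hM.mul _ (hs m) _ (hs n), hsm, hsm, hmul _ (hs m) _ (hs n), hM.mul _ (hf _ (hs m)) _ (hf _ (hs n))] at h1
    exact h1

theorem end_ext {φ ψ : AddMonoid.End M} (e : ∀ w ∈ ws V R, φ (π w) = ψ (π w)) : φ = ψ := by
  ext m
  obtain ⟨w, hw, rfl⟩ := hM.surj m
  exact e w hw

end Md

/-- `π (A)` -/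
def lamR (π : G → M) (A : Subgroup G) : AddSubgroup M := AddSubgroup.closure (π '' (A : Set G))

/-- the endomorphisms induced by `g - 1`, `g ∈ U_A` -/
def PhiR (V Z R : Subgroup G) (π : G → M) (A : Subgroup G) : AddSubgroup (AddMonoid.End M) :=
  AddSubgroup.closure {φ | ∃ g ∈ UU V Z A, ∀ w ∈ ws V R, φ (π w) = π (g * w * g⁻¹ * w⁻¹)}

theorem mem_lamR (hM : Md V R π) (hA : A ≤ ws V R) {m : M} : m ∈ lamR π A ↔ ∃ a ∈ A, π a = m := by
  constructor
  · intro hm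
    let K : AddSubgroup M :=
      { carrier := {m | ∃ a ∈ A, π a = m}
        zero_mem' := ⟨1, one_mem _, hM.map_one⟩
        add_mem' := by
          rintro _ _ ⟨a, ha, rfl⟩ ⟨b, hb, rfl⟩
          exact ⟨a * b, mul_mem ha hb, hM.mul a (hA ha) b (hA hb)⟩
        neg_mem' := by
          rintro _ ⟨a, ha, rfl⟩
          exact ⟨a⁻¹, inv_mem ha, hM.map_inv (hA ha)⟩ }
    have h1 : lamR π A ≤ K := by
      rw [lamR, AddSubgroup.closure_le]
      rintro _ ⟨a, ha, rfl⟩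
      exact ⟨a, ha, rfl⟩
    exact h1 hm
  · rintro ⟨a, ha, rfl⟩
    exact AddSubgroup.subset_closure ⟨a, ha, rfl⟩

end

/-! ### (0) -/

namespace TF

variable [Finite G] {S : Sylow 2 G} {P : Subgroup G} (h : TF S P V Z)
include h

/-- **(0')** `[W_C, β] = A` elementwise, if `C ~ A ~ R`, `β ∈ B ~ R`, and `W_C` moves `B` -/
theorem exists_val' (hA : Adj V Z A R) (hB : Adj V Z B R) (hC : Adj V Z C A)
    (hmv : ¬ B ≤ centralizer ((ws V C : Subgroup G) : Set G)) {β α : G} (hβ : β ∈ B) (hβ1 : β ≠ 1) (hα : α ∈ A) :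
    ∃ g ∈ ws V C, g * β * g⁻¹ * β⁻¹ = α := by
  have hβR : β ∈ ws V R := h.adj_le_ws hB.symm hβ
  -- `β` centralises `C`
  have hβC : ∀ c ∈ C, β * c = c * β := fun c hc =>
    (mem_centralizer_iff.1 (h.ws_le_cent hA.symm hC.symm hβR) c hc).symm
  have hβ2 : TwoEl β := h.twoEl_ws hA.right hβR
  -- a point `F ~ C` is moved by `β`
  obtain ⟨F, hF, φ₀, hφ₀, hne⟩ : ∃ F, Adj V Z F C ∧ ∃ φ ∈ F, β * φ ≠ φ * β := by
    by_contra hcon
    push Not at hcon
    have h1 : ws V C ≤ centralizer ({β} : Set G) := h.ws_le_of hC.left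
      (fun c hc => mem_centralizer_singleton_iff.2 (hβC c hc).symm)
      (fun F hF φ hφ => mem_centralizer_singleton_iff.2 (hcon F hF φ hφ).symm)
    refine hmv fun b hb => mem_centralizer_iff.2 fun w hw => ?_
    refine h.t3 hB.symm (h.twoEl_ws hC.left hw) (fun y hy => ?_) hβ hβ1 (mem_centralizer_singleton_iff.1 (h1 hw)) b hb
    exact (mem_centralizer_iff.1 (h.ws_le_cent hC hA hw) y hy).symm
  have hFC : F ≤ ws V C := h.adj_le_ws hF.symm
  have hinj : ∀ φ ∈ F, φ * β = β * φ → φ = 1 := by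
    intro φ hφ e
    by_contra hφ1
    exact hne (h.t3 hF.symm hβ2 hβC hφ hφ1 e.symm φ₀ hφ₀)
  obtain ⟨g, hg, e⟩ := surj_of_inj (A := F) (B := A) (by rw [h.card_pt hF.left, h.card_pt hA.left])
    (fun φ => φ * β * φ⁻¹ * β⁻¹) (fun φ hφ => h.mid_mem h.comm hC hA (hFC hφ) hβR) (fun φ hφ φ' hφ' e =>
      inv_mul_eq_one.1 (hinj _ (mul_mem (inv_mem hφ) hφ') (comm_inj e))) α hα
  exact ⟨g, hFC hg, e⟩

/-- some `W_C`, `C ~ A`, moves `B` -/
theorem exists_of_jo (hj : Jo V Z R A B) : ∃ C, Adj V Z C A ∧ ¬ B ≤ centralizer ((ws V C : Subgroup G) : Set G) := by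
  by_contra hcon
  push Not at hcon
  refine hj.mv (comm_symm (sSup_le ?_))
  rintro _ ⟨C, hC, rfl⟩
  exact comm_symm (hcon C hC)

/-- **(0)** -/
theorem jval : JVal V Z := by
  intro R A B hj β hβ hβ1 α hα
  obtain ⟨C, hC, hmv⟩ := h.exists_of_jo hj
  obtain ⟨g, hg, e⟩ := h.exists_val' hj.l hj.r hC hmv hβ hβ1 hα
  exact ⟨g, le_UU hC hg, e⟩

end TF

end Cfsg.Agent.Omega.NO3S.MidB
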