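import Cfsg.Agent.Omega.NO3S.MidB.TypeN
import Cfsg.Agent.Omega.NO3S.MidQ.NTwo

/-!
# NO-3S, natural lines, the `(R, B)`-frame, TYPE N, blocks `SL_m`, `m ≥ 3`: basic facts (TEXT 426-2, THEOREM N2)

Copy of `MidQ/NTwoBase.lean` over `MidB.Mid`; the definitions `Sb`, `SLB`, `bk`, `AOne`, `ATwo`, `Path`, `NN` and the
counting lemmas are those of `MidQ`.

* `NT S P V Z Blk m` : `Mid`, (N) and (SL);
* `NT.bk_mem`, `NT.bk_unique`, `NT.bk_cj`, `NT.exists_pt`, `NT.dec` : blocks;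
* `NT.sb_sy`, `NT.sb_cj`, `NT.sb_mv`, `NT.sb_move`.
-/

set_option autoImplicit false
set_option linter.unusedSectionVars false

namespace Cfsg.Agent.Omega.NO3S.MidB

open Subgroup Cfsg.Agent.Omega.NO3S.PT Cfsg.Agent.Omega.NoFF.Basic Cfsg.Agent.ZN
open Cfsg.Agent.Omega.NO3S.MidQ (Adj Com Cr UU ws_of kx_of isCj_iff adj_iff com_iff cr_iff UU_of isCj_symm isCj_trans
  com_cj UU_cj le_UU normalizer_le_UU isPGroup_sSup FlagCan PtCan ff mem_ff ff_cj TypN Sb SLB bk AOne ATwo Path NN cnz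
  mem_cnz cnz_cj mem_cs cg mem_cg comm_act card_le_mul surj_of_inj card_mul_le mul_of_card card_dec comm_inj cj_of_cent
  card_mul_le')
open scoped Pointwise

variable {G : Type*} [Group G]

/-! ### Pairs in a block -/

variable {V Z X Y R A B A' B' L : Subgroup G} {Blk : Subgroup G → Set (Subgroup G)} {m : ℕ}

/-- `Mid`, (N) and (SL) -/
structure NT [Finite G] (S : Sylow 2 G) (P V Z : Subgroup G) (Blk : Subgroup G → Set (Subgroup G)) (m : ℕ) : Prop
    extends Mid S P V Z where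
  typ : TypN V Z
  slb : SLB V Z Blk m

namespace NT

variable [Finite G] {S : Sylow 2 G} {P : Subgroup G} (h : NT S P V Z Blk m)
include h

theorem card_pt (hX : IsCj Z X) : Nat.card X = Nat.card Z := h.pl.card_pt hX

theorem card_ln (hL : IsCj V L) : Nat.card L = Nat.card Z * Nat.card Z := by
  rw [h.card_line hL, h.pl.card]

theorem two_le : 2 ≤ Nat.card Z := h.pl.one_lt_card

/-- a point which is contained in a line and in a point -/
theorem not_le_of_ne (hX : IsCj Z X) (hY : IsCj Z Y) (hne : X ≠ Y) : ¬ X ≤ Y := by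
  intro e
  obtain ⟨x, hx, hx1⟩ := h.pt_ne_bot hX
  exact hne (h.pts_eq hX hY hx (e hx) hx1)

/-- a point meets a line which does not contain it trivially -/
theorem line_inf (hX : IsCj Z X) (hL : IsCj V L) (hXL : ¬ X ≤ L) {x : G} (hx : x ∈ X) (hx' : x ∈ L) : x = 1 := by
  by_contra hx1
  obtain ⟨T, hT, hTL, hxT⟩ := h.exists_point hL hx' hx1
  exact hXL ((h.pts_eq hX hT hx hxT hx1).symm ▸ hTL)

theorem bk_unique (hA : Adj V Z A R) {D : Subgroup G} (hD : D ∈ Blk R) (hAD : A ≤ D) : bk Blk R A = D := by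
  refine le_antisymm (sSup_le ?_) (le_sSup ⟨hD, hAD⟩)
  rintro D' ⟨hD', hAD'⟩
  by_cases e : D' = D
  · rw [e]
  · exact absurd (fun x hx => h.slb.inf R hA.right D hD D' hD' e x (hAD hx) (hAD' hx))
      (h.not_le_of_ne hA.left hA.right hA.ne)

theorem bk_mem' (hA : Adj V Z A R) : ∃ D ∈ Blk R, A ≤ D ∧ bk Blk R A = D := by
  obtain ⟨L, hL, hAL, hRL⟩ := hA.line
  obtain ⟨D, hD, hLD⟩ := h.slb.line R hA.right L hL hRL
  exact ⟨D, hD, hAL.trans hLD, h.bk_unique hA hD (hAL.trans hLD)⟩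

theorem bk_mem (hA : Adj V Z A R) : bk Blk R A ∈ Blk R := by
  obtain ⟨D, hD, -, h1⟩ := h.bk_mem' hA
  rwa [h1]

theorem le_bk (hA : Adj V Z A R) : A ≤ bk Blk R A := by
  obtain ⟨D, hD, h1, h2⟩ := h.bk_mem' hA
  rwa [h2]

theorem mid_le_bk (hA : Adj V Z A R) : R ≤ bk Blk R A := (h.slb.le R hA.right _ (h.bk_mem hA)).1

theorem bk_le (hA : Adj V Z A R) : bk Blk R A ≤ ws V R := (h.slb.le R hA.right _ (h.bk_mem hA)).2

theorem card_bk (hA : Adj V Z A R) : Nat.card (bk Blk R A) = Nat.card Z ^ (m + 1) :=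
  h.slb.card R hA.right _ (h.bk_mem hA)

theorem bk_cj (hA : Adj V Z A R) (g : G) : bk Blk (cj g R) (cj g A) = cj g (bk Blk R A) :=
  h.bk_unique (hA.cj g) (h.slb.can g R hA.right _ (h.bk_mem hA)) (cj_le_cj.2 (h.le_bk hA))

theorem bk_eq (hA : Adj V Z A R) (hB : Adj V Z B R) (hAB : B ≤ bk Blk R A) : bk Blk R B = bk Blk R A :=
  h.bk_unique hB (h.bk_mem hA) hAB

theorem line_le_bk (hA : Adj V Z A R) (hL : IsCj V L) (hRL : R ≤ L) (hAL : A ≤ L) : L ≤ bk Blk R A := by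
  obtain ⟨D, hD, hLD⟩ := h.slb.line R hA.right L hL hRL
  rwa [h.bk_unique hA hD (hAL.trans hLD)]

/-- the block at `R` depends only on the line -/
theorem bk_line (hA : Adj V Z A R) (hB : Adj V Z B R) (hL : IsCj V L) (hRL : R ≤ L) (hAL : A ≤ L) (hBL : B ≤ L) :
    bk Blk R B = bk Blk R A := h.bk_eq hA hB (hBL.trans (h.line_le_bk hA hL hRL hAL))

/-- **(S3)** -/
theorem exists_pt (hA : Adj V Z A R) {x : G} (hx : x ∈ bk Blk R A) (hxR : x ∉ R) :
    ∃ B, Adj V Z B R ∧ B ≤ bk Blk R A ∧ x ∈ B := by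
  obtain ⟨L, hL, hRL, hxL⟩ := h.slb.all R hA.right _ (h.bk_mem hA) x hx hxR
  obtain ⟨B, hB, hBL, hxB⟩ := h.exists_point hL hxL (fun e => hxR (e ▸ one_mem _))
  have hBR : Adj V Z B R := ⟨hB, hA.right, fun e => hxR (e ▸ hxB), L, hL, hBL, hRL⟩
  refine ⟨B, hBR, ?_, hxB⟩
  by_cases e : bk Blk R A = bk Blk R B
  · rw [e]; exact h.le_bk hBR
  · exact absurd (h.slb.inf R hA.right _ (h.bk_mem hBR) _ (h.bk_mem hA) e x (h.le_bk hBR hxB) hx) hxR

/-- `C_B(U_A)` is the line `RA` -/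
theorem cent (hA : Adj V Z A R) (hL : IsCj V L) (hRL : R ≤ L) (hAL : A ≤ L) {b : G} (hb : b ∈ bk Blk R A)
    (hu : ∀ u ∈ UU V Z A, u * b = b * u) : b ∈ L :=
  h.slb.cent R A hA _ (h.bk_mem hA) (h.le_bk hA) L hL hRL hAL b hb hu

/-- **the decomposition** `W_R = B D`, `D` centralised by all `U_C`, `C ≤ B` -/
theorem dec (hA : Adj V Z A R) {w : G} (hw : w ∈ ws V R) : ∃ b ∈ bk Blk R A, ∃ d ∈ ws V R, w = b * d ∧
    ∀ C, Adj V Z C R → C ≤ bk Blk R A → ∀ u ∈ UU V Z C, u * d = d * u := by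
  have hR := hA.right
  let E : Subgroup G :=
    { carrier := {w | ∃ b ∈ bk Blk R A, ∃ d ∈ ws V R, w = b * d ∧
        ∀ C, Adj V Z C R → C ≤ bk Blk R A → ∀ u ∈ UU V Z C, u * d = d * u}
      one_mem' := ⟨1, one_mem _, 1, one_mem _, (mul_one 1).symm, fun C _ _ u _ => by simp⟩
      mul_mem' := by
        rintro _ _ ⟨b, hb, d, hd, rfl, h1⟩ ⟨b', hb', d', hd', rfl, h2⟩
        refine ⟨b * b', mul_mem hb hb', d * d', mul_mem hd hd', ?_, fun C hC hCB u hu => ?_⟩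
        · have e := h.ws_comm hR hd (h.bk_le hA hb')
          calc b * d * (b' * d') = b * (d * b') * d' := by group
            _ = b * (b' * d) * d' := by rw [e]
            _ = b * b' * (d * d') := by group
        · calc u * (d * d') = (u * d) * d' := by group
            _ = d * (u * d') := by rw [h1 C hC hCB u hu]; group
            _ = d * d' * u := by rw [h2 C hC hCB u hu]; group
      inv_mem' := by
        rintro _ ⟨b, hb, d, hd, rfl, h1⟩
        refine ⟨b⁻¹, inv_mem hb, d⁻¹, inv_mem hd, ?_, fun C hC hCB u hu => ?_⟩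
        · rw [h.ws_comm hR (h.bk_le hA hb) hd, mul_inv_rev]
        · exact (Commute.inv_right (h1 C hC hCB u hu : Commute u d)) }
  have hE : ws V R ≤ E := by
    refine ws_le fun L hL hRL x hx => ?_
    obtain ⟨D, hD, hLD⟩ := h.slb.line R hR L hL hRL
    by_cases e : D = bk Blk R A
    · exact ⟨x, e ▸ hLD hx, 1, one_mem _, (mul_one x).symm, fun C _ _ u _ => by simp⟩
    · refine ⟨1, one_mem _, x, le_ws hL hRL hx, (one_mul x).symm, fun C hC hCB u hu => ?_⟩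
      refine h.slb.other R C hC D hD (fun hCD => ?_) x (hLD hx) u hu
      exact e ((h.bk_unique hC hD hCD).symm.trans (h.bk_eq hA hC hCB))
  exact hE hw

end NT

namespace NT

variable [Finite G] {S : Sylow 2 G} {P : Subgroup G} (h : NT S P V Z Blk m)

theorem sb_sy (hs : Sb V Z Blk R A B) : Sb V Z Blk R B A where
  l := hs.r
  r := hs.l
  blk := by
    obtain ⟨D, hD, h1, h2⟩ := hs.blk
    exact ⟨D, hD, h2, h1⟩
  ne := fun L hL hRL hBL hAL => hs.ne L hL hRL hAL hBL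

include h

theorem sb_bk (hs : Sb V Z Blk R A B) : bk Blk R B = bk Blk R A := by
  obtain ⟨D, hD, h1, h2⟩ := hs.blk
  rw [h.bk_unique hs.l hD h1, h.bk_unique hs.r hD h2]

theorem sb_le (hs : Sb V Z Blk R A B) : B ≤ bk Blk R A := by
  rw [← h.sb_bk hs]
  exact h.le_bk hs.r

theorem sb_cj (hs : Sb V Z Blk R A B) (g : G) : Sb V Z Blk (PT.cj g R) (PT.cj g A) (PT.cj g B) where
  l := hs.l.cj g
  r := hs.r.cj g
  blk := ⟨PT.cj g (bk Blk R A), h.slb.can g R hs.l.right _ (h.bk_mem hs.l), cj_le_cj.2 (h.le_bk hs.l),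
    cj_le_cj.2 (h.sb_le hs)⟩
  ne := fun L hL hRL hAL hBL => hs.ne (PT.cj g⁻¹ L) (hL.cj g⁻¹) (by rwa [le_cj_iff, inv_inv])
    (by rwa [le_cj_iff, inv_inv]) (by rwa [le_cj_iff, inv_inv])

end NT

namespace NT

variable [Finite G] {S : Sylow 2 G} {P : Subgroup G} (h : NT S P V Z Blk m)
include h

theorem sb_mk (hA : Adj V Z A R) (hB : Adj V Z B R) (hAB : B ≤ bk Blk R A)
    (hne : ∀ L, IsCj V L → R ≤ L → A ≤ L → ¬ B ≤ L) : Sb V Z Blk R A B :=
  ⟨hA, hB, ⟨bk Blk R A, h.bk_mem hA, h.le_bk hA, hAB⟩, hne⟩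

/-- the same with a given line -/
theorem sb_mk' (hA : Adj V Z A R) (hB : Adj V Z B R) (hAB : B ≤ bk Blk R A) (hL : IsCj V L) (hRL : R ≤ L)
    (hAL : A ≤ L) (hne : ¬ B ≤ L) : Sb V Z Blk R A B :=
  h.sb_mk hA hB hAB fun M hM hRM hAM => by
    rwa [h.line_unique hA.right hA.left hA.ne.symm hM hL hRM hAM hRL hAL]

/-- `B ∩ C(U_A) = 1` -/
theorem sb_mv (hs : Sb V Z Blk R A B) {b : G} (hb : b ∈ B) (hu : ∀ u ∈ UU V Z A, u * b = b * u) : b = 1 := by
  obtain ⟨L, hL, hAL, hRL⟩ := hs.l.line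
  exact h.line_inf hs.r.left hL (hs.ne L hL hRL hAL) hb (h.cent hs.l hL hRL hAL (h.sb_le hs hb) hu)

/-- the points of `R`, `A`, `B`, in one block on different lines, can be moved -/
theorem sb_move {R' : Subgroup G} (hs : Sb V Z Blk R A B) (hs' : Sb V Z Blk R' A' B') :
    ∃ g : G, cj g R = R' ∧ cj g A = A' ∧ cj g B = B' := by
  obtain ⟨x, hx⟩ := hs.l.right
  obtain ⟨y, hy⟩ := hs'.l.right
  have h1 : cj (y * x⁻¹) R = R' := by rw [hx, hy, cj_cj, inv_mul_cancel_right]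
  have h2 := h.sb_cj hs (y * x⁻¹)
  rw [h1] at h2
  obtain ⟨g, hg1, hg2, hg3⟩ := h.slb.two R' _ _ _ _ h2 hs'
  exact ⟨g * (y * x⁻¹), by rw [← cj_cj, h1, hg1], by rw [← cj_cj, hg2], by rw [← cj_cj, hg3]⟩

end NT

end Cfsg.Agent.Omega.NO3S.MidB
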