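import Cfsg.Agent.Omega.NO3S.MidB.NTwoBase

/-!
# NO-3S, natural lines, the `(R, B)`-frame, TYPE N, blocks `SL_m`, `m ≥ 3`: section (A1), first part (TEXT 426-2, THEOREM N2)

* `NT.inf_bk` : (5.0);
* `NT.exists_sb`, `NT.exists_path` : paths;
* `NT.bk_UU` : (5.1);  `NT.m_le` : (5.2) `m ≤ 3`;  `NT.big` : (5.3);  `NT.cent_ln` : `C_{B_a(r)}(W_b)` is the line `ar`.
-/

set_option autoImplicit false
set_option linter.unusedSectionVars false

namespace Cfsg.Agent.Omega.NO3S.MidB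

open Subgroup Cfsg.Agent.Omega.NO3S.PT Cfsg.Agent.Omega.NoFF.Basic Cfsg.Agent.ZN
open Cfsg.Agent.Omega.NO3S.MidQ (Adj Com Cr UU ws_of kx_of isCj_iff adj_iff com_iff cr_iff UU_of isCj_symm isCj_trans
  com_cj UU_cj le_UU normalizer_le_UU isPGroup_sSup FlagCan PtCan ff mem_ff ff_cj TypN Sb SLB bk AOne ATwo Path NN cnz
  mem_cnz cnz_cj mem_cs cg mem_cg comm_act card_le_mul surj_of_inj card_mul_le mul_of_card card_dec comm_inj cj_of_cent
  card_mul_le')
open scoped Pointwise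

variable {G : Type*} [Group G] {V Z X Y L : Subgroup G} {Blk : Subgroup G → Set (Subgroup G)} {m : ℕ}

namespace NT

variable [Finite G] {S : Sylow 2 G} {P : Subgroup G} (h : NT S P V Z Blk m)
include h

/-- **(5.0)** -/
theorem inf_bk {A R B : Subgroup G} (hc : Cr V Z A R B) {x : G} (hx : x ∈ bk Blk A R) (hx' : x ∈ bk Blk B R) :
    x ∈ R := by
  by_cases hx1 : x = 1
  · rw [hx1]; exact one_mem _
  have hA : Adj V Z R A := hc.l.symm
  have hB : Adj V Z R B := hc.r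
  obtain ⟨E, hE, -, hxE⟩ := h.exists_pt hA hx fun e => hx1 (h.star hc e (h.bk_le hB hx'))
  obtain ⟨E', hE', -, hxE'⟩ := h.exists_pt hB hx' fun e => hx1 (h.star' hc e (h.bk_le hA hx))
  have e1 := h.pts_eq hE.left hE'.left hxE hxE' hx1
  have e2 := h.mid_unique h.typ hc hE.symm (e1 ▸ hE')
  rwa [← e2]

/-- a point in the block on a different line -/
theorem exists_sb {A R : Subgroup G} (hA : Adj V Z A R) : ∃ B, Sb V Z Blk R A B := by
  obtain ⟨L, hL, hAL, hRL⟩ := hA.line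
  have h1 : ∃ x ∈ bk Blk R A, x ∉ L := by
    by_contra hcon
    push Not at hcon
    have h2 : Nat.card (bk Blk R A) ≤ Nat.card L := Subgroup.card_le_of_le hcon
    rw [h.card_bk hA, h.card_ln hL, ← pow_two] at h2
    have h3 := (Nat.pow_le_pow_iff_right (h.two_le)).1 h2
    have h4 := h.slb.three
    omega
  obtain ⟨x, hx, hxL⟩ := h1
  obtain ⟨B, hB, hBA, hxB⟩ := h.exists_pt hA hx (fun e => hxL (hRL e))
  exact ⟨B, h.sb_mk' hA hB hBA hL hRL hAL fun e => hxL (e hxB)⟩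

/-- an element not centralising a point, as an element of a block -/
theorem exists_bk {A B R : Subgroup G} (hc : Cr V Z A R B) :
    ∃ x ∈ bk Blk A R, ∃ y ∈ bk Blk B R, x * y ≠ y * x := by
  have h1 : ∃ w ∈ ws V A, ∃ v ∈ ws V B, w * v ≠ v * w := by
    by_contra hcon
    push Not at hcon
    exact hc.ne fun w hw => mem_centralizer_iff.2 fun v hv => (hcon w hw v hv).symm
  obtain ⟨w, hw, v, hv, hwv⟩ := h1
  obtain ⟨x, hx, d, hd, rfl, hd'⟩ := h.dec hc.l.symm hw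
  have h2 := hd' R hc.l.symm (h.le_bk hc.l.symm) v (le_UU hc.r.symm hv)
  have hxv : x * v ≠ v * x := by
    intro e
    apply hwv
    calc x * d * v = x * (d * v) := by group
      _ = (x * v) * d := by rw [← h2]; group
      _ = v * (x * d) := by rw [e]; group
  obtain ⟨y, hy, d2, hd2, rfl, hd2'⟩ := h.dec hc.r hv
  have h3 := hd2' R hc.r (h.le_bk hc.r) x (le_UU hc.l (h.bk_le hc.l.symm hx))
  refine ⟨x, hx, y, hy, fun e => hxv ?_⟩
  calc x * (y * d2) = (x * y) * d2 := by group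
    _ = y * (x * d2) := by rw [e]; group
    _ = y * d2 * x := by rw [h3]; group

variable (h1 : AOne V Z Blk)
include h1

theorem cr_of_sb {R A B : Subgroup G} (hs : Sb V Z Blk R A B) : Cr V Z A R B := ⟨hs.l, hs.r.symm, h1 R A B hs⟩

/-- **a path** from `Sb p c r` -/
theorem exists_path' {c p r : Subgroup G} (hs : Sb V Z Blk p c r) : ∃ a w, Path V Z Blk c p r a w := by
  have hc := h.cr_of_sb h1 hs
  obtain ⟨w, hw, y, hy, hwy⟩ := h.exists_bk hc
  have hwc := h.bk_le hs.l.symm hw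
  have hwr : ∀ x ∈ r, w * x = x * w := fun x hx =>
    (mem_centralizer_iff.1 (h.ws_le_cent hs.l hs.r.symm hwc) x hx).symm
  have hwp : ∀ x ∈ p, w * x = x * w := fun x hx => (mem_centralizer_iff.1 (h.ws_le_cent' hs.l hwc) x hx).symm
  have hy' : y ∈ bk Blk r p := hy
  obtain ⟨a, ha, hap, hya⟩ := h.exists_pt hs.r.symm hy' (fun e => hwy (hwr y e))
  refine ⟨a, w, hs, h.sb_mk hs.r.symm ha hap (fun L hL hrL hpL haL => ?_), hw, fun x hx e => ?_⟩
  · obtain ⟨u, hu, v, hv, e⟩ := h.line_eq hs.r.left hs.l.right hs.r.ne hL hrL hpL (haL hya)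
    apply hwy
    rw [e]
    calc w * (u * v) = (w * u) * v := by group
      _ = u * (w * v) := by rw [hwr u hu]; group
      _ = u * v * w := by rw [hwp v hv]; group
  · by_contra hx1
    exact hwy (h.t3 ha.symm (h.two_ws hs.l.left hwc) hwr hx hx1 e y hya)

theorem path_cj {c p r a : Subgroup G} {w : G} (hp : Path V Z Blk c p r a w) (g : G) :
    Path V Z Blk (cj g c) (cj g p) (cj g r) (cj g a) (g * w * g⁻¹) where
  cr := h.sb_cj hp.cr g
  pa := h.sb_cj hp.pa g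
  hw := by
    rw [h.bk_cj hp.cr.l.symm]
    exact conj_mem_cj hp.hw
  mv := by
    intro x hx e
    have h2 := hp.mv _ (mem_cj.1 hx) (by
      have := congrArg (fun t => g⁻¹ * t * g) e
      simpa [mul_assoc] using this)
    have h3 : x = g * (g⁻¹ * x * g) * g⁻¹ := by group
    rw [h3, h2]; group

/-- **a path** to `Sb r p a` -/
theorem exists_path {p r a : Subgroup G} (hs : Sb V Z Blk r p a) : ∃ c w, Path V Z Blk c p r a w := by
  obtain ⟨c, hc⟩ := h.exists_sb hs.l.symm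
  obtain ⟨a', w, hp⟩ := h.exists_path' h1 (NT.sb_sy hc)
  obtain ⟨g, hg1, hg2, hg3⟩ := h.sb_move hp.pa hs
  have h2 := h.path_cj h1 hp g
  rw [hg1, hg2, hg3] at h2
  exact ⟨_, _, h2⟩

/-- **(5.1)** -/
theorem bk_UU {c p r : Subgroup G} (hs : Sb V Z Blk p c r) (hL : IsCj V L) (hcL : c ≤ L) (hpL : p ≤ L) {x : G}
    (hx : x ∈ bk Blk c p) (hxU : x ∈ UU V Z r) : x ∈ L := by
  have hcp := hs.l
  have hrp := hs.r
  obtain ⟨γ, hγ, hγ1⟩ := h.pt_ne_bot hcp.left
  obtain ⟨t, ht, htγ⟩ : ∃ t ∈ UU V Z r, t * γ ≠ γ * t := by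
    by_contra hcon
    push Not at hcon
    exact hγ1 (h.sb_mv (NT.sb_sy hs) hγ hcon)
  have htp : ∀ y ∈ p, t * y = y * t := fun y hy =>
    (mem_centralizer_iff.1 (h.UU_le_cent_adj hrp.symm ht) y hy).symm
  have htc : ∀ y ∈ c, t * y = y * t → y = 1 := by
    intro y hy e
    by_contra hy1
    exact htγ (h.t3 hcp.symm (h.two_UU ht) htp hy hy1 e γ hγ)
  have htr : ∀ y ∈ r, t * y = y * t := fun y hy => (mem_centralizer_iff.1 (h.UU_le_cent_pt hrp.left ht) y hy).symm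
  have hcU : ∀ y ∈ c, y ∈ UU V Z r := fun y hy => le_UU hrp.symm (h.adj_le_ws' hcp hy)
  obtain ⟨y, hy, hyx⟩ := surj_of_inj (A := c) (B := r) (by rw [h.card_pt hcp.left, h.card_pt hrp.left])
    (fun y => y * t * y⁻¹ * t⁻¹) (fun y hy => h.UU_comm h.typ hrp.left (hcU y hy) ht) (fun y hy y' hy' e => by
      have h2 := comm_inj e
      have h3 := htc (y⁻¹ * y') (mul_mem (inv_mem hy) hy') h2.symm
      exact inv_mul_eq_one.1 h3) _ (r.inv_mem (h.UU_comm h.typ hrp.left hxU ht))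
  -- `x y` commutes with `t`
  have hxr : x * (y * t * y⁻¹ * t⁻¹) = y * t * y⁻¹ * t⁻¹ * x :=
    (mem_centralizer_iff.1 (h.UU_le_cent_pt hrp.left hxU) _ (h.UU_comm h.typ hrp.left (hcU y hy) ht)).symm
  have hxy : x * y * t = t * (x * y) := by
    apply Mid.comm_eq
    have e : x * y * t * (x * y)⁻¹ * t⁻¹ = x * (y * t * y⁻¹ * t⁻¹) * x⁻¹ * (x * t * x⁻¹ * t⁻¹) := by group
    rw [e, hxr, mul_inv_cancel_right, hyx, inv_mul_cancel]
  have hpc : cj t p = p := cj_of_cent htp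
  have hadj : Adj V Z (cj t c) p := by
    have := hcp.cj t
    rwa [hpc] at this
  have hblk : cj t (bk Blk p c) = bk Blk p c := by
    rw [← h.sb_bk hs, ← h.bk_cj hrp, hpc, cj_of_cent htr]
  have hle : cj t c ≤ bk Blk p c := by
    rw [← hblk]
    exact cj_le_cj.2 (h.le_bk hcp)
  have hnot : ¬ cj t c ≤ L := by
    intro e
    have h2 : γ * t * γ⁻¹ * t⁻¹ ∈ r := h.UU_comm h.typ hrp.left (hcU γ hγ) ht
    have h3 : γ * t * γ⁻¹ * t⁻¹ ∈ L := by
      have e2 : γ * t * γ⁻¹ * t⁻¹ = γ * (t * γ * t⁻¹)⁻¹ := by group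
      rw [e2]
      exact mul_mem (hcL hγ) (inv_mem (e (conj_mem_cj hγ)))
    have h4 := h.line_inf hrp.left hL (fun e' => hs.ne L hL hpL hcL e') h2 h3
    exact htγ (Mid.comm_eq h4).symm
  have hs2 : Sb V Z Blk p c (cj t c) := h.sb_mk' hcp hadj hle hL hpL hcL hnot
  have hxy2 : x * y ∈ bk Blk c p := mul_mem hx (h.mid_le_bk hcp.symm hy)
  have hxy3 : x * y ∈ bk Blk (cj t c) p := by
    have h2 : bk Blk (cj t c) p = cj t (bk Blk c p) := by
      rw [← h.bk_cj hcp.symm, hpc]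
    rw [h2, mem_cj, mul_assoc, hxy, inv_mul_cancel_left]
    exact hxy2
  have h5 := h.inf_bk (h.cr_of_sb h1 hs2) hxy2 hxy3
  have e : x = x * y * y⁻¹ := by group
  rw [e]
  exact mul_mem (hpL h5) (inv_mem (hcL hy))

end NT

end Cfsg.Agent.Omega.NO3S.MidB
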