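import Cfsg.Agent.Omega.NO3S.MidB.Main
import Cfsg.Agent.Omega.NO3S.MidB.Front
import Cfsg.Agent.Omega.NO3S.MidB.No.Defs
import Cfsg.Agent.Omega.NO3S.FarB.Node
import Cfsg.Agent.Omega.NO3S.HypL

/-!
# NO-3S, natural lines, `q ≥ 4`, critical distance 2: the socket `MidBF`

* `TypNS` : `Mid + (NO) + FullK ⇒ TypN` (helper491, 426, 588, 129, 49, ..: `MidB/No/*.lean`);
* `NOgS` : (NO) over the frame;
* `fullK_cj` : `FullK` for all the points;
* `midBF` : the socket.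
-/

set_option autoImplicit false

namespace Cfsg.Agent.Omega.NO3S.MidB

open Subgroup Cfsg Cfsg.Agent.ZN Cfsg.Agent.Omega.NO3S.PT
open Cfsg.Agent.Omega.MinPar Cfsg.Agent.Omega.Frame Cfsg.Agent.Omega.FrameNOFF Cfsg.Agent.Omega.NatPair
open Cfsg.Agent.Omega.NoFF.Lines (Crit)
open Cfsg.Agent.Omega.ML.Final (MLK)
open Cfsg.Agent.Omega.NO3S.FarQ (KPS)
open Cfsg.Agent.Omega.NO3S.MidQ (TypN Cr)

universe u

/-- `Mid + (NO) + FullK ⇒ TypN` -/
def TypNS : Prop :=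
  ∀ {G : Type u} [Group G] [Finite G] {S : Sylow 2 G} {P V Z : Subgroup G}, Mid S P V Z →
    (∃ A R B, Cr V Z A R B) → No.NOg V Z → (∀ X, IsCj Z X → FullK V X) → TypN V Z

/-- (NO) over the frame -/
def NOgS : Prop :=
  ∀ {G : Type u} [Group G] [Finite G] {S : Sylow 2 G} {P B R : Subgroup G}, Hyp S P →
    PB S B P (zl (S : Subgroup G) P) R → OmB B (zl (S : Subgroup G) P) → 4 ≤ Nat.card R →
    ¬ kx (zl (S : Subgroup G) P) R ≤ centralizer (zl (S : Subgroup G) P : Set G) → No.NOg (zl (S : Subgroup G) P) R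

/-- `FullK` for all the points -/
theorem fullK_cj {G : Type u} [Group G] {V Z X : Subgroup G} (h : FullK V Z) (hX : IsCj Z X) : FullK V X := by
  obtain ⟨g, rfl⟩ := hX
  intro w hw hwR r hr
  rw [ws_cj] at hw
  have h1 : g⁻¹ * w * g ∈ ws V Z := PT.mem_cj.1 hw
  have h2 : g⁻¹ * w * g ∉ Z := fun e => hwR (PT.mem_cj.2 e)
  have h3 : g⁻¹ * r * g ∈ Z := PT.mem_cj.1 hr
  obtain ⟨k, hk, hkw⟩ := h _ h1 h2 _ h3
  refine ⟨g * k * g⁻¹, ?_, ?_⟩
  · rw [kx_cj]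
    exact conj_mem_cj hk
  · calc g * k * g⁻¹ * w * (g * k * g⁻¹)⁻¹ * w⁻¹ = g * (k * (g⁻¹ * w * g) * k⁻¹ * (g⁻¹ * w * g)⁻¹) * g⁻¹ := by group
      _ = r := by rw [hkw]; group

/-- **The socket `MidBF`.** -/
theorem midBF {K : Cls.{u}} (hML : MLK.{u, u}) (hPS : KPS.{u} (fun H _ => IsKGroup H)) (hT : TypNS.{u})
    (hG : NOgS.{u}) : NO3S.MidBF K := by
  intro G _ _ _ S P h F _ _ _ hF hNat B R hB hfull y hc
  have h4 : 4 ≤ Nat.card R := hB.card.symm ▸ hF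
  have hf := FarB.front hML hPS h.toHyp hB.pb h4 (by norm_num) hc
  obtain ⟨hM, hex⟩ := front hB hf hc
  exact (hM.no_typN (hT hM hex (hG h.toHyp hB.pb hB.om h4 hf) fun X hX => fullK_cj hfull hX) hex).elim

end Cfsg.Agent.Omega.NO3S.MidB
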