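import Cfsg.Agent.Omega.NO3S.MidB.Node
import Cfsg.Agent.Omega.NO3S.MidB.No.Main
import Cfsg.Agent.Omega.NO3S.MidB.No.NOgOf

/-!
# NO-3S, natural lines, `q ≥ 4`, critical distance 2: the socket `MidBF`, closed

* `midBF_of` : `MidBF K` from (ML) and `KPS` (for (F1)).
-/

set_option autoImplicit false

namespace Cfsg.Agent.Omega.NO3S.MidB

open Subgroup Cfsg Cfsg.Agent.ZN Cfsg.Agent.Omega.NO3S.PT
open Cfsg.Agent.Omega.MinPar Cfsg.Agent.Omega.Frame Cfsg.Agent.Omega.FrameNOFF Cfsg.Agent.Omega.NatPair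
open Cfsg.Agent.Omega.NoFF.Lines (Crit)
open Cfsg.Agent.Omega.ML.Final (MLK)
open Cfsg.Agent.Omega.NO3S.FarQ (KPS)

universe u

/-- no critical pair at distance 2, over the frame, with (F1) and `FullK` -/
theorem mid_false {G : Type u} [Group G] [Finite G] {S : Sylow 2 G} {P B R : Subgroup G} (hML : MLK.{u, u})
    (h : Hyp S P) (F : Type) [Field F] [Finite F] [CharP F 2] (hF : 4 ≤ Nat.card F) (hB : FrB F S P B R)
    (hfull : FullK (zl (S : Subgroup G) P) R)
    (hf : ¬ kx (zl (S : Subgroup G) P) R ≤ centralizer (zl (S : Subgroup G) P : Set G)) {y : G}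
    (hc : Crit R (normalizer (R : Set G)) {P} 2 1 y) : False := by
  have h4 : 4 ≤ Nat.card R := hB.card.symm ▸ hF
  obtain ⟨hM, hex⟩ := front hB hf hc
  have hNO := No.nog_of_mlk hM h4 h.ctx.kproper (FarB.centralizer_ne_top h hB.pb.Zne) hML
  exact (hM.no_typN (hM.typN_of_no h4 hNO hfull) hex).elim

/-- **The socket `MidBF`, closed.** -/
theorem midBF_of {K : Cls.{u}} (hML : MLK.{u, u}) (hPS : KPS.{u} (fun H _ => IsKGroup H)) : NO3S.MidBF K := by
  intro G _ _ _ S P h F _ _ _ hF hNat B R hB hfull y hc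
  have h4 : 4 ≤ Nat.card R := hB.card.symm ▸ hF
  exact (mid_false hML h.toHyp F hF hB hfull (FarB.front hML hPS h.toHyp hB.pb h4 (by norm_num) hc) hc).elim

end Cfsg.Agent.Omega.NO3S.MidB
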