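import Cfsg.Agent.Omega.NO3S.MidB.JDef
import Cfsg.Agent.Omega.NO3S.MidQ.NTwoDef

/-!
# TYPE N, case (A2): the blocks (bb OMEGA #18317, TCARD 5 D)

* `Eqv V Z R A B` : `A`, `B ~ R` are on a line with `R` or joined at `R`; an equivalence relation;
* `blk V Z R A` : the block of `A` at `R`, `TF.mem_blk`;
* `Good V Z R H`, `TF.good_sup`.
-/

set_option autoImplicit false
set_option linter.unusedSectionVars false

namespace Cfsg.Agent.Omega.NO3S.MidB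

open Subgroup Cfsg.Agent.Omega.NO3S.PT Cfsg.Agent.Omega.NoFF.Basic Cfsg.Agent.ZN
open Cfsg.Agent.Omega.NO3S.MidQ (Adj Com Cr UU ws_of kx_of isCj_iff adj_iff com_iff cr_iff UU_of isCj_symm isCj_trans
  com_cj UU_cj le_UU normalizer_le_UU isPGroup_sSup FlagCan PtCan ff mem_ff ff_cj TypN cw mem_cw cw_le cw_cj Jo jo_cj zu)
open scoped Pointwise

variable {G : Type*} [Group G] {V Z X Y R L A A' B B' C E F H : Subgroup G}

/-- `A`, `B ~ R` are on one line with `R` or joined -/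
def Eqv (V Z R A B : Subgroup G) : Prop :=
  Adj V Z A R ∧ Adj V Z B R ∧ ((∃ L, IsCj V L ∧ R ≤ L ∧ A ≤ L ∧ B ≤ L) ∨ Jo V Z R A B)

/-- the block of `A` at `R` -/
def blk (V Z R A : Subgroup G) : Subgroup G := R ⊔ sSup {E | Eqv V Z R A E}

/-- `R ≤ H` and `H` is a union of `R` and points `~ R` -/
def Good (V Z R H : Subgroup G) : Prop := R ≤ H ∧ ∀ x ∈ H, x ∉ R → ∃ E, Adj V Z E R ∧ E ≤ H ∧ x ∈ E

theorem Eqv.cj (he : Eqv V Z R A B) (g : G) : Eqv V Z (cj g R) (cj g A) (cj g B) := by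
  obtain ⟨h1, h2, h3⟩ := he
  refine ⟨h1.cj g, h2.cj g, ?_⟩
  rcases h3 with ⟨L, hL, hRL, hAL, hBL⟩ | h3
  · exact Or.inl ⟨PT.cj g L, hL.cj g, cj_le_cj.2 hRL, cj_le_cj.2 hAL, cj_le_cj.2 hBL⟩
  · exact Or.inr (jo_cj.2 h3)

theorem eqv_cj {g : G} : Eqv V Z (cj g R) (cj g A) (cj g B) ↔ Eqv V Z R A B := by
  refine ⟨fun h => ?_, fun h => h.cj g⟩
  have := h.cj g⁻¹
  rwa [cj_cj, cj_cj, cj_cj, inv_mul_cancel, cj_one, cj_one, cj_one] at this

theorem eqv_le_blk (he : Eqv V Z R A E) : E ≤ blk V Z R A := le_sup_of_le_right (le_sSup he)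

theorem R_le_blk : R ≤ blk V Z R A := le_sup_left

theorem blk_cj (g : G) : blk V Z (cj g R) (cj g A) = cj g (blk V Z R A) := by
  have key : ∀ (g : G) (R A : Subgroup G), blk V Z (cj g R) (cj g A) ≤ cj g (blk V Z R A) := by
    intro g R A
    refine sup_le (cj_le_cj.2 R_le_blk) (sSup_le fun E hE => ?_)
    have h1 : Eqv V Z R A (cj g⁻¹ E) := by
      have h2 := hE.cj g⁻¹
      rwa [cj_cj, cj_cj, inv_mul_cancel, cj_one, cj_one] at h2
    have h3 := eqv_le_blk h1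
    rwa [cj_le_iff, inv_inv] at h3
  refine le_antisymm (key g R A) ?_
  have h1 := key g⁻¹ (cj g R) (cj g A)
  rw [cj_cj, cj_cj, inv_mul_cancel, cj_one, cj_one] at h1
  rwa [cj_le_iff]

namespace TF

variable [Finite G] {S : Sylow 2 G} {P : Subgroup G} (h : TF S P V Z)
include h

theorem eqv_refl (hA : Adj V Z A R) : Eqv V Z R A A := by
  obtain ⟨L, hL, hAL, hRL⟩ := hA.line
  exact ⟨hA, hA, Or.inl ⟨L, hL, hRL, hAL, hAL⟩⟩

theorem eqv_symm (hs : JSym V Z) (he : Eqv V Z R A B) : Eqv V Z R B A := by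
  obtain ⟨h1, h2, h3⟩ := he
  refine ⟨h2, h1, ?_⟩
  rcases h3 with ⟨L, hL, hRL, hAL, hBL⟩ | h3
  · exact Or.inl ⟨L, hL, hRL, hBL, hAL⟩
  · exact Or.inr (hs _ _ _ h3)

theorem eqv_trans (ht : JTrans V Z) (he : Eqv V Z R A B) (he' : Eqv V Z R B C) : Eqv V Z R A C := by
  obtain ⟨h1, h2, h3⟩ := he
  obtain ⟨-, h4, h5⟩ := he'
  refine ⟨h1, h4, ?_⟩
  rcases h3 with ⟨L, hL, hRL, hAL, hBL⟩ | h3
  · rcases h5 with ⟨M, hM, hRM, hBM, hCM⟩ | h5
    · left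
      have e := h.line_unique h2.left h2.right h2.ne hL hM hBL hRL hBM hRM
      exact ⟨L, hL, hRL, hAL, e ▸ hCM⟩
    · exact Or.inr (h.jo_line_left h5 h1 hL hRL hBL hAL)
  · rcases h5 with ⟨M, hM, hRM, hBM, hCM⟩ | h5
    · exact Or.inr (h.jo_line_right h3 h4 hM hRM hBM hCM)
    · by_cases hl : ∃ L, IsCj V L ∧ R ≤ L ∧ A ≤ L ∧ C ≤ L
      · exact Or.inl hl
      · exact Or.inr (ht R A B C h3 h5 fun L hL hRL hAL hCL => hl ⟨L, hL, hRL, hAL, hCL⟩)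

/-- an element of a line on `R` is in `R` or in a point `~ R` of the line -/
theorem line_pt (hR : IsCj Z R) (hL : IsCj V L) (hRL : R ≤ L) {x : G} (hx : x ∈ L) (hxR : x ∉ R) :
    ∃ E, Adj V Z E R ∧ E ≤ L ∧ x ∈ E := by
  obtain ⟨E, hE, hEL, hxE⟩ := h.exists_point hL hx (fun e => hxR (e ▸ one_mem _))
  exact ⟨E, ⟨hE, hR, fun e => hxR (e ▸ hxE), L, hL, hEL, hRL⟩, hEL, hxE⟩

/-- the points are disjoint from `R` -/
theorem not_mem_R (hE : Adj V Z E R) {x : G} (hx : x ∈ E) (hx1 : x ≠ 1) : x ∉ R := fun e =>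
  hE.ne (h.pts_eq hE.left hE.right hx e hx1)

/-- the product of elements of two joined points is in a point of `⟨E, F⟩` -/
theorem jo_mul (hv : JVal V Z) (hj : Jo V Z R E F) {x y : G} (hx : x ∈ E) (hy : y ∈ F) (hy1 : y ≠ 1) :
    ∃ g ∈ UU V Z E, x * y ∈ PT.cj g F ∧ PT.cj g F ≤ E ⊔ F ∧ Adj V Z (PT.cj g F) R ∧ Jo V Z R E (PT.cj g F) := by
  obtain ⟨g, hg, hgy⟩ := hv R E F hj y hy hy1 x hx
  refine ⟨g, hg, ?_, h.cj_le_sup hj.l hj.r hg, h.adj_cj_UU hj.l hj.r hg, ?_⟩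
  · have h1 : g * y * g⁻¹ = x * y := by rw [← hgy]; group
    rw [← h1]
    exact conj_mem_cj hy
  · have h1 := jo_cj (g := g).2 hj
    rwa [h.cj_UU_adj hg hj.l, h.cj_UU hg hj.l.left] at h1

/-- the elements of a block -/
theorem mem_blk (hs : JSym V Z) (hv : JVal V Z) (ht : JTrans V Z) (hA : Adj V Z A R) {x : G} :
    x ∈ blk V Z R A ↔ x ∈ R ∨ ∃ E, Eqv V Z R A E ∧ x ∈ E := by
  constructor
  swap
  · rintro (hx | ⟨E, hE, hx⟩)
    · exact R_le_blk hx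
    · exact eqv_le_blk hE hx
  -- a line with one point in the block
  have hline : ∀ {F L : Subgroup G}, Eqv V Z R A F → IsCj V L → R ≤ L → F ≤ L → ∀ x ∈ L,
      x ∈ R ∨ ∃ E, Eqv V Z R A E ∧ x ∈ E := by
    intro F L hF hL hRL hFL x hx
    by_cases hxR : x ∈ R
    · exact Or.inl hxR
    obtain ⟨E, hE, hEL, hxE⟩ := h.line_pt hA.right hL hRL hx hxR
    exact Or.inr ⟨E, h.eqv_trans ht hF ⟨hF.2.1, hE, Or.inl ⟨L, hL, hRL, hFL, hEL⟩⟩, hxE⟩
  let K : Subgroup G :=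
    { carrier := {x | x ∈ R ∨ ∃ E, Eqv V Z R A E ∧ x ∈ E}
      one_mem' := Or.inl (one_mem _)
      inv_mem' := by
        rintro x (hx | ⟨E, hE, hx⟩)
        · exact Or.inl (inv_mem hx)
        · exact Or.inr ⟨E, hE, inv_mem hx⟩
      mul_mem' := by
        rintro x y (hx | ⟨E, hE, hx⟩) (hy | ⟨F, hF, hy⟩)
        · exact Or.inl (mul_mem hx hy)
        · obtain ⟨L, hL, hFL, hRL⟩ := hF.2.1.line
          exact hline hF hL hRL hFL _ (mul_mem (hRL hx) (hFL hy))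
        · obtain ⟨L, hL, hEL, hRL⟩ := hE.2.1.line
          exact hline hE hL hRL hEL _ (mul_mem (hEL hx) (hRL hy))
        · by_cases hy1 : y = 1
          · rw [hy1, mul_one]
            exact Or.inr ⟨E, hE, hx⟩
          rcases (h.eqv_trans ht (h.eqv_symm hs hE) hF).2.2 with ⟨L, hL, hRL, hEL, hFL⟩ | hj
          · exact hline hE hL hRL hEL _ (mul_mem (hEL hx) (hFL hy))
          · obtain ⟨g, hg, h1, -, h3, h4⟩ := h.jo_mul hv hj hx hy hy1
            exact Or.inr ⟨_, h.eqv_trans ht hE ⟨hE.2.1, h3, Or.inr h4⟩, h1⟩ }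
  have hK : blk V Z R A ≤ K := sup_le (fun x hx => Or.inl hx) (sSup_le fun E hE x hx => Or.inr ⟨E, hE, hx⟩)
  exact fun hx => hK hx

theorem blk_le_ws (hA : Adj V Z A R) : blk V Z R A ≤ ws V R :=
  sup_le (h.pt_le_ws hA.right) (sSup_le fun _ hE => h.adj_le_ws hE.2.1.symm)

/-- a point in a block is equivalent to its base point -/
theorem eqv_of_le (hs : JSym V Z) (hv : JVal V Z) (ht : JTrans V Z) (hA : Adj V Z A R) (hE : Adj V Z E R) {x : G}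
    (hx : x ∈ E) (hx1 : x ≠ 1) (hxb : x ∈ blk V Z R A) : Eqv V Z R A E := by
  rcases (h.mem_blk hs hv ht hA).1 hxb with h1 | ⟨F, hF, h1⟩
  · exact absurd h1 (h.not_mem_R hE hx hx1)
  · rwa [h.pts_eq hE.left hF.2.1.left hx h1 hx1]

theorem blk_eq (hs : JSym V Z) (ht : JTrans V Z) (he : Eqv V Z R A B) : blk V Z R A = blk V Z R B := by
  unfold blk
  congr 2
  ext E
  exact ⟨fun h1 => h.eqv_trans ht (h.eqv_symm hs he) h1, fun h1 => h.eqv_trans ht he h1⟩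

theorem good_R : Good V Z R R := ⟨le_rfl, fun _ hx hxR => absurd hx hxR⟩

theorem good_blk (hs : JSym V Z) (hv : JVal V Z) (ht : JTrans V Z) (hA : Adj V Z A R) :
    Good V Z R (blk V Z R A) := by
  refine ⟨R_le_blk, fun x hx hxR => ?_⟩
  rcases (h.mem_blk hs hv ht hA).1 hx with h1 | ⟨E, hE, h1⟩
  · exact absurd h1 hxR
  · exact ⟨E, hE.2.1, eqv_le_blk hE, h1⟩

/-- **one step** -/
theorem good_sup (hs : JSym V Z) (hv : JVal V Z) (ht : JTrans V Z) (hH : Good V Z R H) (hHD : H ≤ blk V Z R A)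
    (hA : Adj V Z A R) (hE : Eqv V Z R A E) (hn : ¬ E ≤ H) :
    Good V Z R (H ⊔ E) ∧ H ⊓ E = ⊥ ∧ Nat.card ↥(H ⊔ E) = Nat.card H * Nat.card Z := by
  have hHW : H ≤ ws V R := hHD.trans (h.blk_le_ws hA)
  have hEW : E ≤ ws V R := h.adj_le_ws hE.2.1.symm
  have hmem : ∀ x ∈ H ⊔ E, ∃ a ∈ H, ∃ b ∈ E, x = a * b := by
    let K : Subgroup G :=
      { carrier := {x | ∃ a ∈ H, ∃ b ∈ E, x = a * b}
        one_mem' := ⟨1, one_mem _, 1, one_mem _, (mul_one 1).symm⟩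
        inv_mem' := by
          rintro _ ⟨a, ha, b, hb, rfl⟩
          refine ⟨a⁻¹, inv_mem ha, b⁻¹, inv_mem hb, ?_⟩
          rw [mul_inv_rev, h.ws_comm hA.right ((ws V R).inv_mem (hEW hb)) ((ws V R).inv_mem (hHW ha))]
        mul_mem' := by
          rintro _ _ ⟨a, ha, b, hb, rfl⟩ ⟨c, hc, d, hd, rfl⟩
          refine ⟨a * c, mul_mem ha hc, b * d, mul_mem hb hd, ?_⟩
          rw [mul_assoc, ← mul_assoc b c d, h.ws_comm hA.right (hEW hb) (hHW hc)]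
          simp only [mul_assoc] }
    have hK : H ⊔ E ≤ K := sup_le (fun x hx => ⟨x, hx, 1, one_mem _, (mul_one x).symm⟩)
      (fun x hx => ⟨1, one_mem _, x, hx, (one_mul x).symm⟩)
    exact fun x hx => hK hx
  have hinf : H ⊓ E = ⊥ := by
    rw [eq_bot_iff]
    rintro x ⟨hx, hx'⟩
    rw [mem_bot]
    by_contra hx1
    obtain ⟨F, hF, hFH, hxF⟩ := hH.2 x hx (h.not_mem_R hE.2.1 hx' hx1)
    exact hn (h.pts_eq hE.2.1.left hF.left hx' hxF hx1 ▸ hFH)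
  refine ⟨⟨hH.1.trans le_sup_left, ?_⟩, hinf, ?_⟩
  · intro x hx hxR
    obtain ⟨a, ha, b, hb, rfl⟩ := hmem x hx
    by_cases hb1 : b = 1
    · rw [hb1, mul_one] at hxR ⊢
      obtain ⟨F, hF, hFH, haF⟩ := hH.2 a ha hxR
      exact ⟨F, hF, hFH.trans le_sup_left, haF⟩
    by_cases haR : a ∈ R
    · obtain ⟨L, hL, hEL, hRL⟩ := hE.2.1.line
      obtain ⟨F, hF, hFL, hxF⟩ := h.line_pt hA.right hL hRL (mul_mem (hRL haR) (hEL hb)) hxR
      exact ⟨F, hF, hFL.trans (h.line_le' hA.right hE.2.1.left hE.2.1.ne hL hRL hEL (hH.1.trans le_sup_left)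
        le_sup_right), hxF⟩
    · obtain ⟨F, hF, hFH, haF⟩ := hH.2 a ha haR
      have ha1 : a ≠ 1 := fun e => haR (e ▸ one_mem _)
      have h1 := h.eqv_of_le hs hv ht hA hF haF ha1 (hHD ha)
      rcases (h.eqv_trans ht (h.eqv_symm hs h1) hE).2.2 with ⟨L, hL, hRL, hFL, hEL⟩ | hj
      · exact absurd (hEL.trans (h.line_le' hA.right hF.left hF.ne hL hRL hFL hH.1 hFH)) hn
      · obtain ⟨g, hg, h2, h3, h4, -⟩ := h.jo_mul hv hj haF hb hb1
        exact ⟨_, h4, h3.trans (sup_le (hFH.trans le_sup_left) le_sup_right), h2⟩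
  · have h1 : Nat.card E = Nat.card Z := h.card_pt hE.2.1.left
    rw [← h1, ← Nat.card_prod]
    symm
    refine Nat.card_congr (Equiv.ofBijective
      (fun p : H × E => (⟨(p.1 : G) * p.2, mul_mem (mem_sup_left p.1.2) (mem_sup_right p.2.2)⟩ : ↥(H ⊔ E))) ⟨?_, ?_⟩)
    · rintro ⟨a, b⟩ ⟨c, d⟩ e
      have e1 : (a : G) * b = c * d := congrArg Subtype.val e
      have e2 : (c : G)⁻¹ * a = d * (b : G)⁻¹ := by
        rw [eq_mul_inv_iff_mul_eq, mul_assoc, e1, inv_mul_cancel_left]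
      have e3 : (c : G)⁻¹ * a ∈ H ⊓ E := by
        refine ⟨H.mul_mem (H.inv_mem c.2) a.2, ?_⟩
        change (c : G)⁻¹ * a ∈ E
        rw [e2]
        exact E.mul_mem d.2 (E.inv_mem b.2)
      rw [hinf, mem_bot] at e3
      have e4 : (a : G) = c := (inv_mul_eq_one.1 e3).symm
      rw [e3] at e2
      have e5 : (d : G) = b := mul_inv_eq_one.1 e2.symm
      exact Prod.ext (Subtype.ext e4) (Subtype.ext e5.symm)
    · rintro ⟨x, hx⟩
      obtain ⟨a, ha, b, hb, rfl⟩ := hmem x hx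
      exact ⟨(⟨a, ha⟩, ⟨b, hb⟩), rfl⟩

end TF

end Cfsg.Agent.Omega.NO3S.MidB
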