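import Cfsg.Agent.Omega.NO3S.MidB.SLBase

/-!
# TYPE N, case (A2): the fields of `SLB` except `two` (bb OMEGA #18317, TCARD 5 D)

* `Bk V Z X` : the blocks at `X`;
* `TF.exists_jo_blk`; `TF.card_blk` : the blocks have order `|Z| ^ (m + 1)`, `m ≥ 3`;
* `TF.slb_of` : `SLB` from the field `two`.
-/

set_option autoImplicit false
set_option linter.unusedSectionVars false

namespace Cfsg.Agent.Omega.NO3S.MidB

open Subgroup Cfsg.Agent.Omega.NO3S.PT Cfsg.Agent.Omega.NoFF.Basic Cfsg.Agent.ZN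
open Cfsg.Agent.Omega.NO3S.MidQ (Adj Com Cr UU ws_of kx_of isCj_iff adj_iff com_iff cr_iff UU_of isCj_symm isCj_trans
  com_cj UU_cj le_UU normalizer_le_UU isPGroup_sSup FlagCan PtCan ff mem_ff ff_cj TypN cw mem_cw cw_le cw_cj Jo jo_cj zu
  Sb SLB)
open scoped Pointwise

variable {G : Type*} [Group G] {V Z X Y R L A A' B B' C E F H : Subgroup G}

/-- the blocks at `X` -/
def Bk (V Z X : Subgroup G) : Set (Subgroup G) := {B | ∃ A, Adj V Z A X ∧ B = blk V Z X A}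

namespace TF

variable [Finite G] {S : Sylow 2 G} {P : Subgroup G} (h : TF S P V Z)
include h

/-- there are joined points -/
theorem exists_jo_blk : ∃ R A B, Jo V Z R A B := by
  obtain ⟨A, R, B, hc⟩ := h.ex
  by_contra hcon
  apply hc.ne
  have hB := hc.r.right
  have h1 : ws V B ≤ centralizer ((UU V Z R : Subgroup G) : Set G) := by
    refine h.ws_le_of hB ?_ fun F hF => ?_
    · exact le_centralizer_iff.1 (h.UU_le_cent_adj hc.r.symm)
    · by_contra hF'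
      exact hcon ⟨B, R, F, hc.r, hF, hF'⟩
  exact (le_UU hc.l).trans (le_centralizer_iff.1 h1)

/-- good subgroups of a block: the order of the block is a power of `|Z|` -/
theorem card_pow_of (hs : JSym V Z) (hv : JVal V Z) (ht : JTrans V Z) (hA : Adj V Z A R) :
    ∀ (n : ℕ) (H : Subgroup G), Nat.card (blk V Z R A) ≤ Nat.card H + n → Good V Z R H → H ≤ blk V Z R A →
      ∀ j, Nat.card H = Nat.card Z ^ j → ∃ k, j ≤ k ∧ Nat.card (blk V Z R A) = Nat.card Z ^ k := by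
  have hZ := h.one_lt_card_pt
  intro n
  induction n with
  | zero =>
    intro H hc _ hle j hj
    have h1 : H = blk V Z R A := Subgroup.eq_of_le_of_card_ge hle (by omega)
    exact ⟨j, le_rfl, by rw [← h1, hj]⟩
  | succ n ih =>
    intro H hc hH hle j hj
    by_cases h1 : H = blk V Z R A
    · exact ⟨j, le_rfl, by rw [← h1, hj]⟩
    obtain ⟨x, hx, hxH⟩ := SetLike.exists_of_lt (lt_of_le_of_ne hle h1)
    rcases (h.mem_blk hs hv ht hA).1 hx with h2 | ⟨E, hE, hxE⟩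
    · exact absurd (hH.1 h2) hxH
    obtain ⟨h3, -, h4⟩ := h.good_sup hs hv ht hH hle hA hE (fun e => hxH (e hxE))
    have h5 : 0 < Nat.card H := Nat.card_pos
    have h6 : Nat.card H + 1 ≤ Nat.card ↥(H ⊔ E) := by
      rw [h4]
      calc Nat.card H + 1 ≤ Nat.card H + Nat.card H := by omega
        _ = Nat.card H * 2 := by ring
        _ ≤ Nat.card H * Nat.card Z := Nat.mul_le_mul_left _ hZ
    obtain ⟨k, hk, hk2⟩ := ih (H ⊔ E) (by omega) h3 (sup_le hle (eqv_le_blk hE)) (j + 1) (by rw [h4, hj, pow_succ])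
    exact ⟨k, by omega, hk2⟩

/-- in case (A2) the order of a block with joined points is at least `|Z| ^ 4` -/
theorem card_blk_jo (hs : JSym V Z) (hv : JVal V Z) (ht : JTrans V Z) (hB : Bg V Z) (hj : Jo V Z R A B) :
    ∃ k, 4 ≤ k ∧ Nat.card (blk V Z R A) = Nat.card Z ^ k := by
  have hA := hj.l
  obtain ⟨g, hg, hgB, w, hw, hgw⟩ := hB R A B hj
  -- the fourth point
  obtain ⟨E, hE, hEg⟩ : ∃ E, Adj V Z E R ∧ ¬ E ≤ centralizer {g} := by
    by_contra hcon
    push Not at hcon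
    have h1 : ws V R ≤ centralizer {g} := by
      refine h.ws_le_of hA.right (fun x hx => ?_) hcon
      rw [mem_centralizer_singleton_iff]
      exact (mem_centralizer_iff.1 (h.UU_le_cent_adj hA.symm hg) x hx)
    exact hgw (mem_centralizer_singleton_iff.1 (h1 hw)).symm
  have hjE : Jo V Z R A E := ⟨hA, hE, fun e => hEg fun x hx =>
    mem_centralizer_singleton_iff.2 (mem_centralizer_iff.1 (e hx) g hg).symm⟩
  have hRg : R ≤ centralizer {g} := fun x hx =>
    mem_centralizer_singleton_iff.2 (mem_centralizer_iff.1 (h.UU_le_cent_adj hA.symm hg) x hx)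
  have hAg : A ≤ centralizer {g} := fun x hx =>
    mem_centralizer_singleton_iff.2 (mem_centralizer_iff.1 (h.UU_le_cent_pt hA.left hg) x hx)
  have hBg : B ≤ centralizer {g} := fun x hx => mem_centralizer_singleton_iff.2 (hgB x hx).symm
  obtain ⟨L, hL, hAL, hRL⟩ := hA.line
  -- the chain
  have h0 : R ≤ blk V Z R A := R_le_blk
  obtain ⟨g1, -, c1⟩ := h.good_sup hs hv ht h.good_R h0 hA (h.eqv_refl hA) (fun e => by
    obtain ⟨a, ha, ha1⟩ := h.pt_ne_bot hA.left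
    exact h.not_mem_R hA ha ha1 (e ha))
  have h1 : R ⊔ A ≤ blk V Z R A := sup_le h0 (eqv_le_blk (h.eqv_refl hA))
  obtain ⟨g2, -, c2⟩ := h.good_sup hs hv ht g1 h1 hA ⟨hA, hj.r, Or.inr hj⟩ (fun e =>
    (h.jo_iff hA hj.r).1 hj (e.trans ((sup_le hRL hAL).trans (h.line_le_cw hL hRL hAL))))
  have h2 : R ⊔ A ⊔ B ≤ blk V Z R A := sup_le h1 (eqv_le_blk ⟨hA, hj.r, Or.inr hj⟩)
  obtain ⟨g3, -, c3⟩ := h.good_sup hs hv ht g2 h2 hA ⟨hA, hE, Or.inr hjE⟩ (fun e =>
    hEg (e.trans (sup_le (sup_le hRg hAg) hBg)))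
  have h3 : R ⊔ A ⊔ B ⊔ E ≤ blk V Z R A := sup_le h2 (eqv_le_blk ⟨hA, hE, Or.inr hjE⟩)
  refine h.card_pow_of hs hv ht hA (Nat.card (blk V Z R A)) _ (by omega) g3 h3 4 ?_
  rw [c3, c2, c1, h.card_pt hA.right]
  ring

/-- **the order of the blocks** -/
theorem card_blk (hs : JSym V Z) (hv : JVal V Z) (ht : JTrans V Z) (hB : Bg V Z) :
    ∃ m, 3 ≤ m ∧ ∀ R A, Adj V Z A R → Nat.card (blk V Z R A) = Nat.card Z ^ (m + 1) := by
  obtain ⟨R₀, A₀, B₀, hj⟩ := h.exists_jo_blk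
  obtain ⟨k, hk, hk2⟩ := h.card_blk_jo hs hv ht hB hj
  refine ⟨k - 1, by omega, fun R A hA => ?_⟩
  obtain ⟨g, rfl, rfl⟩ := h.exists_adj hj.l hA
  rw [blk_cj, card_cj, hk2]
  congr 1
  omega

/-- **`SLB` from the field `two`** -/
theorem slb_of (hs : JSym V Z) (hv : JVal V Z) (ht : JTrans V Z) (hB : Bg V Z)
    (two : ∀ R A B A' B', Sb V Z (Bk V Z) R A B → Sb V Z (Bk V Z) R A' B' →
      ∃ g : G, cj g R = R ∧ cj g A = A' ∧ cj g B = B') : ∃ Blk m, SLB V Z Blk m := by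
  obtain ⟨m, hm, hcard⟩ := h.card_blk hs hv ht hB
  refine ⟨Bk V Z, m, ?_⟩
  exact
  { three := hm
    can := by
      rintro g X - _ ⟨A, hA, rfl⟩
      exact ⟨PT.cj g A, hA.cj g, (blk_cj g).symm⟩
    le := by
      rintro X - _ ⟨A, hA, rfl⟩
      exact ⟨R_le_blk, h.blk_le_ws hA⟩
    line := by
      intro X hX L hL hXL
      obtain ⟨Y, hY, hYL, hYX⟩ := h.exists_second hX hL hXL
      have hYX' : Adj V Z Y X := ⟨hY, hX, hYX, L, hL, hYL, hXL⟩
      exact ⟨_, ⟨Y, hYX', rfl⟩, h.line_le' hX hY hYX hL hXL hYL R_le_blk (eqv_le_blk (h.eqv_refl hYX'))⟩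
    inf := by
      rintro X - _ ⟨A, hA, rfl⟩ _ ⟨A', hA', rfl⟩ hne b hb hb'
      by_contra hbX
      rcases (h.mem_blk hs hv ht hA).1 hb with h1 | ⟨E, hE, hbE⟩
      · exact hbX h1
      have h2 := h.eqv_of_le hs hv ht hA' hE.2.1 hbE (fun e => hbX (e ▸ one_mem _)) hb'
      exact hne ((h.blk_eq hs ht h2).trans (h.blk_eq hs ht hE).symm)
    all := by
      rintro X hX _ ⟨A, hA, rfl⟩ b hb hbX
      rcases (h.mem_blk hs hv ht hA).1 hb with h1 | ⟨E, hE, hbE⟩
      · exact absurd h1 hbX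
      · obtain ⟨L, hL, hEL, hXL⟩ := hE.2.1.line
        exact ⟨L, hL, hXL, hEL hbE⟩
    card := by
      rintro X - _ ⟨A, hA, rfl⟩
      exact hcard X A hA
    other := by
      rintro R A hA _ ⟨C, hC, rfl⟩ hn b hb u hu
      rcases (h.mem_blk hs hv ht hC).1 hb with h1 | ⟨E, hE, hbE⟩
      · exact (mem_centralizer_iff.1 (h.UU_le_cent_adj hA.symm hu) b h1).symm
      by_contra hub
      have hj : Jo V Z R A E := ⟨hA, hE.2.1, fun e => hub (mem_centralizer_iff.1 (e hbE) u hu)⟩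
      exact hn (eqv_le_blk (h.eqv_trans ht hE (h.eqv_symm hs ⟨hA, hE.2.1, Or.inr hj⟩)))
    cent := by
      rintro R A hA _ ⟨C, hC, rfl⟩ hAB L hL hRL hAL b hb hub
      rcases (h.mem_blk hs hv ht hC).1 hb with h1 | ⟨E, hE, hbE⟩
      · exact hRL h1
      obtain ⟨a, ha, ha1⟩ := h.pt_ne_bot hA.left
      have h2 := h.eqv_of_le hs hv ht hC hA ha ha1 (hAB ha)
      rcases (h.eqv_trans ht (h.eqv_symm hs h2) hE).2.2 with ⟨M, hM, hRM, hAM, hEM⟩ | hj
      · have e := h.line_unique hA.left hA.right hA.ne hM hL hAM hRM hAL hRL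
        exact e ▸ hEM hbE
      · have h3 := h.inf_cw hj hbE (mem_cw.2 ⟨h.adj_le_ws hE.2.1.symm hbE, fun u hu => hub u hu⟩)
        rw [h3]
        exact one_mem _
    two := two }

end TF

end Cfsg.Agent.Omega.NO3S.MidB
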