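import Cfsg.Agent.Omega.NO3S.MidB.JDef
import Cfsg.Agent.Omega.NO3S.MidQ.NTwoDef

/-!
# TYPE N, case (A2): the blocks (bb OMEGA #18317, TCARD 5 part D): the field `two`

* `Eqv V Z R A B` : `A`, `B ~ R` are on one line with `R`, or joined at `R`;
* `IsBl V Z R A D` : `D` is the block at `R` of the point `A ~ R`;
* `Gd V Z R A H` : `R ≤ H` and every element of `H - R` is in a point `E ≤ H` equivalent to `A`;
* `TE` : `TF` with `JSym`, `JVal`, `JTrans`;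
* `TE.two_x`, `TE.two`, `TE.two'` : `N_G(R)` is transitive on the joined pairs.
-/

set_option autoImplicit false
set_option linter.unusedSectionVars false

namespace Cfsg.Agent.Omega.NO3S.MidB.SL

open Subgroup Cfsg.Agent.Omega.NO3S.PT Cfsg.Agent.Omega.NoFF.Basic Cfsg.Agent.ZN
open Cfsg.Agent.Omega.NO3S.MidQ (Adj Com Cr UU ws_of kx_of isCj_iff adj_iff com_iff cr_iff UU_of isCj_symm isCj_trans
  com_cj UU_cj le_UU normalizer_le_UU isPGroup_sSup FlagCan PtCan ff mem_ff ff_cj TypN cw mem_cw cw_le cw_cj Jo jo_cj zu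
  Sb SLB bk)
open scoped Pointwise

variable {G : Type*} [Group G] {V Z X Y R L M A A' B B' C D D' E F H K : Subgroup G}

/-! ### Products of commuting subgroups -/

theorem mem_sup_comm (hc : ∀ a ∈ H, ∀ b ∈ E, a * b = b * a) {x : G} : x ∈ H ⊔ E ↔ ∃ a ∈ H, ∃ b ∈ E, a * b = x := by
  constructor
  · intro hx
    let K : Subgroup G :=
      { carrier := {x | ∃ a ∈ H, ∃ b ∈ E, a * b = x}
        one_mem' := ⟨1, one_mem _, 1, one_mem _, one_mul _⟩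
        mul_mem' := by
          rintro _ _ ⟨a, ha, b, hb, rfl⟩ ⟨a', ha', b', hb', rfl⟩
          refine ⟨a * a', mul_mem ha ha', b * b', mul_mem hb hb', ?_⟩
          rw [mul_assoc a a', ← mul_assoc a' b b', hc a' ha' b hb]
          group
        inv_mem' := by
          rintro _ ⟨a, ha, b, hb, rfl⟩
          refine ⟨a⁻¹, inv_mem ha, b⁻¹, inv_mem hb, ?_⟩
          rw [hc a⁻¹ (inv_mem ha) b⁻¹ (inv_mem hb), mul_inv_rev] }
    have h1 : H ⊔ E ≤ K := sup_le (fun a ha => ⟨a, ha, 1, one_mem _, mul_one _⟩) fun b hb =>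
      ⟨1, one_mem _, b, hb, one_mul _⟩
    exact h1 hx
  · rintro ⟨a, ha, b, hb, rfl⟩
    exact mul_mem (mem_sup_left ha) (mem_sup_right hb)

theorem card_sup_comm [Finite G] (hc : ∀ a ∈ H, ∀ b ∈ E, a * b = b * a) (hd : ∀ x ∈ H, x ∈ E → x = 1) :
    Nat.card (H ⊔ E : Subgroup G) = Nat.card H * Nat.card E := by
  rw [← Nat.card_prod]
  refine (Nat.card_congr (Equiv.ofBijective (fun p : H × E =>
    (⟨p.1 * p.2, mul_mem (mem_sup_left p.1.2) (mem_sup_right p.2.2)⟩ : (H ⊔ E : Subgroup G))) ⟨?_, ?_⟩)).symm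
  · rintro ⟨a, b⟩ ⟨a', b'⟩ hab
    have h1 : (a : G) * b = a' * b' := congrArg Subtype.val hab
    have h2 : (a' : G)⁻¹ * a = b' * (b : G)⁻¹ := by
      rw [inv_mul_eq_iff_eq_mul, ← mul_assoc, eq_mul_inv_iff_mul_eq]
      exact h1
    have h3 : (a' : G)⁻¹ * a = 1 := hd _ (mul_mem (inv_mem a'.2) a.2) (by rw [h2]; exact mul_mem b'.2 (inv_mem b.2))
    have h4 : (b' : G) * (b : G)⁻¹ = 1 := by rw [← h2, h3]
    exact Prod.ext (Subtype.ext (inv_mul_eq_one.1 h3).symm) (Subtype.ext (mul_inv_eq_one.1 h4).symm)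
  · rintro ⟨x, hx⟩
    obtain ⟨a, ha, b, hb, rfl⟩ := (mem_sup_comm hc).1 hx
    exact ⟨(⟨a, ha⟩, ⟨b, hb⟩), rfl⟩

/-! ### The definitions -/

/-- `A`, `B ~ R` are on one line with `R`, or joined at `R` -/
structure Eqv (V Z R A B : Subgroup G) : Prop where
  l : Adj V Z A R
  r : Adj V Z B R
  or : (∃ L, IsCj V L ∧ R ≤ L ∧ A ≤ L ∧ B ≤ L) ∨ Jo V Z R A B

/-- `D` is the block at `R` of the point `A ~ R` -/
def IsBl (V Z R A D : Subgroup G) : Prop := ∀ u, u ∈ D ↔ u ∈ R ∨ ∃ E, Eqv V Z R A E ∧ u ∈ E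

/-- `R ≤ H` and every element of `H - R` is in a point `E ≤ H` equivalent to `A` -/
structure Gd (V Z R A H : Subgroup G) : Prop where
  le : R ≤ H
  pt : ∀ u ∈ H, u ∉ R → ∃ E, Eqv V Z R A E ∧ E ≤ H ∧ u ∈ E

/-- `TF` with (0), (1), (5) -/
structure TE [Finite G] (S : Sylow 2 G) (P V Z : Subgroup G) : Prop extends TF S P V Z where
  sym : JSym V Z
  val : JVal V Z
  trans : JTrans V Z

theorem Eqv.cj (h : Eqv V Z R A B) (g : G) : Eqv V Z (PT.cj g R) (PT.cj g A) (PT.cj g B) :=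
  ⟨h.l.cj g, h.r.cj g, h.or.imp (fun ⟨L, h1, h2, h3, h4⟩ =>
    ⟨PT.cj g L, h1.cj g, cj_le_cj.2 h2, cj_le_cj.2 h3, cj_le_cj.2 h4⟩) fun h1 => h1.cj g⟩

theorem IsBl.cj (h : IsBl V Z R A D) (g : G) : IsBl V Z (PT.cj g R) (PT.cj g A) (PT.cj g D) := by
  intro u
  rw [mem_cj, h, mem_cj]
  refine or_congr Iff.rfl ⟨?_, ?_⟩
  · rintro ⟨E, hE, hu⟩
    exact ⟨PT.cj g E, hE.cj g, mem_cj.2 hu⟩
  · rintro ⟨E, hE, hu⟩
    refine ⟨PT.cj g⁻¹ E, ?_, by rw [mem_cj, inv_inv]; convert hu using 1; group⟩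
    have h1 := hE.cj g⁻¹
    rwa [cj_cj, cj_cj, inv_mul_cancel, cj_one, cj_one] at h1

theorem IsBl.eq_of (h : IsBl V Z R A D) (h' : IsBl V Z R A' D') (hAA : ∀ E, Eqv V Z R A E ↔ Eqv V Z R A' E) : D = D' := by
  ext u
  rw [h, h']
  simp only [hAA]

namespace TE

variable [Finite G] {S : Sylow 2 G} {P : Subgroup G} (h : TE S P V Z)
include h

theorem eqv_line (hA : Adj V Z A R) (hB : Adj V Z B R) (hL : IsCj V L) (hRL : R ≤ L) (hAL : A ≤ L) (hBL : B ≤ L) :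
    Eqv V Z R A B := ⟨hA, hB, Or.inl ⟨L, hL, hRL, hAL, hBL⟩⟩

theorem eqv_refl (hA : Adj V Z A R) : Eqv V Z R A A := by
  obtain ⟨L, hL, hAL, hRL⟩ := hA.line
  exact h.eqv_line hA hA hL hRL hAL hAL

theorem eqv_jo (hj : Jo V Z R A B) : Eqv V Z R A B := ⟨hj.l, hj.r, Or.inr hj⟩

theorem eqv_symm (hAB : Eqv V Z R A B) : Eqv V Z R B A :=
  ⟨hAB.r, hAB.l, hAB.or.imp (fun ⟨L, h1, h2, h3, h4⟩ => ⟨L, h1, h2, h4, h3⟩) fun h1 => h.sym _ _ _ h1⟩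

theorem eqv_trans (h1 : Eqv V Z R A B) (h2 : Eqv V Z R B C) : Eqv V Z R A C := by
  refine ⟨h1.l, h2.r, ?_⟩
  by_cases hL : ∃ L, IsCj V L ∧ R ≤ L ∧ A ≤ L ∧ C ≤ L
  · exact Or.inl hL
  rcases h1.or with ⟨L, a1, a2, a3, a4⟩ | h3
  · rcases h2.or with ⟨M, b1, b2, b3, b4⟩ | h4
    · obtain rfl := h.line_unique h1.r.right h1.r.left h1.r.ne.symm a1 b1 a2 a4 b2 b3
      exact Or.inl ⟨L, a1, a2, a3, b4⟩
    · exact Or.inr (h.jo_line_left h4 h1.l a1 a2 a4 a3)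
  · rcases h2.or with ⟨M, b1, b2, b3, b4⟩ | h4
    · exact Or.inr (h.jo_line_right h3 h2.r b1 b2 b3 b4)
    · exact Or.inr (h.trans _ _ _ _ h3 h4 fun L h5 h6 h7 h8 => hL ⟨L, h5, h6, h7, h8⟩)

theorem eqv_iff (h1 : Eqv V Z R A B) (E : Subgroup G) : Eqv V Z R A E ↔ Eqv V Z R B E :=
  ⟨fun h2 => h.eqv_trans (h.eqv_symm h1) h2, fun h2 => h.eqv_trans h1 h2⟩

theorem jo_of_eqv (h1 : Eqv V Z R A B) (hne : ∀ L, IsCj V L → R ≤ L → A ≤ L → ¬ B ≤ L) : Jo V Z R A B := by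
  rcases h1.or with ⟨L, a1, a2, a3, a4⟩ | h3
  · exact absurd a4 (hne L a1 a2 a3)
  · exact h3

/-- joined points are on different lines -/
theorem jo_ne (hj : Jo V Z R A B) (hL : IsCj V L) (hRL : R ≤ L) (hAL : A ≤ L) : ¬ B ≤ L := fun h1 =>
  (h.jo_iff hj.l hj.r).1 hj (h1.trans (h.line_le_cw hL hRL hAL))

/-- an element of a line with a point equivalent to `A` -/
theorem of_line (hE : Eqv V Z R A E) (hL : IsCj V L) (hRL : R ≤ L) (hEL : E ≤ L) (hLH : L ≤ H) {x : G} (hx : x ∈ L) :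
    x ∈ R ∨ ∃ E', Eqv V Z R A E' ∧ E' ≤ H ∧ x ∈ E' := by
  by_cases hxR : x ∈ R
  · exact Or.inl hxR
  obtain ⟨X, hX, hXL, hxX⟩ := h.exists_point hL hx (fun e => hxR (e ▸ one_mem _))
  have hXR : Adj V Z X R := ⟨hX, hE.r.right, fun e => hxR (e ▸ hxX), L, hL, hXL, hRL⟩
  exact Or.inr ⟨X, h.eqv_trans hE (h.eqv_line hE.r hXR hL hRL hEL hXL), hXL.trans hLH, hxX⟩

/-- the main step: products -/
theorem mul_mem' (hRH : R ≤ H) {u v : G} (hu : u ∈ R ∨ ∃ E, Eqv V Z R A E ∧ E ≤ H ∧ u ∈ E)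
    (hv : v ∈ R ∨ ∃ E, Eqv V Z R A E ∧ E ≤ H ∧ v ∈ E) : u * v ∈ R ∨ ∃ E, Eqv V Z R A E ∧ E ≤ H ∧ u * v ∈ E := by
  rcases hu with hu | ⟨E, hE, hEH, hu⟩
  · rcases hv with hv | ⟨F, hF, hFH, hv⟩
    · exact Or.inl (mul_mem hu hv)
    · obtain ⟨L, hL, hFL, hRL⟩ := hF.r.line
      exact h.of_line hF hL hRL hFL (h.line_le' hF.r.right hF.r.left hF.r.ne hL hRL hFL hRH hFH)
        (mul_mem (hRL hu) (hFL hv))
  · obtain ⟨L, hL, hEL, hRL⟩ := hE.r.line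
    have hLH := h.line_le' hE.r.right hE.r.left hE.r.ne hL hRL hEL hRH hEH
    rcases hv with hv | ⟨F, hF, hFH, hv⟩
    · exact h.of_line hE hL hRL hEL hLH (mul_mem (hEL hu) (hRL hv))
    · by_cases hFL : F ≤ L
      · exact h.of_line hE hL hRL hEL hLH (mul_mem (hEL hu) (hFL hv))
      by_cases hv1 : v = 1
      · rw [hv1, mul_one]
        exact Or.inr ⟨E, hE, hEH, hu⟩
      have hj : Jo V Z R E F := by
        refine h.jo_of_eqv (h.eqv_trans (h.eqv_symm hE) hF) fun M hM hRM hEM hFM => hFL ?_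
        rwa [h.line_unique hE.r.right hE.r.left hE.r.ne.symm hL hM hRL hEL hRM hEM]
      obtain ⟨g, hg, hgv⟩ := h.val R E F hj v hv hv1 u hu
      have e : u * v = g * v * g⁻¹ := by rw [← hgv]; group
      have h1 := hj.cj g
      rw [h.cj_UU_adj hg hE.r, h.cj_UU hg hE.r.left] at h1
      refine Or.inr ⟨PT.cj g F, h.eqv_trans hE (h.eqv_jo h1), ?_, by rw [e]; exact conj_mem_cj hv⟩
      exact (h.cj_le_sup hE.r hF.r hg).trans (sup_le hEH hFH)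

/-! ### Blocks -/

/-- **blocks exist** -/
theorem exists_bl (R A : Subgroup G) : ∃ D, IsBl V Z R A D := by
  refine ⟨{ carrier := {u | u ∈ R ∨ ∃ E, Eqv V Z R A E ∧ u ∈ E}
            one_mem' := Or.inl (one_mem _)
            mul_mem' := ?_
            inv_mem' := ?_ }, fun u => Iff.rfl⟩
  · intro u v hu hv
    have h1 := h.mul_mem' (H := ⊤) le_top (hu.imp_right fun ⟨E, a, b⟩ => ⟨E, a, le_top, b⟩)
      (hv.imp_right fun ⟨E, a, b⟩ => ⟨E, a, le_top, b⟩)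
    exact h1.imp_right fun ⟨E, a, _, b⟩ => ⟨E, a, b⟩
  · rintro u (hu | ⟨E, hE, hu⟩)
    · exact Or.inl (inv_mem hu)
    · exact Or.inr ⟨E, hE, inv_mem hu⟩

theorem le_bl (hD : IsBl V Z R A D) (hE : Eqv V Z R A E) : E ≤ D := fun u hu => (hD u).2 (Or.inr ⟨E, hE, hu⟩)

theorem R_le_bl (hD : IsBl V Z R A D) : R ≤ D := fun u hu => (hD u).2 (Or.inl hu)

/-- a point in a good subgroup is equivalent to `A` -/
theorem gd_pt (hH : Gd V Z R A H) (hE : Adj V Z E R) {x : G} (hx : x ∈ E) (hx1 : x ≠ 1) (hxH : x ∈ H) :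
    Eqv V Z R A E ∧ E ≤ H := by
  have hxR : x ∉ R := fun hxR => hE.ne (h.pts_eq hE.left hE.right hx hxR hx1)
  obtain ⟨E', h1, h2, h3⟩ := hH.pt x hxH hxR
  obtain rfl := h.pts_eq hE.left h1.r.left hx h3 hx1
  exact ⟨h1, h2⟩

theorem gd_bl (hD : IsBl V Z R A D) : Gd V Z R A D := by
  refine ⟨h.R_le_bl hD, fun u hu huR => ?_⟩
  rcases (hD u).1 hu with h1 | ⟨E, hE, h1⟩
  · exact absurd h1 huR
  · exact ⟨E, hE, h.le_bl hD hE, h1⟩

theorem bl_pt (hD : IsBl V Z R A D) (hE : Adj V Z E R) (hED : E ≤ D) : Eqv V Z R A E := by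
  obtain ⟨x, hx, hx1⟩ := h.pt_ne_bot hE.left
  exact (h.gd_pt (h.gd_bl hD) hE hx hx1 (hED hx)).1

theorem bl_eq (hD : IsBl V Z R A D) (hD' : IsBl V Z R A' D') (h1 : Eqv V Z R A A') : D = D' :=
  hD.eq_of hD' (h.eqv_iff h1)

/-! ### Good subgroups -/

theorem gd_le_ws (hR : IsCj Z R) (hH : Gd V Z R A H) : H ≤ ws V R := by
  intro u hu
  by_cases huR : u ∈ R
  · exact h.pt_le_ws hR huR
  · obtain ⟨E, hE, -, hu⟩ := hH.pt u hu huR
    exact h.adj_le_ws hE.r.symm hu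

theorem gd_le_bl (hH : Gd V Z R A H) (hD : IsBl V Z R A D) : H ≤ D := by
  intro u hu
  by_cases huR : u ∈ R
  · exact h.R_le_bl hD huR
  · obtain ⟨E, hE, -, hu⟩ := hH.pt u hu huR
    exact h.le_bl hD hE hu

theorem gd_R (R A : Subgroup G) : Gd V Z R A R := ⟨le_rfl, fun _ hu hu' => absurd hu hu'⟩

theorem gd_comm (hH : Gd V Z R A H) (hE : Eqv V Z R A E) : ∀ a ∈ H, ∀ b ∈ E, a * b = b * a := fun _ ha _ hb =>
  h.ws_comm hE.r.right (h.gd_le_ws hE.r.right hH ha) (h.adj_le_ws hE.r.symm hb)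

/-- **`H E` is good** -/
theorem gd_sup (hH : Gd V Z R A H) (hE : Eqv V Z R A E) : Gd V Z R A (H ⊔ E) := by
  refine ⟨hH.le.trans le_sup_left, fun x hx hxR => ?_⟩
  obtain ⟨a, ha, b, hb, rfl⟩ := (mem_sup_comm (h.gd_comm hH hE)).1 hx
  have h1 : a ∈ R ∨ ∃ E', Eqv V Z R A E' ∧ E' ≤ H ⊔ E ∧ a ∈ E' := by
    by_cases haR : a ∈ R
    · exact Or.inl haR
    · obtain ⟨E', h1, h2, h3⟩ := hH.pt a ha haR
      exact Or.inr ⟨E', h1, h2.trans le_sup_left, h3⟩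
  exact (h.mul_mem' (hH.le.trans le_sup_left) h1 (Or.inr ⟨E, hE, le_sup_right, hb⟩)).resolve_left hxR

/-- **`|H E| = |H| |Z|`** -/
theorem card_sup (hH : Gd V Z R A H) (hE : Eqv V Z R A E) (hEH : ¬ E ≤ H) :
    Nat.card (H ⊔ E : Subgroup G) = Nat.card H * Nat.card Z := by
  rw [card_sup_comm (h.gd_comm hH hE), h.card_pt hE.r.left]
  intro x hx hxE
  by_contra hx1
  exact hEH (h.gd_pt hH hE.r hxE hx1 hx).2

/-! ### Transitivity -/

theorem not_le_R (hB : Adj V Z B R) : ¬ B ≤ R := by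
  intro hBR
  obtain ⟨x, hx, hx1⟩ := h.pt_ne_bot hB.left
  exact hB.ne (h.pts_eq hB.left hB.right hx (hBR hx) hx1)

theorem not_le_sup (hB : Adj V Z B R) (hne : ∀ L, IsCj V L → R ≤ L → B ≤ L → ¬ E ≤ L) : ¬ E ≤ R ⊔ B := by
  intro hE
  obtain ⟨L, hL, hBL, hRL⟩ := hB.line
  exact hne L hL hRL hBL (hE.trans (sup_le hRL hBL))

/-- `|R B E| = |Z|³` -/
theorem card_three (hB : Eqv V Z R A B) (hE : Eqv V Z R A E) (hne : ∀ L, IsCj V L → R ≤ L → B ≤ L → ¬ E ≤ L) :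
    Nat.card (R ⊔ B ⊔ E : Subgroup G) = Nat.card Z ^ 3 := by
  rw [h.card_sup (h.gd_sup (h.gd_R R A) hB) hE (h.not_le_sup hB.r hne), h.card_sup (h.gd_R R A) hB (h.not_le_R hB.r),
    h.card_pt hB.r.right]
  ring

/-- **(x)** -/
theorem two_x (hd : JDich V Z) (hj : Jo V Z R A B) (hj' : Jo V Z R A B')
    (hne : ∀ L, IsCj V L → R ≤ L → B ≤ L → ¬ B' ≤ L) (hA : ¬ A ≤ R ⊔ B ⊔ B') :
    ∃ g : G, PT.cj g R = R ∧ PT.cj g A = A ∧ PT.cj g B = B' := by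
  have eB := h.eqv_jo hj
  have eB' := h.eqv_jo hj'
  have jBB : Jo V Z R B' B := h.jo_of_eqv (h.eqv_trans (h.eqv_symm eB') eB) fun L h1 h2 h3 h4 => hne L h1 h2 h4 h3
  obtain ⟨β, hβ, hβ1⟩ := h.pt_ne_bot hj.r.left
  obtain ⟨β', hβ', hβ1'⟩ := h.pt_ne_bot hj'.r.left
  obtain ⟨g, hg, hgβ⟩ := h.val R B' B jBB β hβ hβ1 β' hβ'
  have hYle : PT.cj g B ≤ B' ⊔ B := h.cj_le_sup jBB.l jBB.r hg
  have jY : Jo V Z R B' (PT.cj g B) := by
    have h1 := jBB.cj g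
    rwa [h.cj_UU_adj hg jBB.l, h.cj_UU hg jBB.l.left] at h1
  have hyY : β' * β ∈ PT.cj g B := by
    have e : β' * β = g * β * g⁻¹ := by rw [← hgβ]; group
    rw [e]
    exact conj_mem_cj hβ
  generalize PT.cj g B = Y at hYle jY hyY
  have neYB : ∀ L, IsCj V L → R ≤ L → Y ≤ L → ¬ B ≤ L := by
    intro L hL hRL hYL hBL
    have h1 : β' ∈ L := by
      have h2 := mul_mem (hYL hyY) (inv_mem (hBL hβ))
      rwa [mul_inv_cancel_right] at h2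
    obtain ⟨X, hX, hXL, hβX⟩ := h.exists_point hL h1 hβ1'
    have h3 := h.pts_eq hX hj'.r.left hβX hβ' hβ1'
    exact hne L hL hRL hBL (h3 ▸ hXL)
  have eY : Eqv V Z R A Y := h.eqv_trans eB' (h.eqv_jo jY)
  have jYB : Jo V Z R Y B := h.jo_of_eqv (h.eqv_trans (h.eqv_symm eY) eB) neYB
  rcases hd R Y A B jYB hj.l with h1 | h1
  · obtain ⟨k, hk, hkβ⟩ := h.val R Y B jYB β hβ hβ1 (β' * β) hyY
    obtain ⟨k', hk', h2, h3⟩ := h1 k hk
    have e1 : k * β * k⁻¹ = β' := by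
      have e2 : k * β * k⁻¹ = (k * β * k⁻¹ * β⁻¹) * β := by group
      rw [e2, hkβ, mul_assoc, h.pt_sq hj.r.left hβ, mul_one]
    refine ⟨k', h.cj_UU_adj hk' jYB.l, cj_eq_iff.2 (centralizer_le_normalizer _
      (mem_centralizer_iff.2 fun i hi => (h3 i hi).symm)), ?_⟩
    refine h.pts_eq (hj.r.left.cj k') hj'.r.left (z := β') ?_ hβ' hβ1'
    rw [← e1, ← h2 β hβ]
    exact conj_mem_cj hβ
  · exfalso
    obtain ⟨α, hα, hα1⟩ := h.pt_ne_bot hj.l.left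
    obtain ⟨γ, hγ, h2⟩ := h1 α hα
    have hRH : R ≤ R ⊔ B ⊔ B' := le_sup_left.trans le_sup_left
    have hBH : B ≤ R ⊔ B ⊔ B' := le_sup_right.trans le_sup_left
    have hYH : Y ≤ R ⊔ B ⊔ B' := hYle.trans (sup_le le_sup_right hBH)
    have h3 : α * γ ∈ R ⊔ B ⊔ B' := by
      rcases h.mul_mem' (H := ⊤) le_top (Or.inr ⟨A, h.eqv_refl hj.l, le_top, hα⟩) (Or.inr ⟨B, eB, le_top, hγ⟩) with
        h4 | ⟨E, hE, -, h4⟩
      · exact hRH h4
      · by_cases hL : ∃ L, IsCj V L ∧ R ≤ L ∧ Y ≤ L ∧ E ≤ L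
        · obtain ⟨L, hL, hRL, hYL, hEL⟩ := hL
          exact h.line_le' hE.r.right jYB.l.left jYB.l.ne hL hRL hYL hRH hYH (hEL h4)
        · have jE : Jo V Z R Y E := h.jo_of_eqv (h.eqv_trans (h.eqv_symm eY) hE) fun L a b c d => hL ⟨L, a, b, c, d⟩
          rw [h.inf_cw jE h4 (mem_cw.2 ⟨h.adj_le_ws hE.r.symm h4, h2⟩)]
          exact one_mem _
    have h5 : α ∈ R ⊔ B ⊔ B' := by
      have h6 := mul_mem h3 (inv_mem (hBH hγ))
      rwa [mul_inv_cancel_right] at h6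
    exact hA (h.gd_pt (h.gd_sup (h.gd_sup (h.gd_R R A) eB) eB') hj.l hα hα1 h5).2

/-- **(y)** -/
theorem two (hd : JDich V Z) (hD : IsBl V Z R A D) (h4 : Nat.card Z ^ 4 ≤ Nat.card D) (hj : Jo V Z R A B)
    (hj' : Jo V Z R A B') : ∃ g : G, PT.cj g R = R ∧ PT.cj g A = A ∧ PT.cj g B = B' := by
  have eA := h.eqv_refl hj.l
  have eB := h.eqv_jo hj
  have eB' := h.eqv_jo hj'
  have c1 := h.card_three eA eB fun L hL hRL hAL => h.jo_ne hj hL hRL hAL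
  have c2 := h.card_three eA eB' fun L hL hRL hAL => h.jo_ne hj' hL hRL hAL
  have hs := h.one_lt_card_pt
  have hlt : Nat.card Z ^ 3 < Nat.card D := lt_of_lt_of_le (Nat.pow_lt_pow_right hs (by norm_num)) h4
  have key : ∀ H : Subgroup G, Nat.card H = Nat.card Z ^ 3 → ∃ u ∈ D, u ∉ H := by
    intro H hH
    by_contra hcon
    push Not at hcon
    have h5 : Nat.card D ≤ Nat.card H := Nat.card_le_card_of_injective (Subgroup.inclusion (show D ≤ H from hcon))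
      (Subgroup.inclusion_injective _)
    omega
  obtain ⟨a, ha, ha1⟩ := key _ c1
  obtain ⟨b, hb, hb1⟩ := key _ c2
  obtain ⟨u, hu, hu1, hu2⟩ : ∃ u ∈ D, u ∉ R ⊔ A ⊔ B ∧ u ∉ R ⊔ A ⊔ B' := by
    by_cases ha2 : a ∈ R ⊔ A ⊔ B'
    · by_cases hb2 : b ∈ R ⊔ A ⊔ B
      · refine ⟨a * b, mul_mem ha hb, fun e => ha1 ?_, fun e => hb1 ?_⟩
        · have := mul_mem e (inv_mem hb2)
          rwa [mul_inv_cancel_right] at this
        · have := mul_mem (inv_mem ha2) e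
          rwa [inv_mul_cancel_left] at this
      · exact ⟨b, hb, hb2, hb1⟩
    · exact ⟨a, ha, ha1, ha2⟩
  obtain ⟨E, eE, -, huE⟩ := (h.gd_bl hD).pt u hu fun huR => hu1 (mem_sup_left (mem_sup_left huR))
  have hE1 : ¬ E ≤ R ⊔ A ⊔ B := fun e => hu1 (e huE)
  have hE2 : ¬ E ≤ R ⊔ A ⊔ B' := fun e => hu2 (e huE)
  have nL : ∀ {C H : Subgroup G}, Adj V Z C R → R ≤ H → C ≤ H → ¬ E ≤ H → ∀ L, IsCj V L → R ≤ L → C ≤ L → ¬ E ≤ L := by
    intro C H hC hRH hCH hEH L hL hRL hCL hEL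
    exact hEH (hEL.trans (h.line_le' hC.right hC.left hC.ne hL hRL hCL hRH hCH))
  have jE : Jo V Z R A E := h.jo_of_eqv eE
    (nL hj.l (le_sup_left.trans le_sup_left) (le_sup_right.trans le_sup_left) hE1)
  have nBE := nL hj.r (le_sup_left.trans le_sup_left) le_sup_right hE1
  have nBE' := nL hj'.r (le_sup_left.trans le_sup_left) le_sup_right hE2
  have ex : ∀ {C : Subgroup G}, Eqv V Z R A C → Nat.card (R ⊔ A ⊔ C : Subgroup G) = Nat.card Z ^ 3 →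
      ¬ E ≤ R ⊔ A ⊔ C → (∀ L, IsCj V L → R ≤ L → C ≤ L → ¬ E ≤ L) → ¬ A ≤ R ⊔ C ⊔ E := by
    intro C eC cC hEC nC hA
    have h5 : R ⊔ A ⊔ C ≤ R ⊔ C ⊔ E := sup_le (sup_le (le_sup_left.trans le_sup_left) hA) (le_sup_right.trans le_sup_left)
    have h6 : R ⊔ A ⊔ C = R ⊔ C ⊔ E := Subgroup.eq_of_le_of_card_ge h5 (by rw [h.card_three eC eE nC, cC])
    exact hEC (by rw [h6]; exact le_sup_right)
  obtain ⟨g₁, p1, p2, p3⟩ := h.two_x hd hj jE nBE (ex eB c1 hE1 nBE)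
  have h7 : ¬ A ≤ R ⊔ E ⊔ B' := by
    have := ex eB' c2 hE2 nBE'
    rwa [sup_assoc, sup_comm B' E, ← sup_assoc] at this
  obtain ⟨g₂, q1, q2, q3⟩ := h.two_x hd jE hj' (fun L a1 a2 a3 a4 => nBE' L a1 a2 a4 a3) h7
  exact ⟨g₂ * g₁, by rw [← cj_cj, p1, q1], by rw [← cj_cj, p2, q2], by rw [← cj_cj, p3, q3]⟩

/-- **the field `two`** -/
theorem two' (hd : JDich V Z) (hj : Jo V Z R A B) (hj' : Jo V Z R A' B')
    (h4 : ∀ D, IsBl V Z R A' D → Nat.card Z ^ 4 ≤ Nat.card D) :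
    ∃ g : G, PT.cj g R = R ∧ PT.cj g A = A' ∧ PT.cj g B = B' := by
  obtain ⟨g, hg1, hg2⟩ := h.exists_adj hj.l hj'.l
  have h1 := hj.cj g
  rw [hg1, hg2] at h1
  obtain ⟨D, hD⟩ := h.exists_bl R A'
  obtain ⟨k, hk1, hk2, hk3⟩ := h.two hd hD (h4 D hD) h1 hj'
  exact ⟨k * g, by rw [← cj_cj, hg1, hk1], by rw [← cj_cj, hg2, hk2], by rw [← cj_cj, hk3]⟩

end TE

end Cfsg.Agent.Omega.NO3S.MidB.SL
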