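import Cfsg.Agent.Omega.NO3S.MidB.JDef

/-!
# NO-3S, the `(R, B)`-frame, TYPE N: the output of (a) - (g)

`TG S P V Z` : `MidQ.TNG` without (H3), over `MidB.Mid`.
-/

set_option autoImplicit false

namespace Cfsg.Agent.Omega.NO3S.MidB

open Subgroup Cfsg.Agent.Omega.NO3S.PT
open Cfsg.Agent.Omega.NO3S.MidQ (Adj Com Cr UU cw Jo zu H2)

variable {G : Type*} [Group G]

/-- the output of (a) - (g) -/
structure TG [Finite G] (S : Sylow 2 G) (P V Z : Subgroup G) : Prop extends TF S P V Z where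
  h2 : H2 V Z
  /-- (c) -/
  symm : ∀ R A B, Jo V Z R A B → Jo V Z R B A
  /-- (a) -/
  cent : ∀ R A, Adj V Z A R → ∀ g ∈ UU V Z A, ∀ w ∈ ws V R, g * w = w * g →
    w ∈ cw V Z R A ∨ g ∈ centralizer ((ws V R : Subgroup G) : Set G)
  /-- (d) -/
  infc : ∀ R A B Y, Jo V Z R A B → IsCj Z Y → Y ≤ A ⊔ B → Y ≠ A → ws V A ⊓ ws V Y = ws V A ⊓ ws V B
  /-- (g) -/
  wz : ∀ R A B, Jo V Z R A B → ws V A ⊔ zu V Z R = ws V B ⊔ zu V Z R

end Cfsg.Agent.Omega.NO3S.MidB
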