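import Cfsg.Agent.Omega.NO3S.MidB.TFOne
import Cfsg.Agent.Omega.NO3S.MidB.TGTwo

/-!
# NO-3S, the `(R, B)`-frame, TYPE N: (H2) and (DIST) are contradictory (bb OMEGA #18317 (3))
-/

set_option autoImplicit false

namespace Cfsg.Agent.Omega.NO3S.MidB

open Subgroup
open Cfsg.Agent.Omega.NO3S.MidQ (H2)

variable {G : Type*} [Group G] [Finite G] {S : Sylow 2 G} {P V Z : Subgroup G}

/-- **(3)** -/
theorem TF.false_of_h2 (h : TF S P V Z) (h2 : H2 V Z) (hd : JDist V Z) : False := (h.tg h2).false hd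

end Cfsg.Agent.Omega.NO3S.MidB
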