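import Cfsg.Agent.Omega.NO3S.MidB.LemF
import Cfsg.Agent.Omega.NO3S.MidQ.TypeN
import Cfsg.Agent.Omega.NO3S.MidQ.TNBasic

/-!
# NO-3S, natural lines, critical distance 2, the `(R, B)`-frame: TYPE N, the basic facts

Copy of `MidQ/TypeN.lean` and `MidQ/TNBasic.lean` over `MidB.Mid`; the definitions `TypN`, `cw`, `Jo`, `zu` are those of
`MidQ`.

* `Mid.mid_mem` : `[W_X, W_Y] ≤ R` for `X ~ R ~ Y`;
* `Mid.UU_comm`, `Mid.UU_sq` : (0.a) `[U_R, U_R] ≤ R`, `g² ∈ R` for `g ∈ U_R`;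
* `Mid.UU_ws` : (0.b) `[U_A, W_R] ≤ A` for `A ~ R`;
* `Mid.mid_unique` : (0.c) the middle of a critical pair is unique;
* `Mid.cw_line`, `Mid.jo_iff`, `Mid.jo_line_left`, `Mid.jo_line_right`, `Mid.inf_cw`.
-/

set_option autoImplicit false
set_option linter.unusedSectionVars false

namespace Cfsg.Agent.Omega.NO3S.MidB

open Subgroup Cfsg.Agent.Omega.NO3S.PT Cfsg.Agent.Omega.NoFF.Basic Cfsg.Agent.ZN
open Cfsg.Agent.Omega.NO3S.MidQ (Adj Com Cr UU ws_of kx_of isCj_iff adj_iff com_iff cr_iff UU_of isCj_symm isCj_trans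
  com_cj UU_cj le_UU normalizer_le_UU isPGroup_sSup FlagCan PtCan ff mem_ff ff_cj TypN cw mem_cw cw_le cw_cj Jo jo_cj zu)
open scoped Pointwise

variable {G : Type*} [Group G]

variable [Finite G] {S : Sylow 2 G} {P V Z X Y R A B L : Subgroup G}

namespace Mid

theorem comm_one {a b : G} (h : a * b = b * a) : a * b * a⁻¹ * b⁻¹ = 1 := by rw [h]; group

theorem comm_eq {a b : G} (h : a * b * a⁻¹ * b⁻¹ = 1) : a * b = b * a := by
  rwa [mul_inv_eq_one, mul_inv_eq_iff_eq_mul] at h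

variable (h : Mid S P V Z)
include h

theorem adj_le_ws' (hXY : Adj V Z X Y) : X ≤ ws V Y := h.adj_le_ws hXY.symm

/-- elements of `U_R` are 2-elements -/
theorem two_UU {g : G} (hg : g ∈ UU V Z R) : TwoEl g := by
  obtain ⟨n, hn⟩ := h.isPGroup_UU R ⟨g, hg⟩
  exact ⟨n, by simpa using congrArg Subtype.val hn⟩

theorem two_ws (hX : IsCj Z X) {g : G} (hg : g ∈ ws V X) : TwoEl g := ⟨1, by
  rw [pow_one, pow_two]; exact h.ws_sq hX hg⟩

/-- an element commuting with an element of `X#` normalises `X` -/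
theorem fix_of_comm (hX : IsCj Z X) {g z : G} (hz : z ∈ X) (hz1 : z ≠ 1) (hgz : g * z = z * g) : cj g X = X := by
  refine h.pts_eq (hX.cj g) hX (z := z) ?_ hz hz1
  rw [mem_cj, mul_assoc, ← hgz, inv_mul_cancel_left]
  exact hz

theorem pt_sq (hX : IsCj Z X) {x : G} (hx : x ∈ X) : x * x = 1 := h.ws_sq hX (h.pt_le_ws hX hx)

theorem ws_inv (hX : IsCj Z X) {w : G} (hw : w ∈ ws V X) : w⁻¹ = w :=
  inv_eq_of_mul_eq_one_left (h.ws_sq hX hw)

theorem pt_inf (hX : IsCj Z X) (hY : IsCj Z Y) (hne : X ≠ Y) {u : G} (hu : u ∈ X) (hu' : u ∈ Y) : u = 1 := by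
  by_contra hu1
  exact hne (h.pts_eq hX hY hu hu' hu1)

/-- the line through two points is their product -/
theorem line_eq (hX : IsCj Z X) (hY : IsCj Z Y) (hne : X ≠ Y) (hL : IsCj V L) (h1 : X ≤ L) (h2 : Y ≤ L) {v : G}
    (hv : v ∈ L) : ∃ x ∈ X, ∃ y ∈ Y, v = x * y := by
  obtain ⟨T, Q, h'⟩ := h.flag hX hL h1
  obtain ⟨x, hx, y, hy, e⟩ := h'.pl.exists_mul h'.pl.isCj_self h1 ((isCj_iff hX).2 hY) h2 hne hv
  exact ⟨x, hx, y, hy, e⟩

theorem line_le_of (hX : IsCj Z X) (hY : IsCj Z Y) (hne : X ≠ Y) (hL : IsCj V L) (h1 : X ≤ L) (h2 : Y ≤ L)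
    {H : Subgroup G} (hXH : X ≤ H) (hYH : Y ≤ H) : L ≤ H := by
  intro v hv
  obtain ⟨x, hx, y, hy, rfl⟩ := h.line_eq hX hY hne hL h1 h2 hv
  exact mul_mem (hXH hx) (hYH hy)

/-- `U_A` fixes `R` if `A ~ R` -/
theorem UU_norm_UU (hA : Adj V Z A R) : UU V Z A ≤ normalizer ((UU V Z R : Subgroup G) : Set G) :=
  (h.UU_le_cent_adj hA.symm).trans ((centralizer_le_normalizer _).trans (normalizer_le_UU V Z R))

theorem UU_norm_ws (hA : Adj V Z A R) : UU V Z A ≤ normalizer ((ws V R : Subgroup G) : Set G) :=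
  (h.UU_le_cent_adj hA.symm).trans ((centralizer_le_normalizer _).trans (normalizer_le_ws V R))

/-- `W_Y` normalises `W_X` and `U_X`.. if `X ~ R ~ Y` -/
theorem ws_norm_UU (hXR : Adj V Z X R) (hRY : Adj V Z R Y) : ws V X ≤ normalizer ((UU V Z Y : Subgroup G) : Set G) :=
  (h.ws_le_cent hXR hRY).trans ((centralizer_le_normalizer _).trans (normalizer_le_UU V Z Y))

variable (hN : TypN V Z)
include hN

/-- `[W_X, W_Y] ≤ R` for `X ~ R ~ Y` -/
theorem mid_mem (hX : Adj V Z X R) (hY : Adj V Z R Y) {a b : G} (ha : a ∈ ws V X) (hb : b ∈ ws V Y) :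
    a * b * a⁻¹ * b⁻¹ ∈ R := by
  by_cases hc : Com V X Y
  · rw [comm_one (mem_centralizer_iff.1 (hc ha) b hb).symm]
    exact one_mem _
  · exact hN X R Y ⟨hX, hY, hc⟩ a ha b hb

/-- **(0.c)** the middle is unique -/
theorem mid_unique {R' : Subgroup G} (hc : Cr V Z X R Y) (h1 : Adj V Z X R') (h2 : Adj V Z R' Y) : R' = R := by
  by_contra hne
  refine hc.ne fun a ha => mem_centralizer_iff.2 fun b hb => ?_
  have h3 := h.mid_mem hN hc.l hc.r ha hb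
  have h4 := h.mid_mem hN h1 h2 ha hb
  exact (comm_eq (h.pt_inf h1.right hc.l.right hne h4 h3)).symm

/-- **(0.a)** `[U_R, U_R] ≤ R` -/
theorem UU_comm (hR : IsCj Z R) {g k : G} (hg : g ∈ UU V Z R) (hk : k ∈ UU V Z R) : g * k * g⁻¹ * k⁻¹ ∈ R := by
  have hcen : ∀ x ∈ R, ∀ u ∈ UU V Z R, u * x = x * u := fun x hx u hu =>
    (mem_centralizer_iff.1 (h.UU_le_cent_pt hR hu) x hx).symm
  -- first: one element in some `W_B`
  have step : ∀ B, Adj V Z B R → ∀ k ∈ ws V B, ∀ g ∈ UU V Z R, g * k * g⁻¹ * k⁻¹ ∈ R := by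
    intro B hB k hk
    have hkU := le_UU hB hk
    let E : Subgroup G :=
      { carrier := {g | g ∈ centralizer (R : Set G) ∧ g * k * g⁻¹ * k⁻¹ ∈ R}
        one_mem' := ⟨one_mem _, by simp⟩
        mul_mem' := by
          rintro a b ⟨ha, ha'⟩ ⟨hb, hb'⟩
          refine ⟨mul_mem ha hb, ?_⟩
          have e : a * b * k * (a * b)⁻¹ * k⁻¹ = a * (b * k * b⁻¹ * k⁻¹) * a⁻¹ * (a * k * a⁻¹ * k⁻¹) := by group
          rw [e, ← mem_centralizer_iff.1 ha _ hb', mul_inv_cancel_right]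
          exact R.mul_mem hb' ha'
        inv_mem' := by
          rintro a ⟨ha, ha'⟩
          refine ⟨inv_mem ha, ?_⟩
          have e : a⁻¹ * k * a⁻¹⁻¹ * k⁻¹ = a⁻¹ * (a * k * a⁻¹ * k⁻¹)⁻¹ * a := by group
          rw [e, mul_assoc, mem_centralizer_iff.1 ha _ (R.inv_mem ha'), inv_mul_cancel_left]
          exact R.inv_mem ha' }
    have hE : UU V Z R ≤ E := by
      refine sSup_le ?_
      rintro _ ⟨C, hC, rfl⟩ c hc
      exact ⟨h.UU_le_cent_pt hR (le_UU hC hc), h.mid_mem hN hC hB.symm hc hk⟩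
    exact fun g hg => (hE hg).2
  let E : Subgroup G :=
    { carrier := {k | k ∈ centralizer (R : Set G) ∧ g * k * g⁻¹ * k⁻¹ ∈ R}
      one_mem' := ⟨one_mem _, by simp⟩
      mul_mem' := by
        rintro a b ⟨ha, ha'⟩ ⟨hb, hb'⟩
        refine ⟨mul_mem ha hb, ?_⟩
        have e : g * (a * b) * g⁻¹ * (a * b)⁻¹ = g * a * g⁻¹ * a⁻¹ * (a * (g * b * g⁻¹ * b⁻¹) * a⁻¹) := by group
        rw [e, ← mem_centralizer_iff.1 ha _ hb', mul_inv_cancel_right]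
        exact R.mul_mem ha' hb'
      inv_mem' := by
        rintro a ⟨ha, ha'⟩
        refine ⟨inv_mem ha, ?_⟩
        have e : g * a⁻¹ * g⁻¹ * a⁻¹⁻¹ = a⁻¹ * (g * a * g⁻¹ * a⁻¹)⁻¹ * a := by group
        rw [e, mul_assoc, mem_centralizer_iff.1 ha _ (R.inv_mem ha'), inv_mul_cancel_left]
        exact R.inv_mem ha' }
  have hE : UU V Z R ≤ E := by
    refine sSup_le ?_
    rintro _ ⟨C, hC, rfl⟩ c hc
    exact ⟨h.UU_le_cent_pt hR (le_UU hC hc), step C hC c hc g hg⟩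
  exact (hE hk).2

/-- **(0.a)** `g² ∈ R` for `g ∈ U_R` -/
theorem UU_sq (hR : IsCj Z R) {g : G} (hg : g ∈ UU V Z R) : g * g ∈ R := by
  let E : Subgroup G :=
    { carrier := {g | g ∈ UU V Z R ∧ g * g ∈ R}
      one_mem' := ⟨one_mem _, by simp⟩
      mul_mem' := by
        rintro a b ⟨ha, ha'⟩ ⟨hb, hb'⟩
        refine ⟨mul_mem ha hb, ?_⟩
        have e : a * b * (a * b) = a * a * (a⁻¹ * b * a⁻¹⁻¹ * b⁻¹) * (b * b) := by group
        rw [e]
        exact R.mul_mem (R.mul_mem ha' (h.UU_comm hN hR (inv_mem ha) hb)) hb'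
      inv_mem' := by
        rintro a ⟨ha, ha'⟩
        refine ⟨inv_mem ha, ?_⟩
        have e : a⁻¹ * a⁻¹ = (a * a)⁻¹ := by group
        rw [e]
        exact R.inv_mem ha' }
  have hE : UU V Z R ≤ E := by
    refine sSup_le ?_
    rintro _ ⟨C, hC, rfl⟩ c hc
    exact ⟨le_UU hC hc, by rw [h.ws_sq hC.left hc]; exact one_mem _⟩
  exact (hE hg).2

/-- **(0.b)** `[U_A, W_R] ≤ A` for `A ~ R` -/
theorem UU_ws (hA : Adj V Z A R) {g w : G} (hg : g ∈ UU V Z A) (hw : w ∈ ws V R) : g * w * g⁻¹ * w⁻¹ ∈ A := by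
  have hcen : ∀ x ∈ A, ∀ u ∈ UU V Z A, u * x = x * u := fun x hx u hu =>
    (mem_centralizer_iff.1 (h.UU_le_cent_pt hA.left hu) x hx).symm
  let E : Subgroup G :=
    { carrier := {g | g ∈ centralizer (A : Set G) ∧ g * w * g⁻¹ * w⁻¹ ∈ A}
      one_mem' := ⟨one_mem _, by simp⟩
      mul_mem' := by
        rintro a b ⟨ha, ha'⟩ ⟨hb, hb'⟩
        refine ⟨mul_mem ha hb, ?_⟩
        have e : a * b * w * (a * b)⁻¹ * w⁻¹ = a * (b * w * b⁻¹ * w⁻¹) * a⁻¹ * (a * w * a⁻¹ * w⁻¹) := by group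
        rw [e, ← mem_centralizer_iff.1 ha _ hb', mul_inv_cancel_right]
        exact A.mul_mem hb' ha'
      inv_mem' := by
        rintro a ⟨ha, ha'⟩
        refine ⟨inv_mem ha, ?_⟩
        have e : a⁻¹ * w * a⁻¹⁻¹ * w⁻¹ = a⁻¹ * (a * w * a⁻¹ * w⁻¹)⁻¹ * a := by group
        rw [e, mul_assoc, mem_centralizer_iff.1 ha _ (A.inv_mem ha'), inv_mul_cancel_left]
        exact A.inv_mem ha' }
  have hE : UU V Z A ≤ E := by
    refine sSup_le ?_
    rintro _ ⟨C, hC, rfl⟩ c hc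
    exact ⟨h.UU_le_cent_pt hA.left (le_UU hC hc), h.mid_mem hN hC hA hc hw⟩
  exact (hE hg).2

end Mid

/-! ### `cw`, `Jo` (`MidQ/TNBasic.lean`) -/

namespace Mid

variable {A' B' : Subgroup G} (h : Mid S P V Z)
include h

theorem twoEl_UU {u : G} (hu : u ∈ UU V Z R) : TwoEl u := twoEl_of_isPGroup (h.isPGroup_UU R) hu

theorem twoEl_ws (hX : IsCj Z X) {u : G} (hu : u ∈ ws V X) : TwoEl u := twoEl_of_isPGroup (h.isPGroup_ws hX) hu

theorem R_le_cw (hA : Adj V Z A R) : R ≤ cw V Z R A := by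
  intro x hx
  rw [mem_cw]
  refine ⟨h.pt_le_ws hA.right hx, fun u hu => ?_⟩
  exact (mem_centralizer_iff.1 (h.UU_le_cent_adj hA.symm hu) x hx).symm

/-- `C_{W_R}(U_A)` depends only on the line `RA` -/
theorem cw_line (hA : Adj V Z A R) (hA' : Adj V Z A' R) (hL : IsCj V L) (hRL : R ≤ L) (hAL : A ≤ L)
    (hAL' : A' ≤ L) : cw V Z R A = cw V Z R A' := by
  obtain ⟨k, hk, rfl⟩ := h.K_trans hA.right hL hRL hA.left hAL hA'.left hAL' hA.ne hA'.ne
  have hkR : PT.cj k R = R := cj_eq_iff.2 (kx_normalizes le_rfl (h.pt_le_ws hA.right) hk)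
  have h1 := cw_cj V Z R A k
  rw [hkR] at h1
  rw [h1]
  exact (cj_eq_iff.2 (kx_normalizes (h.R_le_cw hA) cw_le hk)).symm

/-- `V_{RA} ≤ C_{W_R}(U_A)` -/
theorem line_le_cw (hL : IsCj V L) (hRL : R ≤ L) (hAL : A ≤ L) : L ≤ cw V Z R A := by
  intro x hx
  rw [mem_cw]
  refine ⟨le_ws hL hRL hx, fun u hu => ?_⟩
  exact (mem_centralizer_iff.1 (h.UU_le_centralizer A hu) x (le_ws hL hAL hx)).symm

theorem jo_iff (hA : Adj V Z A R) (hB : Adj V Z B R) : Jo V Z R A B ↔ ¬ B ≤ cw V Z R A := by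
  constructor
  · rintro ⟨-, -, h3⟩ h4
    exact h3 (h4.trans inf_le_right)
  · intro h3
    exact ⟨hA, hB, fun h4 => h3 (le_inf (h.adj_le_ws hB.symm) h4)⟩

/-- `Jo` depends only on the lines -/
theorem jo_line_left (hj : Jo V Z R A B) (hA' : Adj V Z A' R) (hL : IsCj V L) (hRL : R ≤ L) (hAL : A ≤ L)
    (hAL' : A' ≤ L) : Jo V Z R A' B := by
  rw [h.jo_iff hA' hj.r, ← h.cw_line hj.l hA' hL hRL hAL hAL', ← h.jo_iff hj.l hj.r]
  exact hj

/-- a line through `R` is in `U_A`-centralised part as soon as one of its points `≠ R` is -/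
theorem line_le_of_pt (hA : Adj V Z A R) (hB : Adj V Z B R) (hL : IsCj V L) (hRL : R ≤ L) (hBL : B ≤ L)
    (hBC : B ≤ cw V Z R A) : L ≤ cw V Z R A := by
  obtain ⟨T, Q, h'⟩ := h.flag hB.right hL hRL
  intro v hv
  have h1 : v ∈ L := hv
  obtain ⟨x, hx, y, hy, rfl⟩ := h'.pl.exists_mul h'.pl.isCj_self hRL ((isCj_iff hB.right).2 hB.left) hBL
    hB.ne.symm h1
  exact mul_mem (h.R_le_cw hA hx) (hBC hy)

theorem jo_line_right (hj : Jo V Z R A B) (hB' : Adj V Z B' R) (hL : IsCj V L) (hRL : R ≤ L) (hBL : B ≤ L)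
    (hBL' : B' ≤ L) : Jo V Z R A B' := by
  rw [h.jo_iff hj.l hB']
  intro h1
  exact (h.jo_iff hj.l hj.r).1 hj (hBL.trans (h.line_le_of_pt hj.l hB' hL hRL hBL' h1))

/-- `B ∩ C_{W_R}(U_A) = 1` if `A → B` -/
theorem inf_cw (hj : Jo V Z R A B) {x : G} (hx : x ∈ B) (hx' : x ∈ cw V Z R A) : x = 1 := by
  by_contra hx1
  refine hj.mv fun y hy => mem_centralizer_iff.2 fun u hu => ?_
  exact h.t3 hj.r.symm (h.twoEl_UU hu) (fun z hz => ((mem_cw.1 (h.R_le_cw hj.l hz)).2 u hu)) hx hx1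
    ((mem_cw.1 hx').2 u hu) y hy

end Mid

end Cfsg.Agent.Omega.NO3S.MidB
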